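import Mathlib
import Cfsg.Agent.S1463

/-!
Odd-order solvable subgroups of `GL₂(F)`, `F` of odd characteristic `p`: the derived subgroup has
exponent dividing `p` (`derived_pow`); the `p'`-ones are abelian (`abelian_of_coprime`).
-/

set_option autoImplicit false

namespace Cfsg.Agent.Lib.Helper9.GL2Odd

open Matrix
open scoped commutatorElement

variable {F : Type*} [Field F]

omit [Field F] in
theorem ext2 {M N : Matrix (Fin 2) (Fin 2) F} (h00 : M 0 0 = N 0 0) (h01 : M 0 1 = N 0 1)
    (h10 : M 1 0 = N 1 0) (h11 : M 1 1 = N 1 1) : M = N := by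
  ext i j
  fin_cases i <;> fin_cases j <;> assumption

/-- Cayley–Hamilton for `2 × 2` matrices. -/
theorem cayley (M : Matrix (Fin 2) (Fin 2) F) :
    M * M = M.trace • M - M.det • (1 : Matrix (Fin 2) (Fin 2) F) := by
  apply ext2 <;>
    simp [Matrix.mul_apply, Fin.sum_univ_two, Matrix.det_fin_two, Matrix.trace_fin_two] <;> ring

/-- The centralizer of a non-scalar `2 × 2` matrix `n` is `F + F n`. -/
theorem comm_span (n m : Matrix (Fin 2) (Fin 2) F)
    (hn : ∀ c : F, n ≠ c • (1 : Matrix (Fin 2) (Fin 2) F)) (h : m * n = n * m) :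
    ∃ α β : F, m = α • (1 : Matrix (Fin 2) (Fin 2) F) + β • n := by
  have h00 := congrFun (congrFun h 0) 0
  have h01 := congrFun (congrFun h 0) 1
  have h10 := congrFun (congrFun h 1) 0
  simp only [Matrix.mul_apply, Fin.sum_univ_two] at h00 h01 h10
  by_cases hb : n 0 1 = 0
  · by_cases hc : n 1 0 = 0
    · have had : n 0 0 - n 1 1 ≠ 0 := by
        intro had
        apply hn (n 0 0)
        apply ext2 <;> simp [hb, hc]
        linear_combination -had
      rw [hb] at h00 h01
      rw [hc] at h00 h10
      have hy : m 0 1 = 0 := by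
        have : m 0 1 * (n 0 0 - n 1 1) = 0 := by linear_combination -h01
        rcases mul_eq_zero.mp this with h | h
        · exact h
        · exact absurd h had
      have hz : m 1 0 = 0 := by
        have : m 1 0 * (n 0 0 - n 1 1) = 0 := by linear_combination h10
        rcases mul_eq_zero.mp this with h | h
        · exact h
        · exact absurd h had
      refine ⟨m 0 0 - (m 0 0 - m 1 1) / (n 0 0 - n 1 1) * n 0 0,
        (m 0 0 - m 1 1) / (n 0 0 - n 1 1), ?_⟩
      apply ext2 <;> simp [hb, hc, hy, hz]
      field_simp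
      ring
    · rw [hb] at h00 h01
      have hy : m 0 1 = 0 := by
        have : m 0 1 * n 1 0 = 0 := by linear_combination h00
        rcases mul_eq_zero.mp this with h | h
        · exact h
        · exact absurd h hc
      refine ⟨m 0 0 - m 1 0 / n 1 0 * n 0 0, m 1 0 / n 1 0, ?_⟩
      apply ext2 <;> simp [hb, hy]
      · field_simp
      · field_simp
        linear_combination h10
  · refine ⟨m 0 0 - m 0 1 / n 0 1 * n 0 0, m 0 1 / n 0 1, ?_⟩
    apply ext2 <;> simp
    · field_simp
    · field_simp
      linear_combination -h00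
    · field_simp
      linear_combination -h01

theorem lin_indep (n : Matrix (Fin 2) (Fin 2) F)
    (hn : ∀ c : F, n ≠ c • (1 : Matrix (Fin 2) (Fin 2) F)) (a b : F)
    (h : a • (1 : Matrix (Fin 2) (Fin 2) F) + b • n = 0) : a = 0 ∧ b = 0 := by
  by_cases hb : b = 0
  · subst hb
    refine ⟨?_, rfl⟩
    have := congrFun (congrFun h 0) 0
    simpa using this
  · exfalso
    apply hn (-a / b)
    have h1 : b • n = (-a) • (1 : Matrix (Fin 2) (Fin 2) F) := by
      rw [neg_smul]
      exact eq_neg_of_add_eq_zero_right h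
    have h2 : n = b⁻¹ • (b • n) := by
      rw [smul_smul, inv_mul_cancel₀ hb, one_smul]
    rw [h2, h1, smul_smul]
    congr 1
    field_simp

theorem nilp_pow (ν : Matrix (Fin 2) (Fin 2) F) (lam : F) (hν : ν * ν = 0) (j : ℕ) :
    (lam • (1 : Matrix (Fin 2) (Fin 2) F) + ν) ^ (j + 1) =
      lam ^ (j + 1) • (1 : Matrix (Fin 2) (Fin 2) F) + ((j + 1 : ℕ) * lam ^ j) • ν := by
  induction j with
  | zero => simp
  | succ j ih =>
    rw [pow_succ, ih]
    simp only [mul_add, add_mul, smul_mul_assoc, mul_smul_comm, one_mul, mul_one, hν, smul_zero,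
      add_zero]
    push_cast
    module

theorem two_ne_zero' (p : ℕ) [Fact p.Prime] [CharP F p] (hp : p ≠ 2) : (2 : F) ≠ 0 := by
  intro h
  have h1 : ((2 : ℕ) : F) = 0 := by exact_mod_cast h
  rw [CharP.cast_eq_zero_iff F p] at h1
  have hpp : p.Prime := Fact.out
  exact hp ((Nat.prime_dvd_prime_iff_eq hpp Nat.prime_two).mp h1)

/-- If a conjugate `h n h⁻¹` of a `p'`-element `n` by an element `h` of odd order commutes
with `n`, then it is equal to `n`. -/
theorem conj_eq (p : ℕ) [Fact p.Prime] [CharP F p] (hp : p ≠ 2)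
    (n h hi : Matrix (Fin 2) (Fin 2) F) (hhi : h * hi = 1) (hih : hi * h = 1)
    (k : ℕ) (hk : h ^ (2 * k + 1) = 1) (j : ℕ) (hj : n ^ (j + 1) = 1) (hjp : ¬ p ∣ j + 1)
    (hcomm : (h * n * hi) * n = n * (h * n * hi)) : h * n * hi = n := by
  have h2 : (2 : F) ≠ 0 := two_ne_zero' p hp
  by_cases hn : ∀ c : F, n ≠ c • (1 : Matrix (Fin 2) (Fin 2) F)
  · obtain ⟨α, β, hm⟩ := comm_span n (h * n * hi) hn hcomm
    obtain ⟨t, ht⟩ : ∃ t, t = n.trace := ⟨_, rfl⟩
    obtain ⟨δ, hδ⟩ : ∃ δ, δ = n.det := ⟨_, rfl⟩
    have htr : (h * n * hi).trace = t := by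
      rw [Matrix.trace_mul_comm, ← mul_assoc, hih, one_mul, ht]
    have hdet : (h * n * hi).det = δ := by
      rw [Matrix.det_mul, Matrix.det_mul, mul_comm, ← mul_assoc, ← Matrix.det_mul, hih,
        Matrix.det_one, one_mul, hδ]
    have hT : 2 * α + β * t = t := by
      have h3 := htr
      rw [hm, Matrix.trace_add, Matrix.trace_smul, Matrix.trace_smul, Matrix.trace_one, ← ht] at h3
      simp only [Fintype.card_fin, smul_eq_mul, Nat.cast_ofNat] at h3
      linear_combination h3
    have hcm := cayley (h * n * hi)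
    rw [htr, hdet] at hcm
    have hcn := cayley n
    rw [← ht, ← hδ] at hcn
    have hK : α ^ 2 - β ^ 2 * δ = t * α - δ := by
      have h3 : (α ^ 2 - β ^ 2 * δ - (t * α - δ)) • (1 : Matrix (Fin 2) (Fin 2) F) +
          (2 * α * β + β ^ 2 * t - t * β) • n = 0 := by
        have h4 : (α • (1 : Matrix (Fin 2) (Fin 2) F) + β • n) *
            (α • (1 : Matrix (Fin 2) (Fin 2) F) + β • n) =
            t • (α • (1 : Matrix (Fin 2) (Fin 2) F) + β • n) -
              δ • (1 : Matrix (Fin 2) (Fin 2) F) := by
          rw [← hm]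
          exact hcm
        simp only [mul_add, add_mul, smul_mul_assoc, mul_smul_comm, one_mul, mul_one, hcn] at h4
        linear_combination (norm := module) h4
      exact sub_eq_zero.mp (lin_indep n hn _ _ h3).1
    have key : (1 - β) * (1 + β) * (4 * δ - t ^ 2) = 0 := by
      linear_combination 4 * hK + (β * t - 2 * α + t) * hT
    rcases mul_eq_zero.mp key with h5 | h5
    · rcases mul_eq_zero.mp h5 with h6 | h6
      · have hβ : β = 1 := by linear_combination -h6
        have hα : α = 0 := by
          have : 2 * α = 0 := by rw [hβ] at hT; linear_combination hT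
          rcases mul_eq_zero.mp this with h7 | h7
          · exact absurd h7 h2
          · exact h7
        rw [hm, hα, hβ, zero_smul, zero_add, one_smul]
      · have hβ : β = -1 := by linear_combination h6
        have hα : α = t := by
          have : 2 * (α - t) = 0 := by rw [hβ] at hT; linear_combination hT
          rcases mul_eq_zero.mp this with h7 | h7
          · exact absurd h7 h2
          · exact sub_eq_zero.mp h7
        have hm' : h * n * hi = t • (1 : Matrix (Fin 2) (Fin 2) F) - n := by
          rw [hm, hα, hβ]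
          module
        have h8 : h * (h * n * hi) * hi = n := by
          rw [hm', mul_sub, sub_mul, mul_smul_comm, smul_mul_assoc, mul_one, hhi, hm']
          module
        have h9 : (h * h) * n = n * (h * h) := by
          calc (h * h) * n = (h * h) * n * (hi * (hi * h) * h) := by
                rw [hih, mul_one, hih, mul_one]
            _ = (h * (h * n * hi) * hi) * (h * h) := by simp only [mul_assoc]
            _ = n * (h * h) := by rw [h8]
        have h10 : Commute ((h * h) ^ (k + 1)) n := Commute.pow_left h9 (k + 1)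
        have h11 : (h * h) ^ (k + 1) = h := by
          rw [← pow_two, ← pow_mul, show 2 * (k + 1) = (2 * k + 1) + 1 by ring, pow_succ, hk,
            one_mul]
        rw [h11] at h10
        rw [h10.eq, mul_assoc, hhi, mul_one]
    · exfalso
      obtain ⟨lam, hlam⟩ : ∃ lam : F, 2 * lam = t := ⟨t / 2, by field_simp⟩
      have hδ2 : δ = lam ^ 2 := by
        have : (2 * 2 : F) * (δ - lam ^ 2) = 0 := by
          rw [← hlam] at h5
          linear_combination h5
        rcases mul_eq_zero.mp this with h7 | h7
        · exact absurd h7 (mul_ne_zero h2 h2)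
        · exact sub_eq_zero.mp h7
      obtain ⟨ν, hν⟩ : ∃ ν, ν = n - lam • (1 : Matrix (Fin 2) (Fin 2) F) := ⟨_, rfl⟩
      have hνν : ν * ν = 0 := by
        rw [hν]
        simp only [mul_sub, sub_mul, smul_mul_assoc, mul_smul_comm, one_mul, mul_one, hcn]
        rw [← hlam, hδ2]
        module
      have hn' : n = lam • (1 : Matrix (Fin 2) (Fin 2) F) + ν := by
        rw [hν]
        abel
      have h12 := nilp_pow ν lam hνν j
      rw [← hn', hj] at h12
      have h13 : (lam ^ (j + 1) - 1 - ((j + 1 : ℕ) * lam ^ j) * lam) • (1 : Matrix (Fin 2) (Fin 2) F)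
          + ((j + 1 : ℕ) * lam ^ j) • n = 0 := by
        rw [hν] at h12
        linear_combination (norm := module) -h12
      obtain ⟨h14, h15⟩ := lin_indep n hn _ _ h13
      rw [h15, zero_mul, sub_zero] at h14
      have hlam0 : lam ≠ 0 := by
        intro h0
        rw [h0, zero_pow (Nat.succ_ne_zero j)] at h14
        simp at h14
      rcases mul_eq_zero.mp h15 with h16 | h16
      · rw [CharP.cast_eq_zero_iff F p] at h16
        exact hjp h16
      · exact hlam0 (eq_zero_of_pow_eq_zero h16)
  · push Not at hn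
    obtain ⟨c, hc⟩ := hn
    rw [hc, mul_smul_comm, smul_mul_assoc, mul_one, hhi]

theorem commutator_self_le {G : Type*} [Group G] (H : Subgroup G) : ⁅H, H⁆ ≤ H :=
  Subgroup.commutator_le.mpr (fun _ h₁ _ h₂ =>
    H.mul_mem (H.mul_mem (H.mul_mem h₁ h₂) (H.inv_mem h₁)) (H.inv_mem h₂))

theorem conj_mem_commutator_self {G : Type*} [Group G] (H : Subgroup G) {h n : G} (hh : h ∈ H)
    (hn : n ∈ ⁅H, H⁆) : h * n * h⁻¹ ∈ ⁅H, H⁆ := by
  rw [← Subgroup.map_subtype_commutator] at hn ⊢
  obtain ⟨n', hn', rfl⟩ := hn
  refine ⟨⟨h, hh⟩ * n' * ⟨h, hh⟩⁻¹, ?_, rfl⟩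
  have : (commutator ↥H).Normal := inferInstance
  exact this.conj_mem n' hn' ⟨h, hh⟩

theorem commutator_self_lt {G : Type*} [Group G] (H : Subgroup G) [Group.IsSolvable H] [Nontrivial H] :
    ⁅H, H⁆ < H := by
  refine lt_of_le_of_ne (commutator_self_le H) ?_
  intro heq
  have h1 := Group.IsSolvable.commutator_lt_top_of_nontrivial ↥H
  have h2 : Subgroup.map H.subtype (commutator ↥H) = Subgroup.map H.subtype ⊤ := by
    rw [Subgroup.map_subtype_commutator, heq, ← MonoidHom.range_eq_map, Subgroup.range_subtype]
  exact h1.ne (Subgroup.map_injective H.subtype_injective h2)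

/-- Solvable subgroups of odd order prime to `p` of `GL₂(F)`, `F` of characteristic `p`, are
abelian. -/
theorem abelian_of_coprime (p : ℕ) [Fact p.Prime] [CharP F p] (hp : p ≠ 2) :
    ∀ (N : ℕ) (H : Subgroup (GL (Fin 2) F)), Nat.card H = N → Finite H → Odd N → Group.IsSolvable H →
      ¬ p ∣ N → ∀ a ∈ H, ∀ b ∈ H, a * b = b * a := by
  intro N
  induction N using Nat.strong_induction_on with
  | _ N ih =>
    intro H hN hfin hodd hsol hpN a ha b hb
    rcases subsingleton_or_nontrivial ↥H with hsub | hnt
    · have : (⟨a, ha⟩ : ↥H) = ⟨b, hb⟩ := Subsingleton.elim _ _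
      have hab : a = b := congrArg Subtype.val this
      rw [hab]
    · have hlt := commutator_self_lt H
      obtain ⟨D, hD⟩ : ∃ D : Subgroup (GL (Fin 2) F), D = ⁅H, H⁆ := ⟨_, rfl⟩
      rw [← hD] at hlt
      have : Finite ↥D := Finite.of_injective (Subgroup.inclusion hlt.le)
        (Subgroup.inclusion_injective hlt.le)
      have hcardlt : Nat.card D < N := by
        rw [← hN]
        by_contra hcon
        exact hlt.ne (Subgroup.eq_of_le_of_card_ge hlt.le (not_lt.mp hcon))
      have hdvd : Nat.card D ∣ N := by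
        rw [← hN]
        exact Subgroup.card_dvd_of_le hlt.le
      have hDab := ih (Nat.card D) hcardlt D rfl inferInstance (Odd.of_dvd_nat hodd hdvd)
        (Group.isSolvable_of_isSolvable_injective (Subgroup.inclusion_injective hlt.le))
        (fun h => hpN (dvd_trans h hdvd))
      -- orders
      have hordodd : ∀ h ∈ H, ∃ k, Units.val h ^ (2 * k + 1) = 1 := by
        intro h hh
        have h1 : orderOf (⟨h, hh⟩ : ↥H) ∣ N := by rw [← hN]; exact orderOf_dvd_natCard _
        obtain ⟨k, hk⟩ := Odd.of_dvd_nat hodd h1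
        refine ⟨k, ?_⟩
        have h2 : (⟨h, hh⟩ : ↥H) ^ (2 * k + 1) = 1 := by rw [← hk]; exact pow_orderOf_eq_one _
        have h3 : h ^ (2 * k + 1) = 1 := by
          have := congrArg Subtype.val h2
          simpa using this
        have h4 := congrArg Units.val h3
        simpa only [Units.val_pow_eq_pow_val, Units.val_one] using h4
      have hordp : ∀ n ∈ H, ∃ j, Units.val n ^ (j + 1) = 1 ∧ ¬ p ∣ j + 1 := by
        intro n hn
        have h1 : orderOf (⟨n, hn⟩ : ↥H) ∣ N := by rw [← hN]; exact orderOf_dvd_natCard _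
        have hpos : 0 < orderOf (⟨n, hn⟩ : ↥H) := orderOf_pos _
        obtain ⟨j, hj⟩ : ∃ j, orderOf (⟨n, hn⟩ : ↥H) = j + 1 := ⟨_, (Nat.succ_pred_eq_of_pos hpos).symm⟩
        refine ⟨j, ?_, ?_⟩
        · have h2 : (⟨n, hn⟩ : ↥H) ^ (j + 1) = 1 := by rw [← hj]; exact pow_orderOf_eq_one _
          have h3 : n ^ (j + 1) = 1 := by
            have := congrArg Subtype.val h2
            simpa using this
          have h4 := congrArg Units.val h3
          simpa only [Units.val_pow_eq_pow_val, Units.val_one] using h4
        · rw [← hj]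
          exact fun h => hpN (dvd_trans h h1)
      by_cases hsc : ∃ n ∈ D, ∀ c : F, Units.val n ≠ c • (1 : Matrix (Fin 2) (Fin 2) F)
      · obtain ⟨n, hnD, hnsc⟩ := hsc
        have hnH : n ∈ H := hlt.le hnD
        obtain ⟨j, hj, hjp⟩ := hordp n hnH
        have hcent : ∀ h ∈ H, Units.val h * Units.val n = Units.val n * Units.val h := by
          intro h hh
          obtain ⟨k, hk⟩ := hordodd h hh
          have hm : h * n * h⁻¹ ∈ D := by
            rw [hD] at hnD ⊢
            exact conj_mem_commutator_self H hh hnD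
          have hc := hDab _ hm n hnD
          have hc' : (Units.val h * Units.val n * Units.val h⁻¹) * Units.val n =
              Units.val n * (Units.val h * Units.val n * Units.val h⁻¹) := by
            have := congrArg Units.val hc
            simpa only [Units.val_mul] using this
          have hhi : Units.val h * Units.val h⁻¹ = 1 := by
            rw [← Units.val_mul, mul_inv_cancel, Units.val_one]
          have hih : Units.val h⁻¹ * Units.val h = 1 := by
            rw [← Units.val_mul, inv_mul_cancel, Units.val_one]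
          have h5 := conj_eq p hp (Units.val n) (Units.val h) (Units.val h⁻¹) hhi hih k hk j hj hjp hc'
          calc Units.val h * Units.val n
              = Units.val h * Units.val n * (Units.val h⁻¹ * Units.val h) := by
                rw [hih, mul_one]
            _ = (Units.val h * Units.val n * Units.val h⁻¹) * Units.val h := by
                simp only [mul_assoc]
            _ = Units.val n * Units.val h := by rw [h5]
        obtain ⟨α₁, β₁, h1⟩ := comm_span (Units.val n) (Units.val a) hnsc (hcent a ha)
        obtain ⟨α₂, β₂, h2⟩ := comm_span (Units.val n) (Units.val b) hnsc (hcent b hb)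
        apply Units.ext
        rw [Units.val_mul, Units.val_mul, h1, h2]
        simp only [mul_add, add_mul, smul_mul_assoc, mul_smul_comm, one_mul, mul_one]
        module
      · push Not at hsc
        have hg : ⁅a, b⁆ ∈ D := by
          rw [hD]
          exact Subgroup.commutator_mem_commutator ha hb
        obtain ⟨c, hc⟩ := hsc _ hg
        have hdet : Matrix.det (Units.val ⁅a, b⁆) = 1 := by
          have h1 : Matrix.GeneralLinearGroup.det ⁅a, b⁆ = 1 := by
            rw [map_commutatorElement]
            exact commutatorElement_eq_one_iff_mul_comm.mpr (mul_comm _ _)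
          rw [← Matrix.GeneralLinearGroup.val_det_apply, h1, Units.val_one]
        rw [hc, Matrix.det_smul, Matrix.det_one, Fintype.card_fin, mul_one] at hdet
        have hc2 : (c - 1) * (c + 1) = 0 := by linear_combination hdet
        rcases mul_eq_zero.mp hc2 with h1 | h1
        · have hc1 : c = 1 := by linear_combination h1
          rw [hc1, one_smul] at hc
          have : ⁅a, b⁆ = 1 := Units.ext hc
          exact commutatorElement_eq_one_iff_mul_comm.mp this
        · exfalso
          have hc1 : c = -1 := by linear_combination h1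
          have hsq : ⁅a, b⁆ ^ 2 = 1 := by
            apply Units.ext
            rw [Units.val_pow_eq_pow_val, hc, hc1, Units.val_one, pow_two]
            simp
          have hne : ⁅a, b⁆ ≠ 1 := by
            intro h1
            rw [h1, Units.val_one, hc1] at hc
            have := congrFun (congrFun hc 0) 0
            simp at this
            have h2 : (2 : F) = 0 := by linear_combination this
            exact two_ne_zero' p hp h2
          have hord : orderOf ⁅a, b⁆ = 2 := orderOf_eq_prime hsq hne
          have hgH : ⁅a, b⁆ ∈ H := hlt.le hg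
          have h3 : orderOf (⟨⁅a, b⁆, hgH⟩ : ↥H) ∣ N := by rw [← hN]; exact orderOf_dvd_natCard _
          rw [Subgroup.orderOf_mk, hord] at h3
          exact (Nat.not_even_iff_odd.mpr hodd) (even_iff_two_dvd.mpr h3)

/-- `g v = c v`. -/
def Eig (v : Fin 2 → F) (g : GL (Fin 2) F) (c : F) : Prop :=
  (Units.val g).mulVec v = c • v

theorem Eig.mul {v : Fin 2 → F} {g g' : GL (Fin 2) F} {c c' : F} (h : Eig v g c)
    (h' : Eig v g' c') : Eig v (g * g') (c * c') := by
  unfold Eig at *
  rw [Units.val_mul, ← Matrix.mulVec_mulVec, h', Matrix.mulVec_smul, h, smul_smul, mul_comm]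

theorem Eig.inv {v : Fin 2 → F} (hv : v ≠ 0) {g : GL (Fin 2) F} {c : F} (h : Eig v g c) :
    Eig v g⁻¹ c⁻¹ := by
  unfold Eig at *
  have h1 : (Units.val g⁻¹).mulVec ((Units.val g).mulVec v) = v := by
    rw [Matrix.mulVec_mulVec, ← Units.val_mul, inv_mul_cancel, Units.val_one, Matrix.one_mulVec]
  rw [h, Matrix.mulVec_smul] at h1
  have hc : c ≠ 0 := by
    intro h0
    rw [h0, zero_smul] at h1
    exact hv h1.symm
  calc (Units.val g⁻¹).mulVec v = c⁻¹ • (c • (Units.val g⁻¹).mulVec v) := by
        rw [smul_smul, inv_mul_cancel₀ hc, one_smul]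
    _ = c⁻¹ • v := by rw [h1]

/-- If `H ≤ GL₂(F)` has a common eigenvector, the elements of `H'` are unipotent. -/
theorem unipotent_of_reducible (p : ℕ) [Fact p.Prime] [CharP F p] (H : Subgroup (GL (Fin 2) F))
    (v : Fin 2 → F) (hv : v ≠ 0)
    (hH : ∀ g ∈ H, (Units.val g).mulVec v ∈ Submodule.span F {v}) :
    ∀ x ∈ ⁅H, H⁆, x ^ p = 1 := by
  have hpp : p.Prime := Fact.out
  let S : Subgroup (GL (Fin 2) F) :=
    { carrier := {g | Eig v g 1 ∧ Matrix.GeneralLinearGroup.det g = 1}
      one_mem' := ⟨by unfold Eig; simp, map_one _⟩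
      mul_mem' := fun {a b} ha hb => ⟨by simpa using ha.1.mul hb.1, by
        show Matrix.GeneralLinearGroup.det (a * b) = 1
        rw [map_mul, ha.2, hb.2, one_mul]⟩
      inv_mem' := fun {a} ha => ⟨by simpa using ha.1.inv hv, by
        show Matrix.GeneralLinearGroup.det a⁻¹ = 1
        rw [map_inv, ha.2, inv_one]⟩ }
  have hle : ⁅H, H⁆ ≤ S := by
    rw [Subgroup.commutator_le]
    intro a ha b hb
    obtain ⟨ca, hca⟩ := Submodule.mem_span_singleton.mp (hH a ha)
    obtain ⟨cb, hcb⟩ := Submodule.mem_span_singleton.mp (hH b hb)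
    have ea : Eig v a ca := hca.symm
    have eb : Eig v b cb := hcb.symm
    have hca0 : ca ≠ 0 := by
      intro h0
      have h1 := ea.inv hv
      have h2 := ea.mul h1
      unfold Eig at h2
      rw [mul_inv_cancel, Units.val_one, Matrix.one_mulVec, h0, zero_mul, zero_smul] at h2
      exact hv h2
    have hcb0 : cb ≠ 0 := by
      intro h0
      have h1 := eb.inv hv
      have h2 := eb.mul h1
      unfold Eig at h2
      rw [mul_inv_cancel, Units.val_one, Matrix.one_mulVec, h0, zero_mul, zero_smul] at h2
      exact hv h2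
    refine ⟨?_, ?_⟩
    · have h1 := ((ea.mul eb).mul (ea.inv hv)).mul (eb.inv hv)
      have h2 : ca * cb * ca⁻¹ * cb⁻¹ = 1 := by
        field_simp
      rw [h2] at h1
      rw [commutatorElement_def]
      exact h1
    · show Matrix.GeneralLinearGroup.det ⁅a, b⁆ = 1
      rw [map_commutatorElement]
      exact commutatorElement_eq_one_iff_mul_comm.mpr (mul_comm _ _)
  intro x hx
  obtain ⟨hx1, hx2⟩ := hle hx
  have hdet : (Units.val x).det = 1 := by
    rw [← Matrix.GeneralLinearGroup.val_det_apply, hx2, Units.val_one]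
  have hcx := cayley (Units.val x)
  rw [hdet, one_smul] at hcx
  have hxv : (Units.val x).mulVec v = v := by
    have := hx1
    unfold Eig at this
    rw [one_smul] at this
    exact this
  have htr : (Units.val x).trace = 2 := by
    have h1 : (Units.val x * Units.val x).mulVec v = v := by
      rw [← Matrix.mulVec_mulVec, hxv, hxv]
    rw [hcx, Matrix.sub_mulVec, Matrix.smul_mulVec, hxv, Matrix.one_mulVec] at h1
    have h2 : ((Units.val x).trace - 2) • v = 0 := by
      rw [sub_smul, two_smul]
      rw [sub_eq_iff_eq_add] at h1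
      rw [h1]
      abel
    rcases smul_eq_zero.mp h2 with h3 | h3
    · exact sub_eq_zero.mp h3
    · exact absurd h3 hv
  rw [htr] at hcx
  have hνν : (Units.val x - 1) * (Units.val x - 1) = 0 := by
    simp only [mul_sub, sub_mul, one_mul, mul_one, hcx]
    module
  have hpow : (Units.val x - 1) ^ p = 0 := by
    obtain ⟨k, hk⟩ : ∃ k, p = 2 + k := ⟨p - 2, by have := hpp.two_le; omega⟩
    rw [hk, pow_add, pow_two, hνν, zero_mul]
  have hcomm : Commute (Units.val x) (1 : Matrix (Fin 2) (Fin 2) F) := Commute.one_right _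
  rw [sub_pow_char_of_commute p hcomm, one_pow] at hpow
  apply Units.ext
  rw [Units.val_pow_eq_pow_val, Units.val_one]
  exact sub_eq_zero.mp hpow

/-- The derived group of a solvable subgroup of odd order of `GL₂(F)`, `F` of odd characteristic
`p`, has exponent dividing `p`. -/
theorem derived_pow (p : ℕ) [Fact p.Prime] [CharP F p] (hp : p ≠ 2) (H : Subgroup (GL (Fin 2) F))
    [Finite H] (hodd : Odd (Nat.card H)) (hsol : Group.IsSolvable H) : ∀ x ∈ ⁅H, H⁆, x ^ p = 1 := by
  by_cases hirr : ∀ v : Fin 2 → F, v ≠ 0 →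
      ∃ g ∈ H, (g : Matrix (Fin 2) (Fin 2) F).mulVec v ∉ Submodule.span F {v}
  · have hpn := Cfsg.Agent.S1463.result p hp H hodd hirr
    have hab := abelian_of_coprime p hp _ H rfl inferInstance hodd hsol hpn
    have hbot : ⁅H, H⁆ ≤ ⊥ := by
      rw [Subgroup.commutator_le]
      intro a ha b hb
      rw [Subgroup.mem_bot]
      exact commutatorElement_eq_one_iff_mul_comm.mpr (hab a ha b hb)
    intro x hx
    rw [Subgroup.mem_bot.mp (hbot hx), one_pow]
  · push Not at hirr
    obtain ⟨v, hv, hg⟩ := hirr
    exact unipotent_of_reducible p H v hv hg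

theorem comm_small {K : Type*} [CommRing K] (e : ℕ) (he : e ≤ 1) (a b : GL (Fin e) K) :
    a * b = b * a := by
  apply Units.ext
  rw [Units.val_mul, Units.val_mul]
  ext i j
  have hi : ∀ k : Fin e, k = i := fun k => by
    apply Fin.ext
    have := k.2
    have := i.2
    omega
  rw [Matrix.mul_apply, Matrix.mul_apply, Finset.sum_eq_single i (fun k _ hk => absurd (hi k) hk)
    (fun h => absurd (Finset.mem_univ i) h), Finset.sum_eq_single i
    (fun k _ hk => absurd (hi k) hk) (fun h => absurd (Finset.mem_univ i) h), hi j, mul_comm]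

/-- Version over `ZMod p` in dimension `e ≤ 2`. -/
theorem derived_pow_le (p : ℕ) [Fact p.Prime] (hp : p ≠ 2) (e : ℕ) (he : e ≤ 2)
    (H : Subgroup (GL (Fin e) (ZMod p))) [Finite H] (hodd : Odd (Nat.card H))
    (hsol : Group.IsSolvable H) : ∀ x ∈ ⁅H, H⁆, x ^ p = 1 := by
  rcases Nat.lt_or_ge e 2 with h | h
  · have hbot : ⁅H, H⁆ ≤ ⊥ := by
      rw [Subgroup.commutator_le]
      intro a ha b hb
      rw [Subgroup.mem_bot]
      exact commutatorElement_eq_one_iff_mul_comm.mpr (comm_small e (by omega) a b)
    intro x hx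
    rw [Subgroup.mem_bot.mp (hbot hx), one_pow]
  · have he2 : e = 2 := le_antisymm he h
    subst he2
    exact derived_pow p hp H hodd hsol

end Cfsg.Agent.Lib.Helper9.GL2Odd
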