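import Mathlib
import Cfsg.Agent.S0640
import Cfsg.Agent.S4207
import Cfsg.Agent.Lib.Helper9.GL2Odd
import Cfsg.Agent.Lib.Helper24.ConjAction

/-!
Solvable groups of odd order acting on a `p`-group of `p`-rank at most 2 (`p` odd): the derived
group acts as a `p`-group (Bender–Glauberman 4.17).
-/

set_option autoImplicit false

namespace Cfsg.Agent.Lib.Helper9.Rank2Aut

open scoped commutatorElement

/-- Restriction of automorphisms to an invariant subgroup, as a homomorphism. -/
def resHom {R : Type*} [Group R] (H : Subgroup R)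
    (h : ∀ (α : MulAut R) (x : R), x ∈ H ↔ α x ∈ H) : MulAut R →* MulAut ↥H :=
  MonoidHom.mk' (fun α => Cfsg.Agent.S0640.restr H α (h α)) (by
    intro a b
    ext y
    rfl)

theorem resHom_apply {R : Type*} [Group R] (H : Subgroup R)
    (h : ∀ (α : MulAut R) (x : R), x ∈ H ↔ α x ∈ H) (α : MulAut R) (y : ↥H) :
    ((resHom H h α y : ↥H) : R) = α y := rfl

/-- The automorphisms induced on the quotient by a characteristic subgroup. -/
def quotAut {E : Type*} [Group E] (N : Subgroup E) [hN : N.Characteristic] :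
    MulAut E →* MulAut (E ⧸ N) :=
  MonoidHom.mk' (fun a => QuotientGroup.congr N N a
    (Subgroup.characteristic_iff_map_eq.mp hN a)) (by
    intro a b
    ext q
    obtain ⟨g, rfl⟩ := QuotientGroup.mk_surjective q
    rfl)

theorem quotAut_apply {E : Type*} [Group E] (N : Subgroup E) [hN : N.Characteristic]
    (a : MulAut E) (g : E) : quotAut N a (g : E ⧸ N) = ((a g : E) : E ⧸ N) := rfl

open scoped IsMulCommutative in
/-- The automorphism group of an elementary abelian group of order `p ^ e` embeds in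
`GL_e(p)`. -/
theorem exists_aut_GL {V : Type*} [Group V] [Finite V] (hVc : ∀ a b : V, a * b = b * a)
    (p e : ℕ) (hp : p.Prime) (hexp : ∀ x : V, x ^ p = 1) (hcard : Nat.card V = p ^ e) :
    ∃ φ : MulAut V →* GL (Fin e) (ZMod p), Function.Injective φ := by
  have : Fact p.Prime := ⟨hp⟩
  have hNc : IsMulCommutative V := ⟨⟨hVc⟩⟩
  have hNp' : ∀ x : Additive V, p • x = 0 := by
    intro x
    apply Additive.toMul.injective
    rw [toMul_nsmul, toMul_zero]
    exact hexp _
  let _ : Module (ZMod p) (Additive V) := AddCommGroup.zmodModule (n := p) hNp'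
  have : Module.Finite (ZMod p) (Additive V) := Module.Finite.of_finite
  have hcardN : Nat.card (Additive V) = p ^ e := by
    rw [← hcard]
    exact Nat.card_congr Additive.toMul
  have hfr : Module.finrank (ZMod p) (Additive V) = e := by
    have h1 := Module.natCard_eq_pow_finrank (K := ZMod p) (V := Additive V)
    rw [hcardN, Nat.card_zmod] at h1
    exact (Nat.pow_right_injective hp.two_le h1).symm
  let b : Module.Basis (Fin e) (ZMod p) (Additive V) := Module.finBasisOfFinrankEq _ _ hfr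
  let f : MulAut V →* Module.End (ZMod p) (Additive V) :=
    { toFun := fun h => AddMonoidHom.toZModLinearMap p (h.toMonoidHom.toAdditive)
      map_one' := by
        ext x
        simp
      map_mul' := fun h k => by
        ext x
        simp }
  have hf : ∀ (h : MulAut V) (x : Additive V), Additive.toMul (f h x) = h (Additive.toMul x) :=
    fun h x => rfl
  refine ⟨(Units.map ((LinearMap.toMatrixAlgEquiv b : Module.End (ZMod p) (Additive V) ≃ₐ[ZMod p]
      Matrix (Fin e) (Fin e) (ZMod p)) : Module.End (ZMod p) (Additive V) →*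
      Matrix (Fin e) (Fin e) (ZMod p))).comp f.toHomUnits, ?_⟩
  rw [injective_iff_map_eq_one]
  intro h h1
  have h2 : f h = 1 := by
    have h3 := congrArg (fun u : GL (Fin e) (ZMod p) => (u : Matrix (Fin e) (Fin e) (ZMod p))) h1
    simp only [MonoidHom.comp_apply, Units.coe_map, MonoidHom.coe_toHomUnits, Units.val_one,
      MonoidHom.coe_coe] at h3
    exact (map_eq_one_iff _ (AlgEquiv.injective _)).mp h3
  ext x
  have h4 := hf h (Additive.ofMul x)
  rw [h2] at h4
  simpa using h4.symm

/-- A solvable group `A` of odd order of automorphisms of a `p`-group `R` of `p`-rank at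
most 2, `p` odd: the `p'`-elements of `A'` are trivial. -/
theorem aut_derived {R : Type*} [Group R] [Finite R] {p : ℕ} [Fact p.Prime] (hp : p ≠ 2)
    (hR : IsPGroup p R) (hrk : Cfsg.PRankLE p 2 R) (A : Subgroup (MulAut R))
    (hsol : Group.IsSolvable A) (hodd : Odd (Nat.card A)) :
    ∀ x ∈ ⁅A, A⁆, (orderOf x).Coprime p → x = 1 := by
  intro x hx hcop
  have hpp : p.Prime := Fact.out
  obtain ⟨C, hCchar, hC1, hC2, hC3⟩ := Cfsg.Agent.S0093.result hR
  have hCinv : ∀ (α : MulAut R) (y : R), y ∈ C ↔ α y ∈ C := by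
    intro α y
    have h := hCchar.fixed α
    constructor
    · intro hy
      rw [← h] at hy
      exact hy
    · intro hy
      rw [← h]
      exact hy
  obtain ⟨E, hE⟩ : ∃ E : Subgroup R, E = Cfsg.Agent.S0640.omegaSub p hp C hC2 := ⟨_, rfl⟩
  have hEmem : ∀ y : R, y ∈ E ↔ y ∈ C ∧ y ^ p = 1 := by
    intro y
    rw [hE]
    exact Cfsg.Agent.S0640.mem_omegaSub p hp C hC2 y
  have hEinv : ∀ (α : MulAut R) (y : R), y ∈ E ↔ α y ∈ E := by
    intro α y
    rw [hEmem, hEmem, ← hCinv α y, ← map_pow]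
    constructor
    · rintro ⟨h1, h2⟩
      exact ⟨h1, by rw [h2, map_one]⟩
    · rintro ⟨h1, h2⟩
      exact ⟨h1, (MulEquiv.map_eq_one_iff α).mp h2⟩
  have hEp : IsPGroup p ↥E := hR.to_subgroup E
  have hexp : ∀ y : ↥E, y ^ p = 1 := by
    intro y
    apply Subtype.ext
    have := ((hEmem y.1).mp y.2).2
    simpa using this
  have hrkE : Cfsg.PRankLE p 2 ↥E :=
    Cfsg.Agent.S1335.pRankLE_of_injective p 2 E.subtype (Subgroup.subtype_injective E) hrk
  have hcard3 : Nat.card ↥E ≤ p ^ 3 := Cfsg.Agent.S3771.result hEp hrkE hexp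
  obtain ⟨n, hn⟩ := IsPGroup.iff_card.mp hEp
  have hn3 : n ≤ 3 := by
    rw [hn] at hcard3
    exact (Nat.pow_le_pow_iff_right hpp.one_lt).mp hcard3
  obtain ⟨r, hr⟩ := hEp.index (frattini ↥E)
  have hrn : r ≤ n := by
    have h1 : (frattini ↥E).index ∣ Nat.card ↥E := Subgroup.index_dvd_card _
    rw [hr, hn] at h1
    exact (Nat.pow_dvd_pow_iff_le_right hpp.one_lt).mp h1
  have hr2 : r ≤ 2 := by
    by_contra hcon
    push Not at hcon
    have hr3 : r = 3 := by omega
    have hn3' : n = 3 := by omega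
    have hfr : frattini ↥E = ⊥ := by
      have h1 := Subgroup.card_mul_index (frattini ↥E)
      rw [hr, hn, hr3, hn3'] at h1
      have h2 : Nat.card ↥(frattini ↥E) = 1 := by
        have h3 : 0 < p ^ 3 := pow_pos hpp.pos 3
        exact Nat.eq_of_mul_eq_mul_right h3 (by rw [h1, one_mul])
      exact Subgroup.card_eq_one.mp h2
    have hcomm : commutator ↥E ≤ ⊥ := by
      rw [← hfr]
      exact (Cfsg.Agent.S0012.result p hEp).1
    have : IsMulCommutative ↥E := by
      refine ⟨⟨fun a b => ?_⟩⟩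
      have h1 : ⁅a, b⁆ ∈ commutator ↥E := by
        rw [commutator_def]
        exact Subgroup.commutator_mem_commutator (Subgroup.mem_top a) (Subgroup.mem_top b)
      have h2 : ⁅a, b⁆ = 1 := Subgroup.mem_bot.mp (hcomm h1)
      exact commutatorElement_eq_one_iff_mul_comm.mp h2
    have h4 := hrk E inferInstance (fun a ha => ((hEmem a).mp ha).2)
    rw [hn, hn3'] at h4
    have h5 := (Nat.pow_le_pow_iff_right hpp.one_lt).mp h4
    omega
  -- the Frattini quotient of `E`
  have hVc : ∀ a b : ↥E ⧸ frattini ↥E, a * b = b * a := by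
    intro a b
    obtain ⟨a, rfl⟩ := QuotientGroup.mk_surjective a
    obtain ⟨b, rfl⟩ := QuotientGroup.mk_surjective b
    have h1 : ⁅a, b⁆ ∈ frattini ↥E := by
      apply (Cfsg.Agent.S0012.result p hEp).1
      rw [commutator_def]
      exact Subgroup.commutator_mem_commutator (Subgroup.mem_top a) (Subgroup.mem_top b)
    have h2 : ((⁅a, b⁆ : ↥E) : ↥E ⧸ frattini ↥E) = 1 := (QuotientGroup.eq_one_iff _).mpr h1
    have h3 := map_commutatorElement (QuotientGroup.mk' (frattini ↥E)) a b
    rw [QuotientGroup.mk'_apply, h2] at h3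
    exact commutatorElement_eq_one_iff_mul_comm.mp h3.symm
  have hVexp : ∀ a : ↥E ⧸ frattini ↥E, a ^ p = 1 := by
    intro a
    obtain ⟨a, rfl⟩ := QuotientGroup.mk_surjective a
    rw [← QuotientGroup.mk_pow, hexp a]
    rfl
  have hVcard : Nat.card (↥E ⧸ frattini ↥E) = p ^ r := by
    rw [← hr]
    rfl
  obtain ⟨ψ, hψ⟩ := exists_aut_GL hVc p r hpp hVexp hVcard
  obtain ⟨Θ, hΘ⟩ : ∃ Θ : MulAut R →* GL (Fin r) (ZMod p),
      Θ = ψ.comp ((quotAut (frattini ↥E)).comp (resHom E hEinv)) := ⟨_, rfl⟩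
  -- the image of `A` in `GL_r(p)`
  have hHfin : Finite ↥(A.map Θ) := inferInstance
  have hHodd : Odd (Nat.card ↥(A.map Θ)) := Odd.of_dvd_nat hodd (Subgroup.card_map_dvd A Θ)
  have hHsol : Group.IsSolvable ↥(A.map Θ) :=
    Group.isSolvable_of_surjective (Θ.subgroupMap_surjective A)
  have hxH : Θ x ∈ ⁅A.map Θ, A.map Θ⁆ := by
    rw [← Subgroup.map_commutator]
    exact Subgroup.mem_map_of_mem Θ hx
  have h1 := Cfsg.Agent.Lib.Helper9.GL2Odd.derived_pow_le p hp r hr2 (A.map Θ) hHodd hHsol _ hxH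
  have hΘx : Θ x = 1 := by
    have h2 : orderOf (Θ x) ∣ p := orderOf_dvd_of_pow_eq_one h1
    have h3 : orderOf (Θ x) ∣ orderOf x := orderOf_map_dvd Θ x
    have h4 : orderOf (Θ x) ∣ Nat.gcd (orderOf x) p := Nat.dvd_gcd h3 h2
    rw [hcop.gcd_eq_one, Nat.dvd_one] at h4
    exact orderOf_eq_one_iff.mp h4
  have hq : quotAut (frattini ↥E) (resHom E hEinv x) = 1 := by
    apply hψ
    rw [map_one]
    rw [hΘ] at hΘx
    exact hΘx
  -- Burnside: the kernel of the action on the Frattini quotient is a `p`-group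
  have hker := Cfsg.Agent.S4207.result hn hr (quotAut (frattini ↥E)).ker (by
    intro α hα y
    rw [MonoidHom.mem_ker] at hα
    have h2 : quotAut (frattini ↥E) α (y : ↥E ⧸ frattini ↥E) = (y : ↥E ⧸ frattini ↥E) := by
      rw [hα]
      rfl
    rw [quotAut_apply] at h2
    rw [← QuotientGroup.eq_one_iff, QuotientGroup.mk_mul, QuotientGroup.mk_inv, h2, mul_inv_cancel])
  have hres : resHom E hEinv x = 1 := by
    have h2 : orderOf (resHom E hEinv x) ∣ Nat.card ↥(quotAut (frattini ↥E)).ker := by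
      have hmem : resHom E hEinv x ∈ (quotAut (frattini ↥E)).ker := MonoidHom.mem_ker.mpr hq
      have := orderOf_dvd_natCard (⟨resHom E hEinv x, hmem⟩ : ↥(quotAut (frattini ↥E)).ker)
      rwa [Subgroup.orderOf_mk] at this
    have h3 : orderOf (resHom E hEinv x) ∣ orderOf x := orderOf_map_dvd _ x
    have h4 : orderOf (resHom E hEinv x) ∣ Nat.gcd (orderOf x) (p ^ (r * (n - r))) :=
      Nat.dvd_gcd h3 (dvd_trans h2 hker)
    rw [(Nat.Coprime.pow_right _ hcop).gcd_eq_one, Nat.dvd_one] at h4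
    exact orderOf_eq_one_iff.mp h4
  have hxE : ∀ y ∈ E, x y = y := by
    intro y hy
    have h2 := resHom_apply E hEinv x ⟨y, hy⟩
    rw [hres] at h2
    exact h2.symm
  -- `x` is trivial on `C`
  have hCp : IsPGroup p ↥C := hR.to_subgroup C
  have hresC : resHom C hCinv x = 1 :=
    Cfsg.Agent.S0120.result hp hCp (resHom C hCinv x)
      (Nat.Coprime.coprime_dvd_left (orderOf_map_dvd _ x) hcop) (by
        intro y hy
        apply Subtype.ext
        rw [resHom_apply]
        apply hxE y.1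
        rw [hEmem]
        refine ⟨y.2, ?_⟩
        have h2 := congrArg Subtype.val hy
        simpa using h2)
  have hxC : ∀ y ∈ C, x y = y := by
    intro y hy
    have h2 := resHom_apply C hCinv x ⟨y, hy⟩
    rw [hresC] at h2
    exact h2.symm
  exact Cfsg.Agent.S0121.result hR C hCchar hC1 hC2 hC3 x hcop hxC

/-- Subgroup form: `A ≤ N_G(R)` solvable of odd order, `R` a `p`-subgroup of `p`-rank at most 2,
`p` odd: the `p'`-elements of `A'` centralize `R`. -/
theorem conj_derived {G : Type*} [Group G] [Finite G] (p : ℕ) [Fact p.Prime] (hp : p ≠ 2)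
    (R A : Subgroup G) (hR : IsPGroup p R) (hr : Cfsg.PRankLE p 2 R)
    (hA : A ≤ Subgroup.normalizer (R : Set G)) (hAs : Group.IsSolvable A)
    (hAodd : Odd (Nat.card A)) :
    ∀ x ∈ ⁅A, A⁆, (orderOf x).Coprime p → x ∈ Subgroup.centralizer (R : Set G) := by
  intro x hx hcop
  obtain ⟨c, hc⟩ : ∃ c : ↥A →* MulAut ↥R, c = Cfsg.Agent.Lib.Helper24.ConjAction.conjHom A R hA :=
    ⟨_, rfl⟩
  have hBsol : Group.IsSolvable ↥c.range :=
    Group.isSolvable_of_surjective c.rangeRestrict_surjective
  have hBodd : Odd (Nat.card ↥c.range) := Odd.of_dvd_nat hAodd (Subgroup.card_range_dvd c)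
  rw [← Subgroup.map_subtype_commutator] at hx
  obtain ⟨x', hx', rfl⟩ := hx
  have h1 : c x' ∈ ⁅c.range, c.range⁆ := by
    rw [MonoidHom.range_eq_map, ← Subgroup.map_commutator]
    exact Subgroup.mem_map_of_mem c hx'
  have hord : orderOf x' = orderOf (A.subtype x') := (orderOf_injective A.subtype A.subtype_injective x').symm
  have h2 := aut_derived hp hR hr c.range hBsol hBodd (c x') h1
    (Nat.Coprime.coprime_dvd_left (orderOf_map_dvd c x') (by rw [hord]; exact hcop))
  rw [Subgroup.mem_centralizer_iff]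
  intro w hw
  have h3 : ((c x' ⟨w, hw⟩ : ↥R) : G) = w := by rw [h2]; rfl
  rw [hc, Cfsg.Agent.Lib.Helper24.ConjAction.conjHom_apply] at h3
  have h4 : (x' : G) * w * (x' : G)⁻¹ = w := h3
  calc w * A.subtype x' = ((x' : G) * w * (x' : G)⁻¹) * x' := by rw [h4]; rfl
    _ = A.subtype x' * w := by simp

end Cfsg.Agent.Lib.Helper9.Rank2Aut
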