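import Mathlib
import Cfsg.Agent.Lib.Helper9.Rank2Aut
import Cfsg.Agent.Lib.Helper11.PConstr
import Cfsg.Agent.Lib.Helper76.PSolv
import Cfsg.Agent.S0017

/-!
Solvable groups of odd order and `p`-rank at most 2 (Bender–Glauberman 4.18):
`G' ≤ O_{p',p}(G)`, `G / O_{p',p}(G)` is an abelian `p'`-group all of whose prime divisors are
smaller than `p`.
-/

set_option autoImplicit false

namespace Cfsg.Agent.Lib.Helper9.Rank2Solv

open scoped commutatorElement
open Cfsg.Agent.Lib.Helper76.PSolv Cfsg.Agent.Lib.Helper11.PConstr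

variable {G : Type*} [Group G] [Finite G] {p : ℕ} [Fact p.Prime]

/-- A normal subgroup which is a `p`-group modulo `O_{p',p}(G)` lies in `O_{p',p}(G)`. -/
theorem le_pPrimePCore_of_pow (M : Subgroup G) [M.Normal]
    (h : ∀ m ∈ M, ∃ k : ℕ, m ^ (p ^ k) ∈ Cfsg.pPrimePCore p G) : M ≤ Cfsg.pPrimePCore p G := by
  have hn : (M.map (QuotientGroup.mk' (Cfsg.pPrimeCore p G))).Normal :=
    Subgroup.Normal.map inferInstance _ (QuotientGroup.mk'_surjective _)
  have hp : IsPGroup p ↥(M.map (QuotientGroup.mk' (Cfsg.pPrimeCore p G))) := by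
    rintro ⟨_, m, hm, rfl⟩
    obtain ⟨k, hk⟩ := h m hm
    have h1 : (QuotientGroup.mk' (Cfsg.pPrimeCore p G) m) ^ (p ^ k) ∈
        Cfsg.pCore p (G ⧸ Cfsg.pPrimeCore p G) := by
      rw [← map_pow]
      exact hk
    obtain ⟨j, hj⟩ := pCore_isPGroup p (G := G ⧸ Cfsg.pPrimeCore p G) ⟨_, h1⟩
    refine ⟨k + j, ?_⟩
    apply Subtype.ext
    have h2 := congrArg Subtype.val hj
    rw [Subgroup.coe_pow, Subgroup.coe_one] at h2
    rw [Subgroup.coe_pow, Subgroup.coe_one, pow_add, pow_mul]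
    exact h2
  have hle := le_pCore hn hp
  intro m hm
  exact hle ⟨m, hm, rfl⟩

/-- The index of `O_{p'}(G)` in a subgroup of `O_{p',p}(G)` is a power of `p`. -/
theorem relIndex_pPrimeCore (H : Subgroup G) (hH : H ≤ Cfsg.pPrimePCore p G) :
    ∃ k : ℕ, (Cfsg.pPrimeCore p G).relIndex H = p ^ k := by
  have h1 : (Cfsg.pPrimeCore p G).relIndex H =
      Nat.card ↥(H.map (QuotientGroup.mk' (Cfsg.pPrimeCore p G))) := by
    rw [← Subgroup.relIndex_bot_left, ← Subgroup.relIndex_comap, MonoidHom.comap_bot,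
      QuotientGroup.ker_mk']
  have h2 : H.map (QuotientGroup.mk' (Cfsg.pPrimeCore p G)) ≤
      Cfsg.pCore p (G ⧸ Cfsg.pPrimeCore p G) := by
    rintro _ ⟨x, hx, rfl⟩
    exact hH hx
  have h3 : IsPGroup p ↥(H.map (QuotientGroup.mk' (Cfsg.pPrimeCore p G))) :=
    (pCore_isPGroup p).to_le h2
  rw [h1]
  exact IsPGroup.iff_card.mp h3

/-- A normal `p'`-subgroup of `p`-power index gives a normal `p`-complement. -/
theorem hasNormalPComplement_of {X : Type*} [Group X] [Finite X] (p : ℕ) [Fact p.Prime]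
    (K : Subgroup X) [K.Normal] (hcop : (Nat.card K).Coprime p) (k : ℕ) (hidx : K.index = p ^ k) :
    Cfsg.HasNormalPComplement p X := by
  have hpp : p.Prime := Fact.out
  obtain ⟨P⟩ := (inferInstance : Nonempty (Sylow p X))
  have h1 : Nat.card X = Nat.card K * p ^ k := by
    rw [← hidx]
    exact (Subgroup.card_mul_index K).symm
  have hnd : ¬ p ∣ Nat.card K := fun h => by
    have := Nat.Coprime.eq_one_of_dvd hcop.symm h
    exact hpp.one_lt.ne' this
  have h2 : (Nat.card X).factorization p = k := by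
    rw [h1, Nat.factorization_mul Nat.card_pos.ne' (pow_pos hpp.pos k).ne', Finsupp.add_apply,
      Nat.factorization_eq_zero_of_not_dvd hnd, hpp.factorization_pow, Finsupp.single_eq_same,
      zero_add]
  have h3 : Nat.card ↥(P : Subgroup X) = p ^ k := by
    rw [Sylow.card_eq_multiplicity, h2]
  refine ⟨P, K, inferInstance, ?_⟩
  apply Subgroup.isComplement'_of_coprime
  · rw [h3, h1]
  · rw [h3]
    exact Nat.Coprime.pow_right k hcop

/-- In a solvable group, the centralizer of a Sylow `p`-subgroup of `O_{p',p}(G)` lies in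
`O_{p',p}(G)`. -/
theorem centralizer_sylow_le_of_solvable [Group.IsSolvable G]
    (P : Sylow p ↥(Cfsg.pPrimePCore p G)) :
    Subgroup.centralizer (((P : Subgroup ↥(Cfsg.pPrimePCore p G)).map
      (Cfsg.pPrimePCore p G).subtype : Subgroup G) : Set G) ≤ Cfsg.pPrimePCore p G := by
  obtain ⟨R, hR⟩ : ∃ R : Subgroup G, R = (P : Subgroup ↥(Cfsg.pPrimePCore p G)).map
      (Cfsg.pPrimePCore p G).subtype := ⟨_, rfl⟩
  rw [← hR]
  have hRN : R ⊔ Cfsg.pPrimeCore p G = Cfsg.pPrimePCore p G := by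
    rw [hR]
    exact sylow_sup_pPrimeCore P
  have hKbot : (Cfsg.pPrimeCore p G).map (QuotientGroup.mk' (Cfsg.pPrimeCore p G)) = ⊥ := by
    rw [Subgroup.map_eq_bot_iff, QuotientGroup.ker_mk']
  have hRb : R.map (QuotientGroup.mk' (Cfsg.pPrimeCore p G)) =
      Cfsg.pCore p (G ⧸ Cfsg.pPrimeCore p G) := by
    have h1 : (R ⊔ Cfsg.pPrimeCore p G).map (QuotientGroup.mk' (Cfsg.pPrimeCore p G)) =
        R.map (QuotientGroup.mk' (Cfsg.pPrimeCore p G)) := by
      rw [Subgroup.map_sup, hKbot, sup_bot_eq]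
    rw [← h1, hRN]
    exact Subgroup.map_comap_eq_self_of_surjective (QuotientGroup.mk'_surjective _) _
  have h17 := Cfsg.Agent.S0017.result (G := G ⧸ Cfsg.pPrimeCore p G) p (pPrimeCore_quotient p)
  intro c hc
  show (QuotientGroup.mk' (Cfsg.pPrimeCore p G) c) ∈ Cfsg.pCore p (G ⧸ Cfsg.pPrimeCore p G)
  apply h17
  rw [Subgroup.mem_centralizer_iff]
  intro y hy
  rw [← hRb] at hy
  obtain ⟨r, hr, rfl⟩ := hy
  rw [← map_mul, ← map_mul, Subgroup.mem_centralizer_iff.mp hc r hr]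

/-- Bender–Glauberman 4.18, main part. -/
theorem core [Group.IsSolvable G] (hodd : Odd (Nat.card G)) (hp : p ≠ 2)
    (hr : Cfsg.PRankLE p 2 G) :
    commutator G ≤ Cfsg.pPrimePCore p G ∧ ((Cfsg.pPrimePCore p G).index).Coprime p ∧
      ∀ q : ℕ, q.Prime → q ∣ (Cfsg.pPrimePCore p G).index → q < p := by
  have hpp : p.Prime := Fact.out
  have hTn : (Cfsg.pPrimePCore p G).Normal := pPrimePCore_normal p G
  obtain ⟨P⟩ := (inferInstance : Nonempty (Sylow p ↥(Cfsg.pPrimePCore p G)))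
  obtain ⟨R, hR⟩ : ∃ R : Subgroup G, R = (P : Subgroup ↥(Cfsg.pPrimePCore p G)).map
      (Cfsg.pPrimePCore p G).subtype := ⟨_, rfl⟩
  have hRp : IsPGroup p ↥R := by
    rw [hR]
    exact P.isPGroup'.map _
  have hRrk : Cfsg.PRankLE p 2 ↥R :=
    Cfsg.Agent.S1335.pRankLE_of_injective p 2 R.subtype (Subgroup.subtype_injective R) hr
  obtain ⟨A, hA⟩ : ∃ A : Subgroup G, A = Subgroup.normalizer (R : Set G) := ⟨_, rfl⟩
  have hAN : A ⊔ Cfsg.pPrimeCore p G = ⊤ := by
    rw [hA, hR]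
    exact normalizer_sylow_sup_pPrimeCore P
  have hNT : Cfsg.pPrimeCore p G ≤ Cfsg.pPrimePCore p G := pPrimeCore_le_pPrimePCore p G
  have hcent : Subgroup.centralizer (R : Set G) ≤ Cfsg.pPrimePCore p G := by
    rw [hR]
    exact centralizer_sylow_le_of_solvable P
  have hAodd : Odd (Nat.card ↥A) := Odd.of_dvd_nat hodd (Subgroup.card_subgroup_dvd_card A)
  have key := Cfsg.Agent.Lib.Helper9.Rank2Aut.conj_derived p hp R A hRp hRrk (le_of_eq hA)
    inferInstance hAodd
  have step1 : ∀ d ∈ ⁅A, A⁆, ∃ k : ℕ, d ^ (p ^ k) ∈ Cfsg.pPrimePCore p G := by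
    intro d hd
    have hpos : 0 < orderOf d := orderOf_pos d
    obtain ⟨k, m, hm, hkm⟩ := Nat.exists_eq_pow_mul_and_not_dvd hpos.ne' p hpp.ne_one
    refine ⟨k, ?_⟩
    have h1 : orderOf (d ^ (p ^ k)) ∣ m := by
      apply orderOf_dvd_of_pow_eq_one
      rw [← pow_mul, ← hkm]
      exact pow_orderOf_eq_one d
    have hcop : (orderOf (d ^ (p ^ k))).Coprime p :=
      Nat.Coprime.coprime_dvd_left h1 ((Nat.Prime.coprime_iff_not_dvd hpp).mpr hm).symm
    exact hcent (key _ (Subgroup.pow_mem _ hd _) hcop)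
  -- the quotient by `T = O_{p',p}(G)`
  have hπA : A.map (QuotientGroup.mk' (Cfsg.pPrimePCore p G)) = ⊤ := by
    have h1 : (A ⊔ Cfsg.pPrimeCore p G).map (QuotientGroup.mk' (Cfsg.pPrimePCore p G)) = ⊤ := by
      rw [hAN]
      exact Subgroup.map_top_of_surjective _ (QuotientGroup.mk'_surjective _)
    have h2 : (Cfsg.pPrimeCore p G).map (QuotientGroup.mk' (Cfsg.pPrimePCore p G)) = ⊥ := by
      rw [Subgroup.map_eq_bot_iff, QuotientGroup.ker_mk']
      exact hNT
    rw [Subgroup.map_sup, h2, sup_bot_eq] at h1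
    exact h1
  have hcomm : commutator (G ⧸ Cfsg.pPrimePCore p G) =
      (⁅A, A⁆).map (QuotientGroup.mk' (Cfsg.pPrimePCore p G)) := by
    rw [Subgroup.map_commutator, hπA, commutator_def]
  have hMn : ((commutator (G ⧸ Cfsg.pPrimePCore p G)).comap
      (QuotientGroup.mk' (Cfsg.pPrimePCore p G))).Normal := Subgroup.Normal.comap inferInstance _
  have hMT : (commutator (G ⧸ Cfsg.pPrimePCore p G)).comap
      (QuotientGroup.mk' (Cfsg.pPrimePCore p G)) ≤ Cfsg.pPrimePCore p G := by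
    apply le_pPrimePCore_of_pow
    intro m hm
    rw [Subgroup.mem_comap, hcomm] at hm
    obtain ⟨d, hd, hdm⟩ := hm
    obtain ⟨k, hk⟩ := step1 d hd
    refine ⟨k, ?_⟩
    rw [← QuotientGroup.eq_one_iff, QuotientGroup.mk_pow]
    have h1 : ((d ^ (p ^ k) : G) : G ⧸ Cfsg.pPrimePCore p G) = 1 :=
      (QuotientGroup.eq_one_iff _).mpr hk
    rw [QuotientGroup.mk_pow] at h1
    rw [← h1]
    congr 1
    exact hdm.symm
  have K1 : commutator G ≤ Cfsg.pPrimePCore p G := by
    intro x hx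
    apply hMT
    rw [Subgroup.mem_comap]
    have h1 : (commutator G).map (QuotientGroup.mk' (Cfsg.pPrimePCore p G)) ≤
        commutator (G ⧸ Cfsg.pPrimePCore p G) := by
      rw [commutator_def, Subgroup.map_commutator, commutator_def]
      exact Subgroup.commutator_mono le_top le_top
    exact h1 ⟨x, hx, rfl⟩
  have hab : ∀ a b : G ⧸ Cfsg.pPrimePCore p G, a * b = b * a := by
    intro a b
    obtain ⟨g, rfl⟩ := QuotientGroup.mk_surjective a
    obtain ⟨h, rfl⟩ := QuotientGroup.mk_surjective b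
    have h1 : ⁅g, h⁆ ∈ commutator G := by
      rw [commutator_def]
      exact Subgroup.commutator_mem_commutator (Subgroup.mem_top g) (Subgroup.mem_top h)
    have h2 : ((⁅g, h⁆ : G) : G ⧸ Cfsg.pPrimePCore p G) = 1 :=
      (QuotientGroup.eq_one_iff _).mpr (K1 h1)
    have h3 := map_commutatorElement (QuotientGroup.mk' (Cfsg.pPrimePCore p G)) g h
    rw [QuotientGroup.mk'_apply, h2] at h3
    exact commutatorElement_eq_one_iff_mul_comm.mp h3.symm
  have K2 : ((Cfsg.pPrimePCore p G).index).Coprime p := by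
    rw [Nat.coprime_comm, Nat.Prime.coprime_iff_not_dvd hpp]
    intro hdvd
    have hdvd' : p ∣ Nat.card (G ⧸ Cfsg.pPrimePCore p G) := hdvd
    obtain ⟨xb, hxb⟩ := exists_prime_orderOf_dvd_card' p hdvd'
    obtain ⟨x, rfl⟩ := QuotientGroup.mk_surjective xb
    have hZn : ((Subgroup.zpowers (x : G ⧸ Cfsg.pPrimePCore p G)).comap
        (QuotientGroup.mk' (Cfsg.pPrimePCore p G))).Normal := by
      apply Subgroup.Normal.comap
      exact ⟨fun n hn g => by rw [hab g n, mul_inv_cancel_right]; exact hn⟩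
    have hle : (Subgroup.zpowers (x : G ⧸ Cfsg.pPrimePCore p G)).comap
        (QuotientGroup.mk' (Cfsg.pPrimePCore p G)) ≤ Cfsg.pPrimePCore p G := by
      apply le_pPrimePCore_of_pow
      intro m hm
      rw [Subgroup.mem_comap] at hm
      refine ⟨1, ?_⟩
      rw [pow_one, ← QuotientGroup.eq_one_iff, QuotientGroup.mk_pow]
      have h1 := orderOf_dvd_of_mem_zpowers hm
      rw [hxb] at h1
      exact orderOf_dvd_iff_pow_eq_one.mp h1
    have hx : x ∈ Cfsg.pPrimePCore p G := hle (by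
      rw [Subgroup.mem_comap]
      exact Subgroup.mem_zpowers _)
    have h1 : (x : G ⧸ Cfsg.pPrimePCore p G) = 1 := (QuotientGroup.eq_one_iff _).mpr hx
    rw [h1, orderOf_one] at hxb
    exact hpp.one_lt.ne hxb
  refine ⟨K1, K2, ?_⟩
  intro q hq hqd
  have hqp : q ≠ p := by
    intro h
    rw [h] at hqd
    have := Nat.Coprime.eq_one_of_dvd K2.symm hqd
    exact hpp.one_lt.ne' this
  obtain ⟨c, hc⟩ : ∃ c : ↥A →* MulAut ↥R,
      c = Cfsg.Agent.Lib.Helper24.ConjAction.conjHom A R (le_of_eq hA) := ⟨_, rfl⟩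
  have hker : c.ker ≤ (Cfsg.pPrimePCore p G).subgroupOf A := by
    intro a ha
    rw [MonoidHom.mem_ker] at ha
    rw [Subgroup.mem_subgroupOf]
    apply hcent
    rw [Subgroup.mem_centralizer_iff]
    intro w hw
    have h3 : ((c a ⟨w, hw⟩ : ↥R) : G) = w := by rw [ha]; rfl
    rw [hc, Cfsg.Agent.Lib.Helper24.ConjAction.conjHom_apply] at h3
    have h4 : (a : G) * w * (a : G)⁻¹ = w := h3
    calc w * (a : G) = ((a : G) * w * (a : G)⁻¹) * a := by rw [h4]
      _ = (a : G) * w := by simp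
  have hidx : (Cfsg.pPrimePCore p G).index = (Cfsg.pPrimePCore p G).relIndex A := by
    have h1 : Cfsg.pPrimePCore p G ⊔ A = ⊤ := by
      rw [eq_top_iff, ← hAN]
      exact sup_le le_sup_right (hNT.trans le_sup_left)
    rw [← Subgroup.relIndex_sup_left A (Cfsg.pPrimePCore p G), h1, Subgroup.relIndex_top_right]
  have hdvd : q ∣ Nat.card (MulAut ↥R) := by
    refine dvd_trans hqd ?_
    rw [hidx]
    refine dvd_trans (Subgroup.index_dvd_of_le hker) ?_
    rw [Subgroup.index_ker]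
    exact Subgroup.card_subgroup_dvd_card _
  exact (Cfsg.Agent.S0640.result hp hRp hRrk q hq hqp hdvd).2

end Cfsg.Agent.Lib.Helper9.Rank2Solv
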