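import Mathlib
import Cfsg.Agent.Lib.Helper9.Rank2Aut
import Cfsg.Agent.Lib.Helper78.Fitting
import Cfsg.Agent.Lib.Helper21.Bender1
import Cfsg.Agent.S0552
import Cfsg.Agent.S3745

/-!
Solvable groups of odd order whose subgroups `O_p(G)` all have rank at most 2
(Bender–Glauberman 4.20): `G' ≤ F(G)`, Sylow tower.
-/

set_option autoImplicit false

namespace Cfsg.Agent.Lib.Helper9.Rank2Fit

open scoped commutatorElement
open Cfsg.Agent.Lib.Helper78

universe u

/-- The join of the `O_r(G)` for the primes `r` in `S`. -/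
def Wof (S : Set ℕ) (G : Type*) [Group G] : Subgroup G :=
  sSup {N : Subgroup G | ∃ r : ℕ, r.Prime ∧ r ∈ S ∧ N = Cfsg.pCore r G}

theorem Wof_normal (S : Set ℕ) (G : Type*) [Group G] : (Wof S G).Normal :=
  Subgroup.sSup_normal _ (by
    rintro N ⟨r, -, -, rfl⟩
    exact Fitting.pCore_normal r)

theorem pCore_le_Wof {G : Type*} [Group G] (S : Set ℕ) (r : ℕ) (hr : r.Prime) (hrS : r ∈ S) :
    Cfsg.pCore r G ≤ Wof S G :=
  le_sSup ⟨r, hr, hrS, rfl⟩

theorem Wof_le {G : Type*} [Group G] (S : Set ℕ) (K : Subgroup G)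
    (h : ∀ r : ℕ, r.Prime → r ∈ S → Cfsg.pCore r G ≤ K) : Wof S G ≤ K :=
  sSup_le (by
    rintro N ⟨r, hr, hrS, rfl⟩
    exact h r hr hrS)

theorem mem_centralizer_Wof {G : Type*} [Group G] (S : Set ℕ) (g : G)
    (h : ∀ r : ℕ, r.Prime → r ∈ S → g ∈ Subgroup.centralizer (Cfsg.pCore r G : Set G)) :
    g ∈ Subgroup.centralizer (Wof S G : Set G) := by
  have h1 : Wof S G ≤ Subgroup.centralizer ({g} : Set G) := by
    apply Wof_le
    intro r hr hrS x hx
    rw [Subgroup.mem_centralizer_iff]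
    intro y hy
    rw [Set.mem_singleton_iff] at hy
    rw [hy]
    exact (Subgroup.mem_centralizer_iff.mp (h r hr hrS) x hx).symm
  rw [Subgroup.mem_centralizer_iff]
  intro w hw
  have := Subgroup.mem_centralizer_iff.mp (h1 hw) g (Set.mem_singleton g)
  exact this.symm

theorem fitting_le_sup {G : Type*} [Group G] [Finite G] (q : ℕ) :
    Cfsg.fittingSubgroup G ≤ Cfsg.pCore q G ⊔ Wof {r | r ≠ q} G := by
  rw [Fitting.fitting_eq_iSup_pCore]
  apply iSup_le
  intro r
  by_cases h : (r : ℕ) = q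
  · rw [h]
    exact le_sup_left
  · exact le_trans (pCore_le_Wof {r | r ≠ q} (r : ℕ) r.2 h) le_sup_right

variable {G : Type u} [Group G] [Finite G]

/-- The hypothesis: `p'`-elements of `G'` centralize `O_p(G)`, for every prime `p`. -/
def F1 (G : Type u) [Group G] : Prop :=
  ∀ r : ℕ, r.Prime → ∀ x ∈ commutator G, (orderOf x).Coprime r →
    x ∈ Subgroup.centralizer (Cfsg.pCore r G : Set G)

omit [Group G] [Finite G] in
theorem two_not_dvd (hodd : Odd (Nat.card G)) : ¬ 2 ∣ Nat.card G :=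
  fun h => (Nat.not_even_iff_odd.mpr hodd) (even_iff_two_dvd.mpr h)

theorem F1_of_rank [Group.IsSolvable G] (hodd : Odd (Nat.card G))
    (hr : ∀ r : ℕ, r.Prime → Cfsg.PRankLE r 2 ↥(Cfsg.pCore r G)) : F1 G := by
  intro r hrp x hx hcop
  have : Fact r.Prime := ⟨hrp⟩
  by_cases h2 : r = 2
  · subst h2
    rw [Fitting.pCore_eq_bot_of_not_dvd 2 (two_not_dvd hodd), Subgroup.mem_centralizer_iff]
    intro h hh
    rw [SetLike.mem_coe, Subgroup.mem_bot] at hh
    rw [hh, one_mul, mul_one]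
  · have hn : (⊤ : Subgroup G) ≤ Subgroup.normalizer (Cfsg.pCore r G : Set G) := by
      have := Fitting.pCore_normal (G := G) r
      rw [Subgroup.normalizer_eq_top]
    have hodd' : Odd (Nat.card ↥(⊤ : Subgroup G)) := by
      rw [Subgroup.card_top]
      exact hodd
    have key := Cfsg.Agent.Lib.Helper9.Rank2Aut.conj_derived r h2 (Cfsg.pCore r G) ⊤
      (Fitting.pCore_isPGroup r) (hr r hrp) hn inferInstance hodd'
    rw [commutator_def] at hx
    exact key x hx hcop

/-- Under `F1`, the group `G' ∩ C_G(O_{q'}(F(G)))` is nilpotent. -/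
theorem nilp_X [Group.IsSolvable G] (hF1 : F1 G) (q : ℕ) [Fact q.Prime] :
    Group.IsNilpotent ↥(commutator G ⊓ Subgroup.centralizer (Wof {r | r ≠ q} G : Set G)) := by
  have hqp : q.Prime := Fact.out
  obtain ⟨X, hX⟩ : ∃ X : Subgroup G,
      X = commutator G ⊓ Subgroup.centralizer (Wof {r | r ≠ q} G : Set G) := ⟨_, rfl⟩
  rw [← hX]
  have hWn : (Wof {r | r ≠ q} G).Normal := Wof_normal _ G
  have hP : IsPGroup q (↥X ⧸ Subgroup.center ↥X) := by
    intro xb
    obtain ⟨x, rfl⟩ := QuotientGroup.mk_surjective xb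
    have hpos : 0 < orderOf x := orderOf_pos x
    obtain ⟨k, m, hm, hkm⟩ := Nat.exists_eq_pow_mul_and_not_dvd hpos.ne' q hqp.ne_one
    refine ⟨k, ?_⟩
    rw [← QuotientGroup.mk_pow, QuotientGroup.eq_one_iff]
    have h1 : orderOf (x ^ (q ^ k)) ∣ m := by
      apply orderOf_dvd_of_pow_eq_one
      rw [← pow_mul, ← hkm]
      exact pow_orderOf_eq_one x
    have hcop : (orderOf ((x ^ (q ^ k) : ↥X) : G)).Coprime q := by
      rw [Subgroup.orderOf_coe]
      exact Nat.Coprime.coprime_dvd_left h1 ((Nat.Prime.coprime_iff_not_dvd hqp).mpr hm).symm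
    have huX : ((x ^ (q ^ k) : ↥X) : G) ∈ X := (x ^ (q ^ k)).2
    obtain ⟨u, hu⟩ : ∃ u : G, u = ((x ^ (q ^ k) : ↥X) : G) := ⟨_, rfl⟩
    rw [← hu] at hcop huX
    rw [hX] at huX
    have hu_cq := hF1 q hqp u huX.1 hcop
    have hu_cW := huX.2
    have hu_cF : u ∈ Subgroup.centralizer (Cfsg.fittingSubgroup G : Set G) := by
      have h2 : Cfsg.pCore q G ⊔ Wof {r | r ≠ q} G ≤ Subgroup.centralizer ({u} : Set G) := by
        apply sup_le
        · intro y hy
          rw [Subgroup.mem_centralizer_iff]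
          intro z hz
          rw [Set.mem_singleton_iff] at hz
          rw [hz]
          exact (Subgroup.mem_centralizer_iff.mp hu_cq y hy).symm
        · intro y hy
          rw [Subgroup.mem_centralizer_iff]
          intro z hz
          rw [Set.mem_singleton_iff] at hz
          rw [hz]
          exact (Subgroup.mem_centralizer_iff.mp hu_cW y hy).symm
      rw [Subgroup.mem_centralizer_iff]
      intro f hf
      have := Subgroup.mem_centralizer_iff.mp (h2 (fitting_le_sup q hf)) u (Set.mem_singleton u)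
      exact this.symm
    have hu_F : u ∈ Cfsg.fittingSubgroup G := Cfsg.Agent.S0552.centralizer_fitting_le hu_cF
    have hu_W : u ∈ Wof {r | r ≠ q} G := by
      have h3 : (QuotientGroup.mk' (Wof {r | r ≠ q} G) u) ∈
          (Cfsg.pCore q G).map (QuotientGroup.mk' (Wof {r | r ≠ q} G)) := by
        have h4 : (Cfsg.pCore q G ⊔ Wof {r | r ≠ q} G).map (QuotientGroup.mk' (Wof {r | r ≠ q} G))
            = (Cfsg.pCore q G).map (QuotientGroup.mk' (Wof {r | r ≠ q} G)) := by
          rw [Subgroup.map_sup]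
          have : (Wof {r | r ≠ q} G).map (QuotientGroup.mk' (Wof {r | r ≠ q} G)) = ⊥ := by
            rw [Subgroup.map_eq_bot_iff, QuotientGroup.ker_mk']
          rw [this, sup_bot_eq]
        rw [← h4]
        exact Subgroup.mem_map_of_mem _ (fitting_le_sup q hu_F)
      have h5 : IsPGroup q ↥((Cfsg.pCore q G).map (QuotientGroup.mk' (Wof {r | r ≠ q} G))) :=
        (Fitting.pCore_isPGroup q).map _
      obtain ⟨j, hj⟩ := h5 ⟨_, h3⟩
      have h6 : (QuotientGroup.mk' (Wof {r | r ≠ q} G) u) ^ (q ^ j) = 1 := by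
        have := congrArg Subtype.val hj
        rwa [Subgroup.coe_pow, Subgroup.coe_one] at this
      have h7 : orderOf (QuotientGroup.mk' (Wof {r | r ≠ q} G) u) ∣ Nat.gcd (orderOf u) (q ^ j) :=
        Nat.dvd_gcd (orderOf_map_dvd _ _) (orderOf_dvd_of_pow_eq_one h6)
      rw [(Nat.Coprime.pow_right j hcop).gcd_eq_one, Nat.dvd_one] at h7
      exact (QuotientGroup.eq_one_iff _).mp (orderOf_eq_one_iff.mp h7)
    rw [Subgroup.mem_center_iff]
    intro g
    apply Subtype.ext
    have hg : (g : G) ∈ Subgroup.centralizer (Wof {r | r ≠ q} G : Set G) :=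
      ((le_of_eq hX) g.2).2
    have h8 := Subgroup.mem_centralizer_iff.mp hg u hu_W
    rw [Subgroup.coe_mul, Subgroup.coe_mul, ← hu]
    exact h8.symm
  have : Group.IsNilpotent (↥X ⧸ Subgroup.center ↥X) := hP.isNilpotent
  exact Subgroup.isNilpotent_of_ker_le_center (QuotientGroup.mk' (Subgroup.center ↥X))
    (by rw [QuotientGroup.ker_mk'])

/-- Under `F1`, `G' ≤ F(G)`. -/
theorem derived_le_fitting [Group.IsSolvable G] (hF1 : F1 G) :
    commutator G ≤ Cfsg.fittingSubgroup G := by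
  intro x hx
  have hFn : (Cfsg.fittingSubgroup G).Normal := Fitting.fitting_normal
  rw [← QuotientGroup.eq_one_iff (N := Cfsg.fittingSubgroup G)]
  by_contra hne
  have h1 : orderOf (x : G ⧸ Cfsg.fittingSubgroup G) ≠ 1 := by
    rwa [Ne, orderOf_eq_one_iff]
  obtain ⟨r, hr, hrd⟩ := Nat.exists_prime_and_dvd h1
  have : Fact r.Prime := ⟨hr⟩
  have hpos : 0 < orderOf x := orderOf_pos x
  obtain ⟨a, m, hm, hn⟩ := Nat.exists_eq_pow_mul_and_not_dvd hpos.ne' r hr.ne_one
  have hy1 : (x ^ m) ^ (r ^ a) = 1 := by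
    rw [← pow_mul, mul_comm, ← hn]
    exact pow_orderOf_eq_one x
  have hyD : x ^ m ∈ commutator G := Subgroup.pow_mem _ hx m
  have hyX : x ^ m ∈ commutator G ⊓ Subgroup.centralizer (Wof {s | s ≠ r} G : Set G) := by
    refine ⟨hyD, mem_centralizer_Wof _ _ ?_⟩
    intro s hs hsr
    apply hF1 s hs _ hyD
    have h2 : orderOf (x ^ m) ∣ r ^ a := orderOf_dvd_of_pow_eq_one hy1
    exact Nat.Coprime.coprime_dvd_left h2
      (Nat.Coprime.pow_left a ((Nat.coprime_primes hr hs).mpr (Ne.symm hsr)))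
  have hXn : (commutator G ⊓ Subgroup.centralizer (Wof {s | s ≠ r} G : Set G)).Normal := by
    have := Wof_normal {s | s ≠ r} G
    infer_instance
  have hyF : x ^ m ∈ Cfsg.fittingSubgroup G := Fitting.le_fitting hXn (nilp_X hF1 r) hyX
  have h3 : (x : G ⧸ Cfsg.fittingSubgroup G) ^ m = 1 := by
    rw [← QuotientGroup.mk_pow]
    exact (QuotientGroup.eq_one_iff _).mpr hyF
  exact hm (dvd_trans hrd (orderOf_dvd_of_pow_eq_one h3))

omit [Finite G] in
theorem normal_of_commutator_le (K : Subgroup G) (h : commutator G ≤ K) : K.Normal := by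
  refine ⟨fun k hk g => ?_⟩
  have h1 : g * k * g⁻¹ = ⁅g, k⁆ * k := by
    rw [commutatorElement_def]
    group
  rw [h1]
  refine K.mul_mem (h ?_) hk
  rw [commutator_def]
  exact Subgroup.commutator_mem_commutator (Subgroup.mem_top g) (Subgroup.mem_top k)

omit [Finite G] in
/-- An element of `K` whose order is prime to `|K : H|`, `H` normal in `K`, lies in `H`. -/
theorem mem_of_coprime {H K : Subgroup G} (hHK : H ≤ K)
    (hn : K ≤ Subgroup.normalizer (H : Set G)) {x : G} (hx : x ∈ K)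
    (hcop : (orderOf x).Coprime (H.relIndex K)) : x ∈ H := by
  have hnorm : (H.subgroupOf K).Normal := (Subgroup.normal_subgroupOf_iff_le_normalizer hHK).mpr hn
  have h1 : orderOf (QuotientGroup.mk' (H.subgroupOf K) ⟨x, hx⟩) ∣ orderOf x := by
    have := orderOf_map_dvd (QuotientGroup.mk' (H.subgroupOf K)) (⟨x, hx⟩ : ↥K)
    rwa [Subgroup.orderOf_mk] at this
  have h2 : orderOf (QuotientGroup.mk' (H.subgroupOf K) ⟨x, hx⟩) ∣ H.relIndex K :=
    orderOf_dvd_natCard _
  have h3 : orderOf (QuotientGroup.mk' (H.subgroupOf K) ⟨x, hx⟩) ∣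
      Nat.gcd (orderOf x) (H.relIndex K) := Nat.dvd_gcd h1 h2
  rw [hcop.gcd_eq_one, Nat.dvd_one] at h3
  have h4 := (QuotientGroup.eq_one_iff _).mp (orderOf_eq_one_iff.mp h3)
  exact Subgroup.mem_subgroupOf.mp h4

/-- `G' ≤ F(G)`: characteristic subgroups of a Sylow subgroup `S` inside `S'` are normal. -/
theorem char_sylow_normal (hDF : commutator G ≤ Cfsg.fittingSubgroup G) (q : ℕ) [Fact q.Prime]
    (S : Sylow q G) (T : Subgroup ↥(S : Subgroup G)) (hT : T.Characteristic)
    (hTS : T.map (S : Subgroup G).subtype ≤ ⁅(S : Subgroup G), (S : Subgroup G)⁆) :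
    (T.map (S : Subgroup G).subtype).Normal := by
  obtain ⟨T₀, hT₀⟩ : ∃ T₀ : Subgroup G, T₀ = T.map (S : Subgroup G).subtype := ⟨_, rfl⟩
  rw [← hT₀] at hTS ⊢
  have hT₀S : T₀ ≤ (S : Subgroup G) := by
    rw [hT₀]
    exact Subgroup.map_subtype_le T
  have hT₀q : T₀ ≤ Cfsg.pCore q G := by
    intro t ht
    have h1 : t ∈ commutator G := by
      rw [commutator_def]
      exact Subgroup.commutator_mono le_top le_top (hTS ht)
    obtain ⟨k, hk⟩ := S.isPGroup' ⟨t, hT₀S ht⟩
    have hk' : t ^ (q ^ k) = 1 := by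
      have := congrArg Subtype.val hk
      rwa [Subgroup.coe_pow, Subgroup.coe_one] at this
    exact Cfsg.Agent.Lib.Helper21.Bender1.mem_pCore_of_mem_fitting q (hDF h1) ⟨k, hk'⟩
  have hKn : ((S : Subgroup G) ⊔ Cfsg.fittingSubgroup G).Normal :=
    normal_of_commutator_le _ (hDF.trans le_sup_right)
  have hfr := Sylow.normalizer_sup_eq_top (S.subtype (le_sup_left :
    (S : Subgroup G) ≤ (S : Subgroup G) ⊔ Cfsg.fittingSubgroup G))
  rw [Sylow.coe_subtype, Subgroup.subgroupOf_map_subtype, inf_eq_left.mpr le_sup_left] at hfr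
  have hNS : Subgroup.normalizer ((S : Subgroup G) : Set G) ≤ Subgroup.normalizer (T₀ : Set G) := by
    rw [hT₀]
    exact Cfsg.Agent.Lib.Helper24.ConjAction.le_normalizer_map_of_characteristic _ T hT
  have hF : Cfsg.fittingSubgroup G ≤ Subgroup.normalizer (T₀ : Set G) := by
    rw [Fitting.fitting_eq_iSup_pCore]
    apply iSup_le
    intro r
    have : Fact (r : ℕ).Prime := ⟨r.2⟩
    by_cases h : (r : ℕ) = q
    · rw [h]
      exact (Fitting.pCore_le_sylow S).trans (Subgroup.le_normalizer.trans hNS)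
    · refine le_trans ?_ (Subgroup.centralizer_le_normalizer _)
      intro y hy
      rw [Subgroup.mem_centralizer_iff]
      intro t ht
      have hdis : Disjoint (Cfsg.pCore (r : ℕ) G) (Cfsg.pCore q G) :=
        IsPGroup.disjoint_of_ne (r : ℕ) q h _ _ (Fitting.pCore_isPGroup _) (Fitting.pCore_isPGroup _)
      exact (Subgroup.commute_of_normal_of_disjoint _ _ (Fitting.pCore_normal _)
        (Fitting.pCore_normal _) hdis y t hy (hT₀q ht)).eq.symm
  have htop : Subgroup.normalizer (T₀ : Set G) = ⊤ := by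
    rw [eq_top_iff, ← hfr]
    exact sup_le hNS (sup_le (Subgroup.le_normalizer.trans hNS) hF)
  exact Subgroup.normalizer_eq_top_iff.mp htop

/-- Elements all of whose prime divisors of the order exceed `r` centralize `O_r(G)` when it
has rank at most 2. -/
theorem centralizes_pCore (hodd : Odd (Nat.card G)) (r : ℕ) [Fact r.Prime]
    (hrk : Cfsg.PRankLE r 2 ↥(Cfsg.pCore r G)) (g : G)
    (hg : ∀ s : ℕ, s.Prime → s ∣ orderOf g → r < s) :
    g ∈ Subgroup.centralizer (Cfsg.pCore r G : Set G) := by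
  by_cases h2 : r = 2
  · subst h2
    rw [Fitting.pCore_eq_bot_of_not_dvd 2 (two_not_dvd hodd), Subgroup.mem_centralizer_iff]
    intro h hh
    rw [SetLike.mem_coe, Subgroup.mem_bot] at hh
    rw [hh, one_mul, mul_one]
  · have h1 : (MulAut.conjNormal g : MulAut ↥(Cfsg.pCore r G)) = 1 := by
      by_contra hne
      have h3 : orderOf (MulAut.conjNormal g : MulAut ↥(Cfsg.pCore r G)) ≠ 1 := by
        rwa [Ne, orderOf_eq_one_iff]
      obtain ⟨s, hs, hsd⟩ := Nat.exists_prime_and_dvd h3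
      have hsg : s ∣ orderOf g := dvd_trans hsd (orderOf_map_dvd MulAut.conjNormal g)
      have hrs := hg s hs hsg
      have hsA : s ∣ Nat.card (MulAut ↥(Cfsg.pCore r G)) := dvd_trans hsd (orderOf_dvd_natCard _)
      have := (Cfsg.Agent.S0640.result h2 (Fitting.pCore_isPGroup r) hrk s hs hrs.ne' hsA).2
      omega
    rw [Subgroup.mem_centralizer_iff]
    intro w hw
    have h4 : ((MulAut.conjNormal g (⟨w, hw⟩ : ↥(Cfsg.pCore r G)) : ↥(Cfsg.pCore r G)) : G) = w := by
      rw [h1]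
      rfl
    rw [MulAut.conjNormal_apply] at h4
    calc w * g = (g * w * g⁻¹) * g := by rw [h4]
      _ = g * w := by group

/-- Sylow tower: a characteristic Hall subgroup for the primes above `p`. -/
theorem hall_char [Group.IsSolvable G] (hodd : Odd (Nat.card G))
    (hr : ∀ r : ℕ, r.Prime → Cfsg.PRankLE r 2 ↥(Cfsg.pCore r G))
    (hDF : commutator G ≤ Cfsg.fittingSubgroup G) (p : ℕ) :
    ∃ N : Subgroup G, N.Characteristic ∧ Cfsg.IsPiHall {q | q.Prime ∧ p < q} N := by
  obtain ⟨H, ⟨-, hH1, hH2⟩, -⟩ := (Cfsg.Agent.S3745.result (⊥ : Subgroup G) ⊤ bot_le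
    (by rw [Subgroup.card_bot]; exact Nat.coprime_one_left _) inferInstance
    {q | q.Prime ∧ p < q}).1
  rw [Subgroup.relIndex_top_right] at hH2
  have hord : ∀ h ∈ H, ∀ s : ℕ, s.Prime → s ∣ orderOf h → p < s := by
    intro h hh s hs hsd
    have h1 : orderOf h ∣ Nat.card ↥H := by
      have := orderOf_dvd_natCard (⟨h, hh⟩ : ↥H)
      rwa [Subgroup.orderOf_mk] at this
    exact (hH1 s hs (dvd_trans hsd h1)).2
  have hcop : ∀ h ∈ H, ∀ K : Subgroup G, H ≤ K → (orderOf h).Coprime (H.relIndex K) := by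
    intro h hh K hHK
    apply Nat.coprime_of_dvd
    intro s hs hsd hsK
    have h1 : orderOf h ∣ Nat.card ↥H := by
      have := orderOf_dvd_natCard (⟨h, hh⟩ : ↥H)
      rwa [Subgroup.orderOf_mk] at this
    exact hH2 s hs (hH1 s hs (dvd_trans hsd h1))
      (dvd_trans hsK (Subgroup.relIndex_dvd_index_of_le hHK))
  have hHW : H ≤ Subgroup.centralizer (Wof {r | r ≤ p} G : Set G) := by
    intro h hh
    apply mem_centralizer_Wof
    intro r hrp hrle
    have : Fact r.Prime := ⟨hrp⟩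
    exact centralizes_pCore hodd r (hr r hrp) h
      (fun s hs hsd => lt_of_le_of_lt hrle (hord h hh s hs hsd))
  have hFN : Cfsg.fittingSubgroup G ≤ Subgroup.normalizer (H : Set G) := by
    rw [Fitting.fitting_eq_iSup_pCore]
    apply iSup_le
    intro r
    have : Fact (r : ℕ).Prime := ⟨r.2⟩
    by_cases hrp : (r : ℕ) ≤ p
    · refine le_trans (pCore_le_Wof {r | r ≤ p} (r : ℕ) r.2 hrp) ?_
      exact (Subgroup.le_centralizer_iff.mp hHW).trans (Subgroup.centralizer_le_normalizer _)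
    · push Not at hrp
      refine le_trans ?_ Subgroup.le_normalizer
      obtain ⟨Q⟩ := (inferInstance : Nonempty (Sylow (r : ℕ) ↥H))
      have hQp : IsPGroup (r : ℕ) ↥((Q : Subgroup ↥H).map H.subtype) := Q.isPGroup'.map _
      have hQi : ¬ (r : ℕ) ∣ ((Q : Subgroup ↥H).map H.subtype).index := by
        rw [Subgroup.index_map_subtype]
        intro hd
        rcases (Nat.Prime.dvd_mul r.2).mp hd with h | h
        · exact Q.not_dvd_index h
        · exact hH2 (r : ℕ) r.2 ⟨r.2, hrp⟩ h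
      have h1 := Fitting.pCore_le_sylow (hQp.toSylow hQi)
      rw [IsPGroup.toSylow_coe] at h1
      exact h1.trans (Subgroup.map_subtype_le _)
  have hKn : (H ⊔ Cfsg.fittingSubgroup G).Normal :=
    normal_of_commutator_le _ (hDF.trans le_sup_right)
  have hHn : H.Normal := by
    refine ⟨fun h hh g => ?_⟩
    have hx : g * h * g⁻¹ ∈ H ⊔ Cfsg.fittingSubgroup G :=
      hKn.conj_mem h (Subgroup.mem_sup_left hh) g
    refine mem_of_coprime le_sup_left (sup_le Subgroup.le_normalizer hFN) hx ?_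
    have h1 : orderOf (g * h * g⁻¹) = orderOf h := (MulAut.conj g).orderOf_eq h
    rw [h1]
    exact hcop h hh _ le_sup_left
  refine ⟨H, ?_, hH1, hH2⟩
  rw [Subgroup.characteristic_iff_map_le]
  intro φ x hx
  obtain ⟨h, hh, rfl⟩ := hx
  refine mem_of_coprime le_top (by rw [Subgroup.normalizer_eq_top]) (Subgroup.mem_top _) ?_
  have h1 : orderOf (φ.toMonoidHom h) = orderOf h := φ.orderOf_eq h
  rw [h1]
  exact hcop h hh ⊤ le_top

/-- `O_p(G)` has rank at most 2 for all `p` in both cases of the hypothesis of B-G 4.20. -/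
theorem rank_pCore (hr : Cfsg.RankLE 2 G ∨ Cfsg.RankLE 2 (Cfsg.fittingSubgroup G)) :
    ∀ r : ℕ, r.Prime → Cfsg.PRankLE r 2 ↥(Cfsg.pCore r G) := by
  intro r hrp
  have : Fact r.Prime := ⟨hrp⟩
  rcases hr with h | h
  · exact Cfsg.Agent.S1335.pRankLE_of_injective r 2 (Cfsg.pCore r G).subtype
      (Subgroup.subtype_injective _) (h r hrp)
  · exact Cfsg.Agent.S1335.pRankLE_of_injective r 2
      (Subgroup.inclusion (Fitting.pCore_le_fitting r))
      (Subgroup.inclusion_injective _) (h r hrp)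

/-- Bender–Glauberman 4.20 (a): `G'` is nilpotent. -/
theorem derived_nilpotent [Group.IsSolvable G] (hF1 : F1 G) :
    Group.IsNilpotent ↥(commutator G) := by
  have hDF := derived_le_fitting hF1
  have : Group.IsNilpotent ↥(Cfsg.fittingSubgroup G) := Fitting.fitting_isNilpotent
  exact Group.nilpotent_of_mulEquiv (Subgroup.subgroupOfEquivOfLe hDF)

end Cfsg.Agent.Lib.Helper9.Rank2Fit
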