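import Mathlib
import Cfsg.Agent.Lib.Helper9.Rank2Aut
import Cfsg.Agent.Lib.Helper91.Hall

/-!
Narrow `p`-groups (Bender–Glauberman, Section 4): uniqueness of normal subgroups of a given
order inside a characteristic subgroup of exponent `p` and class at most 2.
-/

set_option autoImplicit false

namespace Cfsg.Agent.Lib.Helper9.Narrow1

open scoped commutatorElement

variable {R : Type*} [Group R] [Finite R] {p : ℕ} [Fact p.Prime]

/-- A nontrivial normal subgroup of a finite `p`-group contains a central element of order `p`. -/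
theorem exists_central (hR : IsPGroup p R) (L : Subgroup R) [L.Normal] (hL : L ≠ ⊥) :
    ∃ c ∈ L, c ∈ Subgroup.center R ∧ orderOf c = p := by
  have hpp : p.Prime := Fact.out
  have hdvd : p ∣ Nat.card L := by
    obtain ⟨n, hn⟩ := IsPGroup.iff_card.mp (hR.to_subgroup L)
    rw [hn]
    have hn0 : n ≠ 0 := by
      intro h0
      rw [h0, pow_zero] at hn
      exact hL (Subgroup.card_eq_one.mp hn)
    exact dvd_pow_self p hn0
  have h1 : (1 : ↥L) ∈ MulAction.fixedPoints (ConjAct R) ↥L := by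
    intro g
    exact smul_one g
  obtain ⟨b, hb, hne⟩ := (hR.of_equiv ConjAct.toConjAct).exists_fixed_point_of_prime_dvd_card_of_fixed_point
    ↥L hdvd h1
  have hbZ : (b : R) ∈ Subgroup.center R := by
    rw [Subgroup.mem_center_iff]
    intro g
    have h2 := congrArg Subtype.val (hb (ConjAct.toConjAct g))
    rw [ConjAct.Subgroup.val_conj_smul, ConjAct.smul_def, ConjAct.ofConjAct_toConjAct] at h2
    calc g * (b : R) = g * b * g⁻¹ * g := by group
      _ = b * g := by rw [h2]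
  have hD : L ⊓ Subgroup.center R ≠ ⊥ := by
    intro h
    have h3 : (b : R) ∈ L ⊓ Subgroup.center R := ⟨b.2, hbZ⟩
    rw [h, Subgroup.mem_bot] at h3
    apply hne
    apply Subtype.ext
    exact h3.symm
  have hdvd2 : p ∣ Nat.card ↥(L ⊓ Subgroup.center R) := by
    obtain ⟨n, hn⟩ := IsPGroup.iff_card.mp (hR.to_subgroup (L ⊓ Subgroup.center R))
    rw [hn]
    have hn0 : n ≠ 0 := by
      intro h0
      rw [h0, pow_zero] at hn
      exact hD (Subgroup.card_eq_one.mp hn)
    exact dvd_pow_self p hn0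
  obtain ⟨x, hx⟩ := exists_prime_orderOf_dvd_card' p hdvd2
  refine ⟨x.1, x.2.1, x.2.2, ?_⟩
  rw [Subgroup.orderOf_coe]
  exact hx

/-- Between normal subgroups `N < L` of a finite `p`-group there is a normal subgroup `M` with
`|M : N| = p` and `M / N` central. -/
theorem exists_step (hR : IsPGroup p R) (N L : Subgroup R) [N.Normal] [L.Normal] (hNL : N < L) :
    ∃ M : Subgroup R, M.Normal ∧ N ≤ M ∧ M ≤ L ∧ Nat.card M = p * Nat.card N ∧
      M.map (QuotientGroup.mk' N) ≤ Subgroup.center (R ⧸ N) := by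
  have hLn : (L.map (QuotientGroup.mk' N)).Normal :=
    Subgroup.Normal.map inferInstance _ (QuotientGroup.mk'_surjective _)
  have hLne : L.map (QuotientGroup.mk' N) ≠ ⊥ := by
    intro h
    rw [Subgroup.map_eq_bot_iff, QuotientGroup.ker_mk'] at h
    exact (not_le_of_gt hNL) h
  obtain ⟨c, hcL, hcZ, hcp⟩ := exists_central (hR.to_quotient N) (L.map (QuotientGroup.mk' N)) hLne
  have hzc : Subgroup.zpowers c ≤ Subgroup.center (R ⧸ N) := Subgroup.zpowers_le.mpr hcZ
  have hzn : (Subgroup.zpowers c).Normal := by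
    refine ⟨fun n hn g => ?_⟩
    have h1 := Subgroup.mem_center_iff.mp (hzc hn) g
    rw [h1, mul_inv_cancel_right]
    exact hn
  refine ⟨(Subgroup.zpowers c).comap (QuotientGroup.mk' N), Subgroup.Normal.comap hzn _, ?_, ?_, ?_, ?_⟩
  · intro x hx
    rw [Subgroup.mem_comap]
    have h1 : QuotientGroup.mk' N x = 1 := (QuotientGroup.eq_one_iff x).mpr hx
    rw [h1]
    exact Subgroup.one_mem _
  · intro x hx
    rw [Subgroup.mem_comap] at hx
    obtain ⟨l, hl, hlx⟩ := (Subgroup.zpowers_le.mpr hcL) hx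
    have h1 : l⁻¹ * x ∈ N := by
      rw [← QuotientGroup.eq_one_iff, QuotientGroup.mk_mul, QuotientGroup.mk_inv]
      have h2 : (l : R ⧸ N) = (x : R ⧸ N) := hlx
      rw [h2, inv_mul_cancel]
    have h3 : x = l * (l⁻¹ * x) := by group
    rw [h3]
    exact L.mul_mem hl (hNL.le h1)
  · rw [Cfsg.Agent.Lib.Helper91.Hall.card_comap_mk, Nat.card_zpowers, hcp]
  · rw [Subgroup.map_comap_eq_self_of_surjective (QuotientGroup.mk'_surjective N)]
    exact hzc

/-- Strict inclusions of subgroups of a `p`-group multiply the order by at least `p`. -/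
theorem card_lt (hR : IsPGroup p R) {A B : Subgroup R} (hAB : A < B) :
    p * Nat.card A ≤ Nat.card B := by
  have hpp : p.Prime := Fact.out
  obtain ⟨a, ha⟩ := IsPGroup.iff_card.mp (hR.to_subgroup A)
  obtain ⟨b, hb⟩ := IsPGroup.iff_card.mp (hR.to_subgroup B)
  have h1 : Nat.card A ∣ Nat.card B := Subgroup.card_dvd_of_le hAB.le
  rw [ha, hb] at h1 ⊢
  have h2 : a ≤ b := (Nat.pow_dvd_pow_iff_le_right hpp.one_lt).mp h1
  have h3 : a ≠ b := by
    intro h
    have h4 : Nat.card B ≤ Nat.card A := by rw [ha, hb, h]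
    exact hAB.ne (Subgroup.eq_of_le_of_card_ge hAB.le h4)
  have h5 : a + 1 ≤ b := by omega
  calc p * p ^ a = p ^ (a + 1) := by ring
    _ ≤ p ^ b := Nat.pow_le_pow_right hpp.pos h5

/-- Counting the fibres of `g ↦ [g, s]`. -/
theorem fiber_count (M N : Subgroup R) (s : R) (h : ∀ g ∈ M, g * s * g⁻¹ * s⁻¹ ∈ N) :
    Nat.card M ≤ Nat.card N * Nat.card ↥(M ⊓ Subgroup.centralizer {s}) := by
  have hcard : Nat.card ((Subgroup.centralizer {s}).subgroupOf M) =
      Nat.card ↥(M ⊓ Subgroup.centralizer {s}) := by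
    rw [inf_comm, ← Subgroup.inf_subgroupOf_right]
    exact Nat.card_congr (Subgroup.subgroupOfEquivOfLe inf_le_right).toEquiv
  have h1 := Subgroup.card_mul_index ((Subgroup.centralizer {s}).subgroupOf M)
  have h2 : ((Subgroup.centralizer {s}).subgroupOf M).index ≤ Nat.card N := by
    have hinj : Function.Injective (fun q : ↥M ⧸ (Subgroup.centralizer {s}).subgroupOf M =>
        (⟨(q.out : R) * s * (q.out : R)⁻¹ * s⁻¹, h _ q.out.2⟩ : ↥N)) := by
      intro q q' hqq
      have h3 : (q.out : R) * s * (q.out : R)⁻¹ * s⁻¹ = (q'.out : R) * s * (q'.out : R)⁻¹ * s⁻¹ :=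
        congrArg Subtype.val hqq
      have h4 : (q.out : R)⁻¹ * (q'.out : R) ∈ Subgroup.centralizer {s} := by
        rw [Subgroup.mem_centralizer_iff]
        intro y hy
        rw [Set.mem_singleton_iff] at hy
        rw [hy]
        have h5 : (q.out : R) * s * (q.out : R)⁻¹ = (q'.out : R) * s * (q'.out : R)⁻¹ :=
          mul_right_cancel h3
        calc s * ((q.out : R)⁻¹ * (q'.out : R))
            = (q.out : R)⁻¹ * ((q.out : R) * s * (q.out : R)⁻¹) * (q'.out : R) := by group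
          _ = (q.out : R)⁻¹ * ((q'.out : R) * s * (q'.out : R)⁻¹) * (q'.out : R) := by rw [h5]
          _ = (q.out : R)⁻¹ * (q'.out : R) * s := by group
      have h6 : (q.out : ↥M ⧸ (Subgroup.centralizer {s}).subgroupOf M) =
          (q'.out : ↥M ⧸ (Subgroup.centralizer {s}).subgroupOf M) := by
        rw [QuotientGroup.eq, Subgroup.mem_subgroupOf]
        exact h4
      rw [QuotientGroup.out_eq', QuotientGroup.out_eq'] at h6
      exact h6
    exact Nat.card_le_card_of_injective _ hinj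
  calc Nat.card M = Nat.card ((Subgroup.centralizer {s}).subgroupOf M) *
        ((Subgroup.centralizer {s}).subgroupOf M).index := h1.symm
    _ ≤ Nat.card ((Subgroup.centralizer {s}).subgroupOf M) * Nat.card N :=
        Nat.mul_le_mul_left _ h2
    _ = Nat.card N * Nat.card ↥(M ⊓ Subgroup.centralizer {s}) := by rw [hcard, mul_comm]

/-- The set `T_s` of elements of order dividing `p` centralizing `s`. -/
def tset (p : ℕ) (s : R) : Set R := {x : R | x * s = s * x ∧ x ^ p = 1}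

omit [Fact (Nat.Prime p)] in
theorem card_le_tset {s : R} (K : Subgroup R) (hK : ∀ x ∈ K, x * s = s * x ∧ x ^ p = 1) :
    Nat.card K ≤ (tset p s).ncard := by
  have h1 : Nat.card K = (K : Set R).ncard := Nat.card_coe_set_eq (K : Set R)
  rw [h1]
  exact Set.ncard_le_ncard (fun x hx => hK x hx) (Set.toFinite _)

omit [Fact (Nat.Prime p)] in
theorem eq_tset {s : R} (K : Subgroup R) (hK : ∀ x ∈ K, x * s = s * x ∧ x ^ p = 1)
    (hc : (tset p s).ncard ≤ Nat.card K) : (K : Set R) = tset p s := by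
  have h1 : Nat.card K = (K : Set R).ncard := Nat.card_coe_set_eq (K : Set R)
  rw [h1] at hc
  exact Set.eq_of_subset_of_ncard_le (fun x hx => hK x hx) hc (Set.toFinite _)

theorem card_le_p (hR : IsPGroup p R) {s : R} (hsp : s ^ p = 1) (hT : (tset p s).ncard ≤ p ^ 2)
    (K : Subgroup R) (hK : ∀ x ∈ K, x * s = s * x ∧ x ^ p = 1) (hs : s ∉ K) :
    Nat.card K ≤ p := by
  have hpp : p.Prime := Fact.out
  have h1 : Nat.card K = (K : Set R).ncard := Nat.card_coe_set_eq (K : Set R)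
  have h2 : (K : Set R) ⊂ tset p s := by
    refine ⟨fun x hx => hK x hx, fun h => hs (h ⟨rfl, hsp⟩)⟩
  have h3 : (K : Set R).ncard < (tset p s).ncard := Set.ncard_lt_ncard h2 (Set.toFinite _)
  obtain ⟨k, hk⟩ := IsPGroup.iff_card.mp (hR.to_subgroup K)
  rw [← h1, hk] at h3
  have h4 : p ^ k < p ^ 2 := lt_of_lt_of_le h3 hT
  have h5 : k < 2 := (Nat.pow_lt_pow_iff_right hpp.one_lt).mp h4
  rw [hk]
  calc p ^ k ≤ p ^ 1 := Nat.pow_le_pow_right hpp.pos (by omega)
    _ = p := pow_one p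

/-- Uniqueness: in a `p`-group of rank at least 3 with an element `s` of order dividing `p`
whose centralizer has at most `p ^ 2` elements of order dividing `p`, two normal subgroups of
the same order inside a subgroup `H` of exponent `p` and class at most 2 are equal. -/
theorem unique_normal (hR : IsPGroup p R) (hrk : ¬ Cfsg.PRankLE p 2 R) (H : Subgroup R)
    (hHexp : ∀ x ∈ H, x ^ p = 1)
    (hHcl : ∀ a ∈ H, ∀ b ∈ H, ∀ c ∈ H, ⁅a, b⁆ * c = c * ⁅a, b⁆)
    (s : R) (hsp : s ^ p = 1) (hT : (tset p s).ncard ≤ p ^ 2)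
    (N₁ N₂ : Subgroup R) [N₁.Normal] [N₂.Normal] (h1 : N₁ ≤ H) (h2 : N₂ ≤ H)
    (hcard : Nat.card N₁ = Nat.card N₂) : N₁ = N₂ := by
  have hpp : p.Prime := Fact.out
  by_contra hne
  have hN1 : N₁ ⊓ N₂ < N₁ := by
    refine lt_of_le_of_ne inf_le_left (fun h => hne ?_)
    exact Subgroup.eq_of_le_of_card_ge (inf_eq_left.mp h) hcard.ge
  have hN2 : N₁ ⊓ N₂ < N₂ := by
    refine lt_of_le_of_ne inf_le_right (fun h => hne ?_)
    exact (Subgroup.eq_of_le_of_card_ge (inf_eq_right.mp h) hcard.le).symm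
  obtain ⟨N, hN⟩ : ∃ N : Subgroup R, N = N₁ ⊓ N₂ := ⟨_, rfl⟩
  have hNn : N.Normal := by rw [hN]; infer_instance
  rw [← hN] at hN1 hN2
  obtain ⟨K₁, hK1n, hNK1, hK1N, hK1c, hK1z⟩ := exists_step hR N N₁ hN1
  obtain ⟨K₂, hK2n, hNK2, hK2N, hK2c, hK2z⟩ := exists_step hR N N₂ hN2
  have hNpos : 0 < Nat.card N := Nat.card_pos
  have hGH : K₁ ⊔ K₂ ≤ H := sup_le (hK1N.trans h1) (hK2N.trans h2)
  have hGz : (K₁ ⊔ K₂).map (QuotientGroup.mk' N) ≤ Subgroup.center (R ⧸ N) := by
    rw [Subgroup.map_sup]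
    exact sup_le hK1z hK2z
  have hK2not : ¬ K₂ ≤ K₁ := by
    intro h
    have h3 : K₂ ≤ N := by
      rw [hN]
      exact le_inf (h.trans hK1N) hK2N
    have h4 := Subgroup.card_le_of_le h3
    rw [hK2c] at h4
    have h5 : 2 * Nat.card N ≤ p * Nat.card N := Nat.mul_le_mul_right _ hpp.two_le
    omega
  have hK1lt : K₁ < K₁ ⊔ K₂ := by
    refine lt_of_le_of_ne le_sup_left (fun h => hK2not ?_)
    rw [h]
    exact le_sup_right
  have hGcard : p * (p * Nat.card N) ≤ Nat.card ↥(K₁ ⊔ K₂) := by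
    have h3 := card_lt hR hK1lt
    rwa [hK1c] at h3
  have hcomm : ∀ g ∈ K₁ ⊔ K₂, ∀ r : R, g * r * g⁻¹ * r⁻¹ ∈ N := by
    intro g hg r
    have hz : QuotientGroup.mk' N g ∈ Subgroup.center (R ⧸ N) := hGz ⟨g, hg, rfl⟩
    have h3 := Subgroup.mem_center_iff.mp hz (QuotientGroup.mk' N r)
    rw [← QuotientGroup.eq_one_iff]
    have h4 : ((g * r * g⁻¹ * r⁻¹ : R) : R ⧸ N) =
        QuotientGroup.mk' N g * QuotientGroup.mk' N r * (QuotientGroup.mk' N g)⁻¹ *
          (QuotientGroup.mk' N r)⁻¹ := by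
      simp
    rw [h4, ← h3]
    group
  -- the centralizer of `s` in `K₁ ⊔ K₂`
  have hf1 := fiber_count (K₁ ⊔ K₂) N s (fun g hg => hcomm g hg s)
  have hDprop : ∀ x ∈ (K₁ ⊔ K₂) ⊓ Subgroup.centralizer {s}, x * s = s * x ∧ x ^ p = 1 := by
    intro x hx
    exact ⟨(Subgroup.mem_centralizer_iff.mp hx.2 s rfl).symm, hHexp x (hGH hx.1)⟩
  have hDle : Nat.card ↥((K₁ ⊔ K₂) ⊓ Subgroup.centralizer {s}) ≤ p ^ 2 :=
    (card_le_tset _ hDprop).trans hT
  have hDge : p ^ 2 ≤ Nat.card ↥((K₁ ⊔ K₂) ⊓ Subgroup.centralizer {s}) := by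
    have h3 : Nat.card N * p ^ 2 ≤
        Nat.card N * Nat.card ↥((K₁ ⊔ K₂) ⊓ Subgroup.centralizer {s}) := by
      calc Nat.card N * p ^ 2 = p * (p * Nat.card N) := by ring
        _ ≤ Nat.card ↥(K₁ ⊔ K₂) := hGcard
        _ ≤ _ := hf1
    exact Nat.le_of_mul_le_mul_left h3 hNpos
  have hDeq := eq_tset _ hDprop (hT.trans hDge)
  have hsD : s ∈ (K₁ ⊔ K₂) ⊓ Subgroup.centralizer {s} := by
    rw [← SetLike.mem_coe, hDeq]
    exact ⟨rfl, hsp⟩
  have hsG : s ∈ K₁ ⊔ K₂ := hsD.1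
  have hsH : s ∈ H := hGH hsG
  -- `N` has order at least `p ^ 2`
  have hNge : p ^ 2 ≤ Nat.card N := by
    unfold Cfsg.PRankLE at hrk
    push Not at hrk
    obtain ⟨B, hBc, hBexp, hBcard⟩ := hrk
    have hf2 := fiber_count B N s (fun b hb => by
      have h3 := N.inv_mem (hcomm s hsG b)
      have h4 : (s * b * s⁻¹ * b⁻¹)⁻¹ = b * s * b⁻¹ * s⁻¹ := by group
      rwa [h4] at h3)
    have hsB : s ∉ B := by
      intro hsB
      have h3 : Nat.card B ≤ (tset p s).ncard := by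
        apply card_le_tset
        intro x hx
        refine ⟨?_, hBexp x hx⟩
        have h4 := hBc.is_comm.comm ⟨x, hx⟩ ⟨s, hsB⟩
        exact congrArg Subtype.val h4
      omega
    have hDB : Nat.card ↥(B ⊓ Subgroup.centralizer {s}) ≤ p := by
      apply card_le_p hR hsp hT
      · intro x hx
        exact ⟨(Subgroup.mem_centralizer_iff.mp hx.2 s rfl).symm, hBexp x hx.1⟩
      · intro h
        exact hsB h.1
    have h5 : p ^ 2 < Nat.card N * p :=
      lt_of_lt_of_le hBcard (hf2.trans (Nat.mul_le_mul_left _ hDB))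
    obtain ⟨n, hn⟩ := IsPGroup.iff_card.mp (hR.to_subgroup N)
    rw [hn] at h5 ⊢
    have h6 : p ^ 2 < p ^ (n + 1) := by rwa [pow_succ]
    have h7 : 2 < n + 1 := (Nat.pow_lt_pow_iff_right hpp.one_lt).mp h6
    exact Nat.pow_le_pow_right hpp.pos (by omega)
  have hbig : p ^ 2 * p ^ 2 ≤ Nat.card ↥(K₁ ⊔ K₂) := by
    calc p ^ 2 * p ^ 2 ≤ p ^ 2 * Nat.card N := Nat.mul_le_mul_left _ hNge
      _ = p * (p * Nat.card N) := by ring
      _ ≤ _ := hGcard
  have hGleH : Nat.card ↥(K₁ ⊔ K₂) ≤ Nat.card H := Subgroup.card_le_of_le hGH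
  have hp2 : 0 < p ^ 2 := pow_pos hpp.pos 2
  by_cases hsZ : ∀ h ∈ H, h * s = s * h
  · have h3 : Nat.card H ≤ (tset p s).ncard :=
      card_le_tset H (fun x hx => ⟨hsZ x hx, hHexp x hx⟩)
    have h4 : p ^ 2 * p ^ 2 ≤ p ^ 2 * 1 := by
      rw [mul_one]
      exact hbig.trans (hGleH.trans (h3.trans hT))
    have h5 := Nat.le_of_mul_le_mul_left h4 hp2
    have h6 : 2 * 2 ≤ p ^ 2 := by
      rw [sq]
      exact Nat.mul_le_mul hpp.two_le hpp.two_le
    omega
  · have hder : ⁅H, H⁆ ≤ H ⊓ Subgroup.centralizer (H : Set R) := by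
      rw [Subgroup.commutator_le]
      intro a ha b hb
      refine ⟨Cfsg.Agent.Lib.Helper9.GL2Odd.commutator_self_le H
        (Subgroup.commutator_mem_commutator ha hb), ?_⟩
      show ⁅a, b⁆ ∈ Subgroup.centralizer (H : Set R)
      rw [Subgroup.mem_centralizer_iff]
      intro c hc
      exact (hHcl a ha b hb c hc).symm
    have hsnot : s ∉ ⁅H, H⁆ := by
      intro h
      apply hsZ
      intro c hc
      exact Subgroup.mem_centralizer_iff.mp (hder h).2 c hc
    have hdc : Nat.card ↥⁅H, H⁆ ≤ p := by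
      apply card_le_p hR hsp hT
      · intro x hx
        exact ⟨(Subgroup.mem_centralizer_iff.mp (hder hx).2 s hsH).symm, hHexp x (hder hx).1⟩
      · exact hsnot
    have hf3 := fiber_count H ⁅H, H⁆ s (fun g hg => Subgroup.commutator_mem_commutator hg hsH)
    have hHD : Nat.card ↥(H ⊓ Subgroup.centralizer {s}) ≤ p ^ 2 := by
      refine (card_le_tset _ ?_).trans hT
      intro x hx
      exact ⟨(Subgroup.mem_centralizer_iff.mp hx.2 s rfl).symm, hHexp x hx.1⟩
    have h4 : p ^ 2 * p ^ 2 ≤ p ^ 2 * p := by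
      calc p ^ 2 * p ^ 2 ≤ Nat.card H := hbig.trans hGleH
        _ ≤ Nat.card ↥⁅H, H⁆ * Nat.card ↥(H ⊓ Subgroup.centralizer {s}) := hf3
        _ ≤ p * p ^ 2 := Nat.mul_le_mul hdc hHD
        _ = p ^ 2 * p := by ring
    have h5 := Nat.le_of_mul_le_mul_left h4 hp2
    have h6 : p * 2 ≤ p ^ 2 := by
      rw [sq]
      exact Nat.mul_le_mul_left _ hpp.two_le
    have := hpp.pos
    omega

end Cfsg.Agent.Lib.Helper9.Narrow1
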