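import Mathlib
import Cfsg.Agent.Lib.Helper9.Narrow1

/-!
Narrow `p`-groups (Bender–Glauberman, Section 4): a `p'`-automorphism of a narrow `p`-group of
rank at least 3 which is killed by every homomorphism of the automorphism group to an abelian
group of exponent dividing `p - 1` is trivial.
-/

set_option autoImplicit false

namespace Cfsg.Agent.Lib.Helper9.Narrow2

open scoped commutatorElement
open Cfsg.Agent.Lib.Helper9.Narrow1

universe u

variable {R : Type u} [Group R] [Finite R] {p : ℕ} [Fact p.Prime]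

/-- The automorphisms induced on a section `M / K` with `K`, `M` invariant. -/
def secHom (K M : Subgroup R) [K.Normal] (hK : ∀ (α : MulAut R) (y : R), y ∈ K ↔ α y ∈ K)
    (hM : ∀ (α : MulAut R) (y : R), y ∈ M ↔ α y ∈ M) :
    MulAut R →* MulAut (↥M ⧸ K.subgroupOf M) :=
  MonoidHom.mk' (fun α => QuotientGroup.congr (K.subgroupOf M) (K.subgroupOf M)
      (Cfsg.Agent.S0640.restr M α (hM α)) (by
        ext y
        constructor
        · rintro ⟨z, hz, rfl⟩
          have hz' : (z : R) ∈ K := Subgroup.mem_subgroupOf.mp hz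
          exact Subgroup.mem_subgroupOf.mpr ((hK α z).mp hz')
        · intro hy
          have hy' : (y : R) ∈ K := Subgroup.mem_subgroupOf.mp hy
          refine ⟨(Cfsg.Agent.S0640.restr M α (hM α)).symm y, ?_, by simp⟩
          have h1 := Cfsg.Agent.S0640.restr_apply M α (hM α)
            ((Cfsg.Agent.S0640.restr M α (hM α)).symm y)
          rw [MulEquiv.apply_symm_apply] at h1
          have h2 : (((Cfsg.Agent.S0640.restr M α (hM α)).symm y : ↥M) : R) ∈ K := by
            rw [hK α, ← h1]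
            exact hy'
          exact Subgroup.mem_subgroupOf.mpr h2)) (by
    intro a b
    ext q
    obtain ⟨g, rfl⟩ := QuotientGroup.mk_surjective q
    rfl)

omit [Finite R] in
theorem secHom_apply (K M : Subgroup R) [K.Normal]
    (hK : ∀ (α : MulAut R) (y : R), y ∈ K ↔ α y ∈ K)
    (hM : ∀ (α : MulAut R) (y : R), y ∈ M ↔ α y ∈ M) (α : MulAut R) (m : ↥M) :
    secHom K M hK hM α (m : ↥M ⧸ K.subgroupOf M) =
      ((⟨α m, (hM α m).mp m.2⟩ : ↥M) : ↥M ⧸ K.subgroupOf M) := rfl

/-- One step up the chain. -/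
theorem step (hR : IsPGroup p R) (x : MulAut R) (hcop : (orderOf x).Coprime p)
    (hx : ∀ (T : Type u) [CommGroup T] (φ : MulAut R →* T), (∀ t : T, t ^ (p - 1) = 1) → φ x = 1)
    (K M : Subgroup R) [K.Normal] (hK : ∀ (α : MulAut R) (y : R), y ∈ K ↔ α y ∈ K)
    (hM : ∀ (α : MulAut R) (y : R), y ∈ M ↔ α y ∈ M) (hKM : K ≤ M)
    (hcard : Nat.card M = p * Nat.card K) (hfix : ∀ y ∈ K, x y = y) : ∀ y ∈ M, x y = y := by
  have hpp : p.Prime := Fact.out
  have hQcard : Nat.card (↥M ⧸ K.subgroupOf M) = p := by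
    have h1 : Nat.card (↥M ⧸ K.subgroupOf M) = K.relIndex M := rfl
    have h2 := Subgroup.relIndex_mul_relIndex ⊥ K M bot_le hKM
    rw [Subgroup.relIndex_bot_left, Subgroup.relIndex_bot_left, hcard, mul_comm] at h2
    rw [h1]
    exact Nat.eq_of_mul_eq_mul_right Nat.card_pos h2
  have hcyc : IsCyclic (↥M ⧸ K.subgroupOf M) := isCyclic_of_prime_card hQcard
  have hcomm : ∀ a b : MulAut (↥M ⧸ K.subgroupOf M), a * b = b * a := by
    intro a b
    apply (IsCyclic.mulAutMulEquiv (↥M ⧸ K.subgroupOf M)).injective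
    rw [map_mul, map_mul, mul_comm]
  have hexp : ∀ t : MulAut (↥M ⧸ K.subgroupOf M), t ^ (p - 1) = 1 := by
    intro t
    have h1 := IsCyclic.card_mulAut (↥M ⧸ K.subgroupOf M)
    rw [hQcard, Nat.totient_prime hpp] at h1
    rw [← h1]
    exact pow_card_eq_one'
  let _ : CommGroup (MulAut (↥M ⧸ K.subgroupOf M)) :=
    { (inferInstance : Group (MulAut (↥M ⧸ K.subgroupOf M))) with mul_comm := hcomm }
  have h := hx (MulAut (↥M ⧸ K.subgroupOf M)) (secHom K M hK hM) hexp
  intro m hm
  have h1 : secHom K M hK hM x ((⟨m, hm⟩ : ↥M) : ↥M ⧸ K.subgroupOf M) =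
      ((⟨m, hm⟩ : ↥M) : ↥M ⧸ K.subgroupOf M) := by
    rw [h]
    rfl
  rw [secHom_apply, QuotientGroup.eq, Subgroup.mem_subgroupOf] at h1
  have h2 : (x m)⁻¹ * m ∈ K := h1
  obtain ⟨u, hu⟩ : ∃ u : R, u = m⁻¹ * x m := ⟨_, rfl⟩
  have huK : u ∈ K := by
    have h3 := K.inv_mem h2
    have h4 : ((x m)⁻¹ * m)⁻¹ = m⁻¹ * x m := by group
    rw [hu, ← h4]
    exact h3
  have hxm : x m = m * u := by rw [hu]; group
  have hpow : ∀ j : ℕ, (x ^ j) m = m * u ^ j := by
    intro j
    induction j with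
    | zero => simp
    | succ j ih =>
      rw [pow_succ', MulAut.mul_apply, ih, map_mul, map_pow, hfix u huK, hxm, pow_succ']
      group
  have h5 := hpow (orderOf x)
  rw [pow_orderOf_eq_one, MulAut.one_apply] at h5
  have h6 : u ^ orderOf x = 1 := by
    have h7 : m * u ^ orderOf x = m * 1 := by rw [mul_one]; exact h5.symm
    exact mul_left_cancel h7
  obtain ⟨k, hk⟩ := hR u
  have h8 : orderOf u ∣ Nat.gcd (orderOf x) (p ^ k) :=
    Nat.dvd_gcd (orderOf_dvd_of_pow_eq_one h6) (orderOf_dvd_of_pow_eq_one hk)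
  rw [(Nat.Coprime.pow_right k hcop).gcd_eq_one, Nat.dvd_one] at h8
  rw [hxm, orderOf_eq_one_iff.mp h8, mul_one]

/-- Main theorem: in a `p`-group `R` (`p` odd) of rank at least 3 with an element `s` of order
dividing `p` whose centralizer has at most `p ^ 2` elements of order dividing `p`, a
`p'`-automorphism killed by all homomorphisms of `Aut R` to abelian groups of exponent
dividing `p - 1` is trivial. -/
theorem narrow_aut (hp : p ≠ 2) (hR : IsPGroup p R) (hrk : ¬ Cfsg.PRankLE p 2 R)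
    (s : R) (hsp : s ^ p = 1) (hT : (tset p s).ncard ≤ p ^ 2)
    (x : MulAut R) (hcop : (orderOf x).Coprime p)
    (hx : ∀ (T : Type u) [CommGroup T] (φ : MulAut R →* T), (∀ t : T, t ^ (p - 1) = 1) → φ x = 1) :
    x = 1 := by
  have hpp : p.Prime := Fact.out
  obtain ⟨C, hCchar, hC1, hC2, hC3⟩ := Cfsg.Agent.S0093.result hR
  have hCinv : ∀ (α : MulAut R) (y : R), y ∈ C ↔ α y ∈ C := by
    intro α y
    have h := hCchar.fixed α
    constructor
    · intro hy
      rw [← h] at hy
      exact hy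
    · intro hy
      rw [← h]
      exact hy
  obtain ⟨E, hE⟩ : ∃ E : Subgroup R, E = Cfsg.Agent.S0640.omegaSub p hp C hC2 := ⟨_, rfl⟩
  have hEmem : ∀ y : R, y ∈ E ↔ y ∈ C ∧ y ^ p = 1 := by
    intro y
    rw [hE]
    exact Cfsg.Agent.S0640.mem_omegaSub p hp C hC2 y
  have hEinv : ∀ (α : MulAut R) (y : R), y ∈ E ↔ α y ∈ E := by
    intro α y
    rw [hEmem, hEmem, ← hCinv α y, ← map_pow]
    constructor
    · rintro ⟨h1, h2⟩
      exact ⟨h1, by rw [h2, map_one]⟩
    · rintro ⟨h1, h2⟩
      exact ⟨h1, (MulEquiv.map_eq_one_iff α).mp h2⟩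
  have hEn : E.Normal := by
    refine ⟨fun n hn g => ?_⟩
    exact (hEinv (MulAut.conj g) n).mp hn
  have hEexp : ∀ y ∈ E, y ^ p = 1 := fun y hy => ((hEmem y).mp hy).2
  have hEcl : ∀ a ∈ E, ∀ b ∈ E, ∀ c ∈ E, ⁅a, b⁆ * c = c * ⁅a, b⁆ := by
    intro a ha b _ c hc
    have h1 : ⁅a, b⁆ ∈ ⁅C, (⊤ : Subgroup R)⁆ :=
      Subgroup.commutator_mem_commutator ((hEmem a).mp ha).1 (Subgroup.mem_top b)
    exact (Subgroup.mem_centralizer_iff.mp (hC2 h1).2 c ((hEmem c).mp hc).1).symm
  -- normal subgroups inside `E` are invariant under all automorphisms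
  have hinv : ∀ K : Subgroup R, K.Normal → K ≤ E →
      ∀ (α : MulAut R) (y : R), y ∈ K ↔ α y ∈ K := by
    intro K hKn hKE α
    have hmapn : (K.map α.toMonoidHom).Normal :=
      Subgroup.Normal.map hKn _ α.surjective
    have hmapE : K.map α.toMonoidHom ≤ E := by
      rintro _ ⟨k, hk, rfl⟩
      exact (hEinv α k).mp (hKE hk)
    have hmapc : Nat.card ↥(K.map α.toMonoidHom) = Nat.card K :=
      Subgroup.card_map_of_injective α.injective
    have heq : K.map α.toMonoidHom = K :=
      unique_normal hR hrk E hEexp hEcl s hsp hT _ _ hmapE hKE hmapc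
    intro y
    constructor
    · intro hy
      rw [← heq]
      exact ⟨y, hy, rfl⟩
    · intro hy
      rw [← heq] at hy
      obtain ⟨k, hk, hky⟩ := hy
      have h1 : k = y := α.injective hky
      rw [← h1]
      exact hk
  -- climb the chain
  have hclimb : ∀ n : ℕ, ∀ K : Subgroup R, K.Normal → K ≤ E → (∀ y ∈ K, x y = y) →
      Nat.card E - Nat.card K ≤ n → ∀ y ∈ E, x y = y := by
    intro n
    induction n with
    | zero =>
      intro K _ hKE hfix hn
      have h1 : K = E := Subgroup.eq_of_le_of_card_ge hKE (by omega)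
      rw [← h1]
      exact hfix
    | succ n ih =>
      intro K hKn hKE hfix hn
      by_cases hKeq : K = E
      · rw [← hKeq]
        exact hfix
      · obtain ⟨M, hMn, hKM, hME, hMc, -⟩ := exists_step hR K E (lt_of_le_of_ne hKE hKeq)
        have hfixM := step hR x hcop hx K M (hinv K hKn hKE) (hinv M hMn hME) hKM hMc hfix
        apply ih M hMn hME hfixM
        have h1 : 2 * Nat.card K ≤ p * Nat.card K := Nat.mul_le_mul_right _ hpp.two_le
        have h2 : 0 < Nat.card K := Nat.card_pos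
        have h3 : Nat.card M ≤ Nat.card E := Subgroup.card_le_of_le hME
        omega
  have hxE : ∀ y ∈ E, x y = y := by
    apply hclimb _ ⊥ inferInstance bot_le _ le_rfl
    intro y hy
    rw [Subgroup.mem_bot] at hy
    rw [hy, map_one]
  -- `x` is trivial on `C`
  have hCp : IsPGroup p ↥C := hR.to_subgroup C
  have hresC : Cfsg.Agent.Lib.Helper9.Rank2Aut.resHom C hCinv x = 1 :=
    Cfsg.Agent.S0120.result hp hCp (Cfsg.Agent.Lib.Helper9.Rank2Aut.resHom C hCinv x)
      (Nat.Coprime.coprime_dvd_left (orderOf_map_dvd _ x) hcop) (by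
        intro y hy
        apply Subtype.ext
        rw [Cfsg.Agent.Lib.Helper9.Rank2Aut.resHom_apply]
        apply hxE y.1
        rw [hEmem]
        refine ⟨y.2, ?_⟩
        have h2 := congrArg Subtype.val hy
        simpa using h2)
  have hxC : ∀ y ∈ C, x y = y := by
    intro y hy
    have h2 := Cfsg.Agent.Lib.Helper9.Rank2Aut.resHom_apply C hCinv x ⟨y, hy⟩
    rw [hresC] at h2
    exact h2.symm
  exact Cfsg.Agent.S0121.result hR C hCchar hC1 hC2 hC3 x hcop hxC

/-- Subgroup form: `A ≤ N_G(R)`, `R` a narrow `p`-subgroup of rank at least 3, `p` odd: the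
`p'`-elements of `A'` centralize `R`, and so do the `(p - 1)`-th powers of `p'`-elements of `A`. -/
theorem narrow_conj {G : Type u} [Group G] [Finite G] (hp : p ≠ 2)
    (R A : Subgroup G) (hR : IsPGroup p R) (hrk : ¬ Cfsg.PRankLE p 2 R)
    (s : ↥R) (hsp : s ^ p = 1) (hT : (tset p s).ncard ≤ p ^ 2)
    (hA : A ≤ Subgroup.normalizer (R : Set G)) :
    (∀ x ∈ ⁅A, A⁆, (orderOf x).Coprime p → x ∈ Subgroup.centralizer (R : Set G)) ∧
      ∀ a ∈ A, (orderOf a).Coprime p → a ^ (p - 1) ∈ Subgroup.centralizer (R : Set G) := by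
  obtain ⟨c, hc⟩ : ∃ c : ↥A →* MulAut ↥R, c = Cfsg.Agent.Lib.Helper24.ConjAction.conjHom A R hA :=
    ⟨_, rfl⟩
  have hcent : ∀ x' : ↥A, c x' = 1 → (x' : G) ∈ Subgroup.centralizer (R : Set G) := by
    intro x' h2
    rw [Subgroup.mem_centralizer_iff]
    intro w hw
    have h3 : ((c x' ⟨w, hw⟩ : ↥R) : G) = w := by rw [h2]; rfl
    rw [hc, Cfsg.Agent.Lib.Helper24.ConjAction.conjHom_apply] at h3
    have h4 : (x' : G) * w * (x' : G)⁻¹ = w := h3
    calc w * (x' : G) = ((x' : G) * w * (x' : G)⁻¹) * x' := by rw [h4]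
      _ = (x' : G) * w := by simp
  constructor
  · intro x hx hcop
    rw [← Subgroup.map_subtype_commutator] at hx
    obtain ⟨x', hx', rfl⟩ := hx
    have hord : orderOf x' = orderOf (A.subtype x') :=
      (orderOf_injective A.subtype A.subtype_injective x').symm
    apply hcent x'
    apply narrow_aut hp hR hrk s hsp hT (c x')
      (Nat.Coprime.coprime_dvd_left (orderOf_map_dvd c x') (by rw [hord]; exact hcop))
    intro T _ φ _
    have h1 : commutator ↥A ≤ (φ.comp c).ker := Abelianization.commutator_subset_ker (φ.comp c)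
    exact h1 hx'
  · intro a ha hcop
    have hord : orderOf (⟨a, ha⟩ : ↥A) = orderOf a := Subgroup.orderOf_mk a ha
    have h1 : c (⟨a, ha⟩ ^ (p - 1)) = 1 := by
      apply narrow_aut hp hR hrk s hsp hT
      · refine Nat.Coprime.coprime_dvd_left (orderOf_map_dvd c _) ?_
        refine Nat.Coprime.coprime_dvd_left (orderOf_pow_dvd _) ?_
        rw [hord]
        exact hcop
      · intro T _ φ hφ
        rw [map_pow, map_pow]
        exact hφ _
    exact hcent _ h1

end Cfsg.Agent.Lib.Helper9.Narrow2
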