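import Mathlib
import Cfsg.Agent.Lib.Helper9.Narrow2
import Cfsg.Agent.Lib.Helper9.Rank2Solv
import Cfsg.Agent.Lib.Helper63.PLength

/-!
Solvable groups with narrow Sylow `p`-subgroups (Bender–Glauberman 4.18): general form of the
structure theorem, from the action of `N_G(R)` on a Sylow `p`-subgroup `R` of `O_{p',p}(G)`.
-/

set_option autoImplicit false

namespace Cfsg.Agent.Lib.Helper9.Narrow3

open scoped commutatorElement
open Cfsg.Agent.Lib.Helper76.PSolv Cfsg.Agent.Lib.Helper11.PConstr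
open Cfsg.Agent.Lib.Helper9.Narrow1 Cfsg.Agent.Lib.Helper9.Rank2Solv

variable {G : Type*} [Group G] [Finite G] {p : ℕ} [Fact p.Prime]

/-- The `p`-rank of a group is that of its Sylow `p`-subgroups. -/
theorem pRankLE_of_sylow (S : Sylow p G) (k : ℕ) (h : Cfsg.PRankLE p k ↥(S : Subgroup G)) :
    Cfsg.PRankLE p k G := by
  intro B hBc hBexp
  have hBp : IsPGroup p B := by
    intro b
    refine ⟨1, ?_⟩
    apply Subtype.ext
    rw [pow_one, Subgroup.coe_pow, Subgroup.coe_one]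
    exact hBexp b b.2
  obtain ⟨Q, hQ⟩ := hBp.exists_le_sylow
  obtain ⟨g, hg⟩ := MulAction.exists_smul_eq G Q S
  have hmem : ∀ b : ↥B, g * (b : G) * g⁻¹ ∈ (S : Subgroup G) := by
    intro b
    rw [← hg, Sylow.coe_subgroup_smul, Subgroup.mem_pointwise_smul_iff_inv_smul_mem]
    have h1 : (MulAut.conj g)⁻¹ • (g * (b : G) * g⁻¹) = (b : G) := by
      rw [MulAut.smul_def, ← map_inv, MulAut.conj_apply]
      group
    rw [h1]
    exact hQ b.2
  obtain ⟨f, hf⟩ : ∃ f : ↥B →* ↥(S : Subgroup G), ∀ b : ↥B, ((f b : ↥(S : Subgroup G)) : G) =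
      g * (b : G) * g⁻¹ := by
    refine ⟨MonoidHom.mk' (fun b => ⟨g * (b : G) * g⁻¹, hmem b⟩) ?_, fun b => rfl⟩
    intro a b
    apply Subtype.ext
    simp
  have hinj : Function.Injective f := by
    intro a b hab
    have h1 := congrArg Subtype.val hab
    rw [hf, hf] at h1
    apply Subtype.ext
    exact mul_left_cancel (mul_right_cancel h1)
  have h2 := Cfsg.Agent.S1335.pRankLE_of_injective p k f hinj h
  have h3 := h2 ⊤ (by
    refine ⟨⟨fun a b => ?_⟩⟩
    apply Subtype.ext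
    apply Subtype.ext
    have := hBc.is_comm.comm a.1 b.1
    exact congrArg Subtype.val this) (by
    intro a _
    apply Subtype.ext
    rw [Subgroup.coe_pow, Subgroup.coe_one]
    exact hBexp a a.2)
  rwa [Subgroup.card_top] at h3

/-- The data of a narrow `p`-group of rank at least 3: an element `s` with `s ^ p = 1` whose
centralizer has at most `p ^ 2` elements of order dividing `p`. -/
theorem narrow_data {X : Type*} [Group X] [Finite X] (R₀ R₁ : Subgroup X) (h0 : Nat.card R₀ = p)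
    (hc : IsCyclic R₁) (hcomm : ∀ a ∈ R₀, ∀ b ∈ R₁, a * b = b * a)
    (hsup : R₀ ⊔ R₁ = Subgroup.centralizer (R₀ : Set X)) :
    ∃ s : X, s ^ p = 1 ∧ (tset p s).ncard ≤ p ^ 2 := by
  have hpp : p.Prime := Fact.out
  have hcyc : IsCyclic ↥R₀ := isCyclic_of_prime_card h0
  obtain ⟨s, hs⟩ := hcyc.exists_generator
  have hR0exp : ∀ a ∈ R₀, a ^ p = 1 := by
    intro a ha
    have h1 : (⟨a, ha⟩ : ↥R₀) ^ Nat.card ↥R₀ = 1 := pow_card_eq_one'
    rw [h0] at h1
    have h2 := congrArg Subtype.val h1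
    simpa using h2
  refine ⟨(s : X), hR0exp _ s.2, ?_⟩
  -- the elements of `R₁` of order dividing `p`
  have hΩ : Nat.card {b : ↥R₁ // b ^ p = 1} ≤ p := by
    classical
    have : Fintype ↥R₁ := Fintype.ofFinite _
    have h1 := IsCyclic.card_pow_eq_one_le (α := ↥R₁) hpp.pos
    rw [Nat.card_eq_fintype_card, Fintype.card_subtype]
    exact h1
  have hsub : tset p (s : X) ⊆ Set.range (fun ab : ↥R₀ × {b : ↥R₁ // b ^ p = 1} =>
      ((ab.1 : X) * ((ab.2 : ↥R₁) : X))) := by
    intro x hx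
    have hxc : x ∈ Subgroup.centralizer (R₀ : Set X) := by
      rw [Subgroup.mem_centralizer_iff]
      intro a ha
      obtain ⟨k, hk⟩ := hs ⟨a, ha⟩
      have h1 : a = (s : X) ^ k := by
        have := congrArg Subtype.val hk
        simpa using this.symm
      rw [h1]
      have h2 : Commute (s : X) x := hx.1.symm
      exact (h2.zpow_left k).eq
    rw [← hsup] at hxc
    have hprod : R₀ ⊔ R₁ ≤
        ({ carrier := {y : X | ∃ a ∈ R₀, ∃ b ∈ R₁, y = a * b}
           mul_mem' := by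
             rintro _ _ ⟨a, ha, b, hb, rfl⟩ ⟨a', ha', b', hb', rfl⟩
             refine ⟨a * a', R₀.mul_mem ha ha', b * b', R₁.mul_mem hb hb', ?_⟩
             calc a * b * (a' * b') = a * (b * a') * b' := by group
               _ = a * (a' * b) * b' := by rw [hcomm a' ha' b hb]
               _ = a * a' * (b * b') := by group
           one_mem' := ⟨1, R₀.one_mem, 1, R₁.one_mem, by simp⟩
           inv_mem' := by
             rintro _ ⟨a, ha, b, hb, rfl⟩
             refine ⟨a⁻¹, R₀.inv_mem ha, b⁻¹, R₁.inv_mem hb, ?_⟩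
             rw [mul_inv_rev, hcomm a⁻¹ (R₀.inv_mem ha) b⁻¹ (R₁.inv_mem hb)] } : Subgroup X) := by
      apply sup_le
      · intro a ha
        exact ⟨a, ha, 1, R₁.one_mem, by simp⟩
      · intro b hb
        exact ⟨1, R₀.one_mem, b, hb, by simp⟩
    obtain ⟨a, ha, b, hb, rfl⟩ := hprod hxc
    have hab : Commute a b := hcomm a ha b hb
    have h3 : b ^ p = 1 := by
      have h4 := hx.2
      rw [hab.mul_pow, hR0exp a ha, one_mul] at h4
      exact h4
    exact ⟨(⟨a, ha⟩, ⟨⟨b, hb⟩, by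
      apply Subtype.ext
      rw [Subgroup.coe_pow, Subgroup.coe_one]
      exact h3⟩), rfl⟩
  calc (tset p (s : X)).ncard
      ≤ (Set.range (fun ab : ↥R₀ × {b : ↥R₁ // b ^ p = 1} =>
        ((ab.1 : X) * ((ab.2 : ↥R₁) : X)))).ncard := Set.ncard_le_ncard hsub (Set.toFinite _)
    _ = Nat.card (Set.range (fun ab : ↥R₀ × {b : ↥R₁ // b ^ p = 1} =>
        ((ab.1 : X) * ((ab.2 : ↥R₁) : X)))) := (Nat.card_coe_set_eq _).symm
    _ ≤ Nat.card (↥R₀ × {b : ↥R₁ // b ^ p = 1}) := Finite.card_range_le _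
    _ = Nat.card ↥R₀ * Nat.card {b : ↥R₁ // b ^ p = 1} := Nat.card_prod _ _
    _ ≤ p * p := by
        rw [h0]
        exact Nat.mul_le_mul_left _ hΩ
    _ = p ^ 2 := (sq p).symm

/-- General form of Bender–Glauberman 4.18: if the `p'`-elements of `N_G(R)'` and the
`(p - 1)`-th powers of the `p'`-elements of `N_G(R)` centralize a Sylow `p`-subgroup `R` of
`O_{p',p}(G)`, then `G' ≤ O_{p',p}(G)`, whose index is prime to `p` and divisible only by
primes less than `p`. -/
theorem core_of [Group.IsSolvable G] (P : Sylow p ↥(Cfsg.pPrimePCore p G)) (R A : Subgroup G)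
    (hR : R = (P : Subgroup ↥(Cfsg.pPrimePCore p G)).map (Cfsg.pPrimePCore p G).subtype)
    (hA : A = Subgroup.normalizer (R : Set G))
    (key : ∀ x ∈ ⁅A, A⁆, (orderOf x).Coprime p → x ∈ Subgroup.centralizer (R : Set G))
    (key2 : ∀ a ∈ A, (orderOf a).Coprime p → a ^ (p - 1) ∈ Subgroup.centralizer (R : Set G)) :
    commutator G ≤ Cfsg.pPrimePCore p G ∧ ((Cfsg.pPrimePCore p G).index).Coprime p ∧
      ∀ q : ℕ, q.Prime → q ∣ (Cfsg.pPrimePCore p G).index → q < p := by
  have hpp : p.Prime := Fact.out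
  have hTn : (Cfsg.pPrimePCore p G).Normal := pPrimePCore_normal p G
  have hAN : A ⊔ Cfsg.pPrimeCore p G = ⊤ := by
    rw [hA, hR]
    exact normalizer_sylow_sup_pPrimeCore P
  have hNT : Cfsg.pPrimeCore p G ≤ Cfsg.pPrimePCore p G := pPrimeCore_le_pPrimePCore p G
  have hcent : Subgroup.centralizer (R : Set G) ≤ Cfsg.pPrimePCore p G := by
    rw [hR]
    exact centralizer_sylow_le_of_solvable P
  have step0 : ∀ d : G, ∃ k : ℕ, (orderOf (d ^ (p ^ k))).Coprime p := by
    intro d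
    have hpos : 0 < orderOf d := orderOf_pos d
    obtain ⟨k, m, hm, hkm⟩ := Nat.exists_eq_pow_mul_and_not_dvd hpos.ne' p hpp.ne_one
    refine ⟨k, ?_⟩
    have h1 : orderOf (d ^ (p ^ k)) ∣ m := by
      apply orderOf_dvd_of_pow_eq_one
      rw [← pow_mul, ← hkm]
      exact pow_orderOf_eq_one d
    exact Nat.Coprime.coprime_dvd_left h1 ((Nat.Prime.coprime_iff_not_dvd hpp).mpr hm).symm
  have step1 : ∀ d ∈ ⁅A, A⁆, ∃ k : ℕ, d ^ (p ^ k) ∈ Cfsg.pPrimePCore p G := by
    intro d hd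
    obtain ⟨k, hcop⟩ := step0 d
    exact ⟨k, hcent (key _ (Subgroup.pow_mem _ hd _) hcop)⟩
  -- the quotient by `T = O_{p',p}(G)`
  have hπA : A.map (QuotientGroup.mk' (Cfsg.pPrimePCore p G)) = ⊤ := by
    have h1 : (A ⊔ Cfsg.pPrimeCore p G).map (QuotientGroup.mk' (Cfsg.pPrimePCore p G)) = ⊤ := by
      rw [hAN]
      exact Subgroup.map_top_of_surjective _ (QuotientGroup.mk'_surjective _)
    have h2 : (Cfsg.pPrimeCore p G).map (QuotientGroup.mk' (Cfsg.pPrimePCore p G)) = ⊥ := by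
      rw [Subgroup.map_eq_bot_iff, QuotientGroup.ker_mk']
      exact hNT
    rw [Subgroup.map_sup, h2, sup_bot_eq] at h1
    exact h1
  have hcomm : commutator (G ⧸ Cfsg.pPrimePCore p G) =
      (⁅A, A⁆).map (QuotientGroup.mk' (Cfsg.pPrimePCore p G)) := by
    rw [Subgroup.map_commutator, hπA, commutator_def]
  have hMn : ((commutator (G ⧸ Cfsg.pPrimePCore p G)).comap
      (QuotientGroup.mk' (Cfsg.pPrimePCore p G))).Normal := Subgroup.Normal.comap inferInstance _
  have hMT : (commutator (G ⧸ Cfsg.pPrimePCore p G)).comap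
      (QuotientGroup.mk' (Cfsg.pPrimePCore p G)) ≤ Cfsg.pPrimePCore p G := by
    apply le_pPrimePCore_of_pow
    intro m hm
    rw [Subgroup.mem_comap, hcomm] at hm
    obtain ⟨d, hd, hdm⟩ := hm
    obtain ⟨k, hk⟩ := step1 d hd
    refine ⟨k, ?_⟩
    rw [← QuotientGroup.eq_one_iff, QuotientGroup.mk_pow]
    have h1 : ((d ^ (p ^ k) : G) : G ⧸ Cfsg.pPrimePCore p G) = 1 :=
      (QuotientGroup.eq_one_iff _).mpr hk
    rw [QuotientGroup.mk_pow] at h1
    rw [← h1]
    congr 1
    exact hdm.symm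
  have K1 : commutator G ≤ Cfsg.pPrimePCore p G := by
    intro x hx
    apply hMT
    rw [Subgroup.mem_comap]
    have h1 : (commutator G).map (QuotientGroup.mk' (Cfsg.pPrimePCore p G)) ≤
        commutator (G ⧸ Cfsg.pPrimePCore p G) := by
      rw [commutator_def, Subgroup.map_commutator, commutator_def]
      exact Subgroup.commutator_mono le_top le_top
    exact h1 ⟨x, hx, rfl⟩
  have hab : ∀ a b : G ⧸ Cfsg.pPrimePCore p G, a * b = b * a := by
    intro a b
    obtain ⟨g, rfl⟩ := QuotientGroup.mk_surjective a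
    obtain ⟨h, rfl⟩ := QuotientGroup.mk_surjective b
    have h1 : ⁅g, h⁆ ∈ commutator G := by
      rw [commutator_def]
      exact Subgroup.commutator_mem_commutator (Subgroup.mem_top g) (Subgroup.mem_top h)
    have h2 : ((⁅g, h⁆ : G) : G ⧸ Cfsg.pPrimePCore p G) = 1 :=
      (QuotientGroup.eq_one_iff _).mpr (K1 h1)
    have h3 := map_commutatorElement (QuotientGroup.mk' (Cfsg.pPrimePCore p G)) g h
    rw [QuotientGroup.mk'_apply, h2] at h3
    exact commutatorElement_eq_one_iff_mul_comm.mp h3.symm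
  have K2 : ((Cfsg.pPrimePCore p G).index).Coprime p := by
    rw [Nat.coprime_comm, Nat.Prime.coprime_iff_not_dvd hpp]
    intro hdvd
    have hdvd' : p ∣ Nat.card (G ⧸ Cfsg.pPrimePCore p G) := hdvd
    obtain ⟨xb, hxb⟩ := exists_prime_orderOf_dvd_card' p hdvd'
    obtain ⟨x, rfl⟩ := QuotientGroup.mk_surjective xb
    have hZn : ((Subgroup.zpowers (x : G ⧸ Cfsg.pPrimePCore p G)).comap
        (QuotientGroup.mk' (Cfsg.pPrimePCore p G))).Normal := by
      apply Subgroup.Normal.comap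
      exact ⟨fun n hn g => by rw [hab g n, mul_inv_cancel_right]; exact hn⟩
    have hle : (Subgroup.zpowers (x : G ⧸ Cfsg.pPrimePCore p G)).comap
        (QuotientGroup.mk' (Cfsg.pPrimePCore p G)) ≤ Cfsg.pPrimePCore p G := by
      apply le_pPrimePCore_of_pow
      intro m hm
      rw [Subgroup.mem_comap] at hm
      refine ⟨1, ?_⟩
      rw [pow_one, ← QuotientGroup.eq_one_iff, QuotientGroup.mk_pow]
      have h1 := orderOf_dvd_of_mem_zpowers hm
      rw [hxb] at h1
      exact orderOf_dvd_iff_pow_eq_one.mp h1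
    have hx : x ∈ Cfsg.pPrimePCore p G := hle (by
      rw [Subgroup.mem_comap]
      exact Subgroup.mem_zpowers _)
    have h1 : (x : G ⧸ Cfsg.pPrimePCore p G) = 1 := (QuotientGroup.eq_one_iff _).mpr hx
    rw [h1, orderOf_one] at hxb
    exact hpp.one_lt.ne hxb
  refine ⟨K1, K2, ?_⟩
  intro q hq hqd
  have hqp : q ≠ p := by
    intro h
    rw [h] at hqd
    have := Nat.Coprime.eq_one_of_dvd K2.symm hqd
    exact hpp.one_lt.ne' this
  have : Fact q.Prime := ⟨hq⟩
  have hqd' : q ∣ Nat.card (G ⧸ Cfsg.pPrimePCore p G) := hqd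
  obtain ⟨xb, hxb⟩ := exists_prime_orderOf_dvd_card' q hqd'
  have hxbA : xb ∈ A.map (QuotientGroup.mk' (Cfsg.pPrimePCore p G)) := by
    rw [hπA]
    exact Subgroup.mem_top _
  obtain ⟨a, ha, rfl⟩ := hxbA
  obtain ⟨k, hcop⟩ := step0 a
  have h1 : (a ^ (p ^ k)) ^ (p - 1) ∈ Cfsg.pPrimePCore p G :=
    hcent (key2 _ (Subgroup.pow_mem _ ha _) hcop)
  have h2 : (QuotientGroup.mk' (Cfsg.pPrimePCore p G) a) ^ (p ^ k * (p - 1)) = 1 := by
    rw [← map_pow, pow_mul]
    exact (QuotientGroup.eq_one_iff _).mpr h1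
  have h3 : q ∣ p ^ k * (p - 1) := by
    rw [← hxb]
    exact orderOf_dvd_of_pow_eq_one h2
  rcases (Nat.Prime.dvd_mul hq).mp h3 with h4 | h4
  · exact absurd ((Nat.prime_dvd_prime_iff_eq hq hpp).mp (hq.dvd_of_dvd_pow h4)) hqp
  · have h5 : 0 < p - 1 := Nat.sub_pos_of_lt hpp.one_lt
    have h6 := Nat.le_of_dvd h5 h4
    omega

/-- In a group of `p`-length at most 1, the Sylow `p`-subgroups lie in `O_{p',p}(G)`. -/
theorem sylow_le_of_pLength (h : Cfsg.PLengthLE p 1 G) (S : Sylow p G) :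
    (S : Subgroup G) ≤ Cfsg.pPrimePCore p G := by
  have hpp : p.Prime := Fact.out
  have hTn : (Cfsg.pPrimePCore p G).Normal := pPrimePCore_normal p G
  have h3 : (Cfsg.upperPSeries p G 3).1 = ⊤ := h
  have hidx : ((Cfsg.upperPSeries p G 2).1.index).Coprime p := by
    have h1 := Cfsg.Agent.Lib.Helper63.PLength.relIndex_upperPSeries p G 2
    rw [Cfsg.Agent.Lib.Helper63.PLength.stepCard_even (by decide), h3,
      Subgroup.relIndex_top_right] at h1
    exact h1
  have hU1 : (Cfsg.upperPSeries p G 1).1 ≤ Cfsg.pPrimePCore p G :=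
    (le_pPrimeCore inferInstance
      (Cfsg.Agent.Lib.Helper63.PLength.card_upper_one_coprime p G)).trans
      (pPrimeCore_le_pPrimePCore p G)
  have hU2 : (Cfsg.upperPSeries p G 2).1 ≤ Cfsg.pPrimePCore p G := by
    apply le_pPrimePCore_of_pow
    intro m hm
    obtain ⟨k, hk⟩ := Cfsg.Agent.Lib.Helper63.PLength.relIndex_upper_one_two p G
    refine ⟨k, hU1 ?_⟩
    have h1 := Subgroup.pow_index_mem
      ((Cfsg.upperPSeries p G 1).1.subgroupOf (Cfsg.upperPSeries p G 2).1)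
      (⟨m, hm⟩ : ↥(Cfsg.upperPSeries p G 2).1)
    have h2 : ((Cfsg.upperPSeries p G 1).1.subgroupOf (Cfsg.upperPSeries p G 2).1).index = p ^ k :=
      hk
    rw [h2, Subgroup.mem_subgroupOf] at h1
    exact h1
  have hTidx : ((Cfsg.pPrimePCore p G).index).Coprime p :=
    Nat.Coprime.coprime_dvd_left (Subgroup.index_dvd_of_le hU2) hidx
  intro x hx
  obtain ⟨j, hj⟩ := S.isPGroup' ⟨x, hx⟩
  have hxj : x ^ (p ^ j) = 1 := by
    have := congrArg Subtype.val hj
    simpa using this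
  rw [← QuotientGroup.eq_one_iff]
  have h4 : orderOf (x : G ⧸ Cfsg.pPrimePCore p G) ∣ p ^ j := by
    apply orderOf_dvd_of_pow_eq_one
    rw [← QuotientGroup.mk_pow, hxj]
    rfl
  have h5 : orderOf (x : G ⧸ Cfsg.pPrimePCore p G) ∣ (Cfsg.pPrimePCore p G).index :=
    orderOf_dvd_natCard _
  have h6 := Nat.dvd_gcd h5 h4
  rw [(Nat.Coprime.pow_right j hTidx).gcd_eq_one, Nat.dvd_one] at h6
  exact orderOf_eq_one_iff.mp h6

/-- The conclusions of Bender–Glauberman 4.18 from the three basic facts. -/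
theorem conclusions (hodd : Odd (Nat.card G))
    (K1 : commutator G ≤ Cfsg.pPrimePCore p G)
    (K2 : ((Cfsg.pPrimePCore p G).index).Coprime p)
    (K3 : ∀ q : ℕ, q.Prime → q ∣ (Cfsg.pPrimePCore p G).index → q < p) :
    (∀ q : ℕ, q.Prime → q ∣ (Cfsg.pPrimeCore p G).index → q ≤ p) ∧
      ((p = 3 ∨ ∀ q : ℕ, q.Prime → q ∣ Nat.card G → p ≤ q) → Cfsg.HasNormalPComplement p G) ∧
      Cfsg.HasNormalPComplement p ↥(commutator G) ∧
      (∀ L : Subgroup ↥(commutator G), (Nat.card L).Coprime p →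
        L ≤ Cfsg.pPrimeCore p ↥(commutator G)) ∧
      commutator G ≤ Cfsg.pPrimePCore p G ∧ ((Cfsg.pPrimePCore p G).index).Coprime p := by
  have hpp : p.Prime := Fact.out
  have hNT : Cfsg.pPrimeCore p G ≤ Cfsg.pPrimePCore p G :=
    Cfsg.Agent.Lib.Helper11.PConstr.pPrimeCore_le_pPrimePCore p G
  obtain ⟨k, hk⟩ := Cfsg.Agent.Lib.Helper9.Rank2Solv.relIndex_pPrimeCore
    (Cfsg.pPrimePCore p G) le_rfl
  have hidx : (Cfsg.pPrimeCore p G).index = p ^ k * (Cfsg.pPrimePCore p G).index := by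
    rw [← hk]
    exact (Subgroup.relIndex_mul_index hNT).symm
  have hc : (Nat.card ↥((Cfsg.pPrimeCore p G).subgroupOf (commutator G))).Coprime p := by
    have h1 : Nat.card ↥((Cfsg.pPrimeCore p G).subgroupOf (commutator G)) =
        Nat.card ↥(Cfsg.pPrimeCore p G ⊓ commutator G) := by
      rw [← Subgroup.inf_subgroupOf_right]
      exact Nat.card_congr (Subgroup.subgroupOfEquivOfLe inf_le_right).toEquiv
    rw [h1]
    exact Nat.Coprime.coprime_dvd_left (Subgroup.card_dvd_of_le inf_le_left)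
      (Cfsg.Agent.Lib.Helper76.PSolv.pPrimeCore_coprime p)
  refine ⟨?_, ?_, ?_, ?_, K1, K2⟩
  · intro q hq hqd
    rw [hidx] at hqd
    rcases (Nat.Prime.dvd_mul hq).mp hqd with h | h
    · have := (Nat.prime_dvd_prime_iff_eq hq hpp).mp (hq.dvd_of_dvd_pow h)
      exact le_of_eq this
    · exact (K3 q hq h).le
  · intro hcase
    have hT1 : (Cfsg.pPrimePCore p G).index = 1 := by
      by_contra hne
      obtain ⟨q, hq, hqd⟩ := Nat.exists_prime_and_dvd hne
      have hlt := K3 q hq hqd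
      have hqG : q ∣ Nat.card G := dvd_trans hqd (Subgroup.index_dvd_card _)
      have hq2 : q ≠ 2 := by
        intro h
        rw [h] at hqG
        exact (Nat.not_even_iff_odd.mpr hodd) (even_iff_two_dvd.mpr hqG)
      rcases hcase with h3 | hleast
      · have := hq.two_le
        omega
      · have := hleast q hq hqG
        omega
    rw [hT1, mul_one] at hidx
    exact Cfsg.Agent.Lib.Helper9.Rank2Solv.hasNormalPComplement_of p (Cfsg.pPrimeCore p G)
      (Cfsg.Agent.Lib.Helper76.PSolv.pPrimeCore_coprime p) k hidx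
  · obtain ⟨j, hj⟩ := Cfsg.Agent.Lib.Helper9.Rank2Solv.relIndex_pPrimeCore (commutator G) K1
    exact Cfsg.Agent.Lib.Helper9.Rank2Solv.hasNormalPComplement_of p
      ((Cfsg.pPrimeCore p G).subgroupOf (commutator G)) hc j hj
  · intro L hL x hx
    have hK : (Cfsg.pPrimeCore p G).subgroupOf (commutator G) ≤
        Cfsg.pPrimeCore p ↥(commutator G) :=
      Cfsg.Agent.Lib.Helper76.PSolv.le_pPrimeCore inferInstance hc
    apply hK
    rw [Subgroup.mem_subgroupOf]
    have hxT : (x : G) ∈ Cfsg.pPrimePCore p G := K1 x.2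
    have h1 : (QuotientGroup.mk' (Cfsg.pPrimeCore p G) (x : G)) ∈
        Cfsg.pCore p (G ⧸ Cfsg.pPrimeCore p G) := hxT
    obtain ⟨j, hj⟩ := Cfsg.Agent.Lib.Helper76.PSolv.pCore_isPGroup p
      (G := G ⧸ Cfsg.pPrimeCore p G) ⟨_, h1⟩
    have h2 : (QuotientGroup.mk' (Cfsg.pPrimeCore p G) (x : G)) ^ (p ^ j) = 1 := by
      have := congrArg Subtype.val hj
      rwa [Subgroup.coe_pow, Subgroup.coe_one] at this
    have h3 : orderOf (QuotientGroup.mk' (Cfsg.pPrimeCore p G) (x : G)) ∣ p ^ j :=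
      orderOf_dvd_of_pow_eq_one h2
    have h4 : orderOf (QuotientGroup.mk' (Cfsg.pPrimeCore p G) (x : G)) ∣ Nat.card L := by
      refine dvd_trans (orderOf_map_dvd _ _) ?_
      rw [Subgroup.orderOf_coe]
      have := orderOf_dvd_natCard (⟨x, hx⟩ : ↥L)
      rwa [Subgroup.orderOf_mk] at this
    have h5 : orderOf (QuotientGroup.mk' (Cfsg.pPrimeCore p G) (x : G)) ∣
        Nat.gcd (Nat.card L) (p ^ j) := Nat.dvd_gcd h4 h3
    rw [(Nat.Coprime.pow_right j hL).gcd_eq_one, Nat.dvd_one] at h5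
    exact (QuotientGroup.eq_one_iff _).mp (orderOf_eq_one_iff.mp h5)

end Cfsg.Agent.Lib.Helper9.Narrow3
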