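import Mathlib
import Cfsg.Agent.Lib.Helper23.RankTwo
import Cfsg.Agent.Lib.Helper73.MaxClass
import Cfsg.Agent.Lib.Helper9.BG10c

set_option autoImplicit false

/-
helper9: Lemma NA for Bender–Glauberman 11.5: in a `p`-group `R` (`p` odd) of rank at least 3, the
centralizer of a maximal elementary abelian subgroup `A` of order `p ^ 2` is abelian
(same proof as `BG10d.narrow_structure`: `C_R(s) = ⟨s⟩ × cyclic` for a suitable `s ∈ A`).
-/

namespace Cfsg.Agent.Lib.Helper9.BG11n

open Cfsg.Agent.Lib.Helper23.RankTwo Cfsg.Agent.Lib.Helper53.ElemAb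

universe u

variable {R : Type u} [Group R] [Finite R] {p : ℕ} [Fact p.Prime]

theorem cent_abelian (hp2 : p ≠ 2) (hR : IsPGroup p R) (hr : ¬ Cfsg.PRankLE p 2 R)
    (A : Subgroup R) (hAe : Cfsg.IsElementaryAbelian p A) (hAc : Nat.card A = p ^ 2)
    (hmax : ∀ B : Subgroup R, Cfsg.IsElementaryAbelian p B → ¬ A < B) :
    ∀ x ∈ Subgroup.centralizer (A : Set R), ∀ y ∈ Subgroup.centralizer (A : Set R),
      x * y = y * x := by
  have hpp : p.Prime := Fact.out
  have hA' := (elemAb_iff p A).mp hAe
  unfold Cfsg.PRankLE at hr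
  push Not at hr
  obtain ⟨E, hEc, hEe, hEcard⟩ := hr
  have hEel : Cfsg.IsElementaryAbelian p E := ⟨hEc, hEe⟩
  obtain ⟨W, hWn, hWe, hWc⟩ := exists_normal_elemAb_sq hR E hEel hEcard
  have hW' := (elemAb_iff p W).mp hWe
  obtain ⟨B, hWB, hBe, hBc⟩ := good_of_normal hR W hWe hWc E hEel hEcard
  -- elements of order `p` centralizing `A` lie in `A`
  have key : ∀ x : R, (∀ a ∈ A, a * x = x * a) → x ^ p = 1 → x ∈ A := by
    intro x hx hxp
    have hz : Cfsg.IsElementaryAbelian p (Subgroup.zpowers x) :=
      Cfsg.Agent.Lib.Helper9.BG10c.elemAb_zpowers hxp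
    have h1 : Cfsg.IsElementaryAbelian p (A ⊔ Subgroup.zpowers x) := by
      apply elemAb_sup hAe hz
      intro a ha b hb
      obtain ⟨k, rfl⟩ := Subgroup.mem_zpowers_iff.mp hb
      exact ((show Commute a x from hx a ha).zpow_right k)
    have h2 := hmax _ h1
    have h3 : A ⊔ Subgroup.zpowers x ≤ A := by
      by_contra h
      exact h2 (lt_of_le_of_ne le_sup_left (fun heq => h (heq ▸ le_rfl)))
    exact h3 (Subgroup.mem_sup_right (Subgroup.mem_zpowers x))
  have hWA : W ≠ A := by
    rintro rfl
    apply hmax B hBe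
    refine lt_of_le_of_ne hWB ?_
    rintro rfl
    omega
  have hnc : ¬ A ≤ Subgroup.centralizer (W : Set R) := by
    intro h
    apply hWA
    have hWleA : W ≤ A := by
      intro w hw
      apply key w _ (hW'.2 w hw)
      intro a ha
      exact (Subgroup.mem_centralizer_iff.mp (h ha) w hw).symm
    exact Subgroup.eq_of_le_of_card_ge hWleA (by rw [hAc, hWc])
  obtain ⟨s, hsA, hsC⟩ := SetLike.not_le_iff_exists.mp hnc
  have hs1 : s ≠ 1 := by rintro rfl; exact hsC (Subgroup.one_mem _)
  have hsp : s ^ p = 1 := hA'.2 s hsA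
  have hos : orderOf s = p := orderOf_eq_prime hsp hs1
  have hW1 : W ≠ ⊥ := by
    rintro rfl
    rw [Subgroup.card_bot] at hWc
    have := Nat.one_lt_pow (n := 2) (by norm_num) hpp.one_lt
    omega
  obtain ⟨z, hzW, hz1, hzc⟩ :=
    Cfsg.Agent.Lib.Helper73.MaxClass.exists_mem_center_of_normal hR W hW1
  have hzp : z ^ p = 1 := hW'.2 z hzW
  have hoz : orderOf z = p := orderOf_eq_prime hzp hz1
  have hzA : z ∈ A := key z (fun a ha => Subgroup.mem_center_iff.mp hzc a) hzp
  have hzC : z ∈ Subgroup.centralizer (W : Set R) := by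
    rw [Subgroup.mem_centralizer_iff]
    intro w hw
    exact hW'.1 w hw z hzW
  have hAC : A ⊓ Subgroup.centralizer (W : Set R) = Subgroup.zpowers z := by
    symm
    apply Subgroup.eq_of_le_of_card_ge (Subgroup.zpowers_le.mpr (Subgroup.mem_inf.mpr ⟨hzA, hzC⟩))
    rw [Nat.card_zpowers, hoz]
    by_contra hlt
    push Not at hlt
    have h1 := sq_le_card_of_lt hR (A ⊓ Subgroup.centralizer (W : Set R)) hlt
    have h2 : A ⊓ Subgroup.centralizer (W : Set R) < A := by
      refine lt_of_le_of_ne inf_le_left (fun h => hsC ?_)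
      have : s ∈ A ⊓ Subgroup.centralizer (W : Set R) := by rw [h]; exact hsA
      exact this.2
    have h3 := Cfsg.Agent.Lib.Helper9.BG10a.card_lt_of_lt h2
    omega
  have hszA : Subgroup.zpowers s ⊔ Subgroup.zpowers z = A := by
    apply Subgroup.eq_of_le_of_card_ge
      (sup_le (Subgroup.zpowers_le.mpr hsA) (Subgroup.zpowers_le.mpr hzA))
    have h1 : Subgroup.zpowers z < Subgroup.zpowers s ⊔ Subgroup.zpowers z := by
      refine lt_of_le_of_ne le_sup_right (fun h => hsC ?_)
      have : s ∈ Subgroup.zpowers z := by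
        rw [h]; exact Subgroup.mem_sup_left (Subgroup.mem_zpowers s)
      exact (Subgroup.zpowers_le.mpr hzC) this
    have h2 := mul_card_le_of_lt hR h1
    rw [Nat.card_zpowers, hoz] at h2
    rw [hAc, pow_two]
    exact h2
  -- elements centralizing `s` centralize `A`
  have hTA : ∀ x ∈ Subgroup.centralizer ((Subgroup.zpowers s : Subgroup R) : Set R),
      ∀ a ∈ A, a * x = x * a := by
    intro x hx a ha
    have hsx : s * x = x * s := Subgroup.mem_centralizer_iff.mp hx s (Subgroup.mem_zpowers s)
    have hzx : x * z = z * x := Subgroup.mem_center_iff.mp hzc x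
    have hle : A ≤ Subgroup.centralizer ({x} : Set R) := by
      rw [← hszA]
      refine sup_le (Subgroup.zpowers_le.mpr ?_) (Subgroup.zpowers_le.mpr ?_)
      · rw [Subgroup.mem_centralizer_iff]; rintro _ rfl; exact hsx.symm
      · rw [Subgroup.mem_centralizer_iff]; rintro _ rfl; exact hzx
    exact (Subgroup.mem_centralizer_iff.mp (hle ha) x rfl).symm
  have hR₁p : IsPGroup p ↥(Subgroup.centralizer ((Subgroup.zpowers s : Subgroup R) : Set R) ⊓
      Subgroup.centralizer (W : Set R)) := hR.to_subgroup _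
  have hrk : Cfsg.PRankLE p 1 ↥(Subgroup.centralizer ((Subgroup.zpowers s : Subgroup R) : Set R) ⊓
      Subgroup.centralizer (W : Set R)) := by
    intro B hBc hBe
    have hle : B.map (Subgroup.subtype _) ≤ Subgroup.zpowers z := by
      rintro _ ⟨b, hb, rfl⟩
      have hbT := b.2.1
      have hbC := b.2.2
      have hbp : (b : R) ^ p = 1 := by
        have := hBe b hb
        exact_mod_cast congrArg Subtype.val this
      have hbA : (b : R) ∈ A := key _ (hTA _ hbT) hbp
      rw [← hAC]; exact ⟨hbA, hbC⟩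
    have h1 := Subgroup.card_le_of_le hle
    rw [Subgroup.card_map_of_injective (Subgroup.subtype_injective _), Nat.card_zpowers, hoz] at h1
    simpa using h1
  have hcyc := Cfsg.Agent.Lib.Helper9.BG10c.isCyclic_of_pRankLE_one hp2 hR₁p hrk
  have hdisj : Subgroup.zpowers s ⊓ (Subgroup.centralizer ((Subgroup.zpowers s : Subgroup R) : Set R) ⊓
      Subgroup.centralizer (W : Set R)) = ⊥ := by
    rw [eq_bot_iff]
    rintro x ⟨hx0, -, hxC⟩
    rw [Subgroup.mem_bot]
    by_contra hx1
    have h1 : Subgroup.zpowers x ≤ Subgroup.zpowers s := Subgroup.zpowers_le.mpr hx0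
    have h2 : Nat.card (Subgroup.zpowers x) = p := by
      have hd := Subgroup.card_dvd_of_le h1
      rw [Nat.card_zpowers s, hos] at hd
      rcases (Nat.dvd_prime hpp).mp hd with h | h
      · exfalso; apply hx1
        exact Subgroup.zpowers_eq_bot.mp (Subgroup.card_eq_one.mp h)
      · exact h
    have h3 : Subgroup.zpowers x = Subgroup.zpowers s :=
      Subgroup.eq_of_le_of_card_ge h1 (by rw [h2, Nat.card_zpowers, hos])
    apply hsC
    have : s ∈ Subgroup.zpowers x := by rw [h3]; exact Subgroup.mem_zpowers s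
    exact (Subgroup.zpowers_le.mpr hxC) this
  have hR₀T : Subgroup.zpowers s ≤
      Subgroup.centralizer ((Subgroup.zpowers s : Subgroup R) : Set R) := by
    intro a ha
    rw [Subgroup.mem_centralizer_iff]
    intro b hb
    obtain ⟨i, rfl⟩ := Subgroup.mem_zpowers_iff.mp ha
    obtain ⟨j, rfl⟩ := Subgroup.mem_zpowers_iff.mp hb
    exact (Commute.zpow_zpow_self s j i)
  have hsup : Subgroup.zpowers s ⊔ (Subgroup.centralizer ((Subgroup.zpowers s : Subgroup R) : Set R) ⊓
      Subgroup.centralizer (W : Set R)) =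
      Subgroup.centralizer ((Subgroup.zpowers s : Subgroup R) : Set R) := by
    apply Subgroup.eq_of_le_of_card_ge (sup_le hR₀T inf_le_left)
    have h1 := card_le_mul_card_inf_centralizer hR W hWe hWc
      (Subgroup.centralizer ((Subgroup.zpowers s : Subgroup R) : Set R))
    have h2 : Subgroup.centralizer ((Subgroup.zpowers s : Subgroup R) : Set R) ⊓
        Subgroup.centralizer (W : Set R) <
        Subgroup.zpowers s ⊔ (Subgroup.centralizer ((Subgroup.zpowers s : Subgroup R) : Set R) ⊓
          Subgroup.centralizer (W : Set R)) := by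
      refine lt_of_le_of_ne le_sup_right (fun h => hsC ?_)
      have : s ∈ Subgroup.centralizer ((Subgroup.zpowers s : Subgroup R) : Set R) ⊓
          Subgroup.centralizer (W : Set R) := by
        rw [h]; exact Subgroup.mem_sup_left (Subgroup.mem_zpowers s)
      exact this.2
    have h3 := mul_card_le_of_lt hR h2
    exact h1.trans h3
  -- the centralizer of `s` is abelian
  set R₁ : Subgroup R := Subgroup.centralizer ((Subgroup.zpowers s : Subgroup R) : Set R) ⊓
      Subgroup.centralizer (W : Set R) with hR₁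
  have hR₁c : R₁ ≤ Subgroup.centralizer (R₁ : Set R) := by
    obtain ⟨g, hg⟩ := hcyc.exists_generator
    intro a ha
    rw [Subgroup.mem_centralizer_iff]
    intro b hb
    obtain ⟨i, hi⟩ := Subgroup.mem_zpowers_iff.mp (hg ⟨a, ha⟩)
    obtain ⟨j, hj⟩ := Subgroup.mem_zpowers_iff.mp (hg ⟨b, hb⟩)
    have hi' : a = (g : R) ^ i := by
      have := congrArg Subtype.val hi; simpa using this.symm
    have hj' : b = (g : R) ^ j := by
      have := congrArg Subtype.val hj; simpa using this.symm
    rw [hi', hj']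
    exact (Commute.zpow_zpow_self (g : R) j i)
  have hR₁s : R₁ ≤ Subgroup.centralizer ((Subgroup.zpowers s : Subgroup R) : Set R) := inf_le_left
  have hsR₁ : Subgroup.zpowers s ≤ Subgroup.centralizer (R₁ : Set R) :=
    Subgroup.le_centralizer_iff.mp hR₁s
  have hCC : Subgroup.centralizer ((Subgroup.zpowers s : Subgroup R) : Set R) ≤
      Subgroup.centralizer
        ((Subgroup.centralizer ((Subgroup.zpowers s : Subgroup R) : Set R) : Subgroup R) : Set R) := by
    conv_lhs => rw [← hsup]
    refine sup_le ?_ ?_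
    · exact Subgroup.le_centralizer_iff.mp le_rfl
    · rw [Subgroup.le_centralizer_iff, ← hsup]
      exact sup_le hsR₁ hR₁c
  have hAs : Subgroup.centralizer (A : Set R) ≤
      Subgroup.centralizer ((Subgroup.zpowers s : Subgroup R) : Set R) := by
    apply Subgroup.centralizer_le
    intro a ha
    exact (Subgroup.zpowers_le.mpr hsA) ha
  intro x hx y hy
  exact (Subgroup.mem_centralizer_iff.mp (hCC (hAs hx)) y (hAs hy)).symm

end Cfsg.Agent.Lib.Helper9.BG11n
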