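import Mathlib
import Cfsg.Agent.Lib.Helper9.Narrow2
import Cfsg.Agent.Lib.Helper9.Rank2Fit

/-!
Bender–Glauberman 4.20 (second form): if `E` is an elementary abelian `p`-subgroup of `F(G)`
with `C_{F(G)}(E)` of rank at most 2, then `G' ≤ F(G)` (`G` solvable of odd order).
-/

set_option autoImplicit false

namespace Cfsg.Agent.Lib.Helper9.Narrow4

open scoped commutatorElement
open Cfsg.Agent.Lib.Helper78 Cfsg.Agent.Lib.Helper9.Narrow1

universe u

/-- Elements of the join of two elementwise commuting subgroups are products. -/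
theorem mem_sup_of_commute {X : Type*} [Group X] (A B : Subgroup X)
    (hcomm : ∀ a ∈ A, ∀ b ∈ B, a * b = b * a) {x : X} (hx : x ∈ A ⊔ B) :
    ∃ a ∈ A, ∃ b ∈ B, x = a * b := by
  have hprod : A ⊔ B ≤
      ({ carrier := {y : X | ∃ a ∈ A, ∃ b ∈ B, y = a * b}
         mul_mem' := by
           rintro _ _ ⟨a, ha, b, hb, rfl⟩ ⟨a', ha', b', hb', rfl⟩
           refine ⟨a * a', A.mul_mem ha ha', b * b', B.mul_mem hb hb', ?_⟩
           calc a * b * (a' * b') = a * (b * a') * b' := by group
             _ = a * (a' * b) * b' := by rw [hcomm a' ha' b hb]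
             _ = a * a' * (b * b') := by group
         one_mem' := ⟨1, A.one_mem, 1, B.one_mem, by simp⟩
         inv_mem' := by
           rintro _ ⟨a, ha, b, hb, rfl⟩
           refine ⟨a⁻¹, A.inv_mem ha, b⁻¹, B.inv_mem hb, ?_⟩
           rw [mul_inv_rev, hcomm a⁻¹ (A.inv_mem ha) b⁻¹ (B.inv_mem hb)] } : Subgroup X) := by
    apply sup_le
    · intro a ha
      exact ⟨a, ha, 1, B.one_mem, by simp⟩
    · intro b hb
      exact ⟨1, A.one_mem, b, hb, by simp⟩
  exact hprod hx

/-- Adjoining a commuting element of order dividing `p` to an elementary abelian subgroup. -/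
theorem elemAb_sup_zpowers {X : Type*} [Group X] (p : ℕ) (A : Subgroup X)
    (hA : Cfsg.IsElementaryAbelian p A) (x : X) (hxp : x ^ p = 1)
    (hxA : ∀ a ∈ A, x * a = a * x) : Cfsg.IsElementaryAbelian p (A ⊔ Subgroup.zpowers x) := by
  have hcomm : ∀ a ∈ A, ∀ b ∈ Subgroup.zpowers x, a * b = b * a := by
    intro a ha b hb
    obtain ⟨k, rfl⟩ := Subgroup.mem_zpowers_iff.mp hb
    have h1 : Commute x a := hxA a ha
    exact (h1.zpow_left k).eq.symm
  have hAc : ∀ a ∈ A, ∀ a' ∈ A, a * a' = a' * a := by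
    intro a ha a' ha'
    have := hA.1.is_comm.comm ⟨a, ha⟩ ⟨a', ha'⟩
    exact congrArg Subtype.val this
  have hzc : ∀ b ∈ Subgroup.zpowers x, ∀ b' ∈ Subgroup.zpowers x, b * b' = b' * b := by
    intro b hb b' hb'
    obtain ⟨k, rfl⟩ := Subgroup.mem_zpowers_iff.mp hb
    obtain ⟨k', rfl⟩ := Subgroup.mem_zpowers_iff.mp hb'
    exact (zpow_mul_comm x k k')
  have hzp : ∀ b ∈ Subgroup.zpowers x, b ^ p = 1 := by
    intro b hb
    obtain ⟨k, rfl⟩ := Subgroup.mem_zpowers_iff.mp hb
    rw [← zpow_natCast, ← zpow_mul, mul_comm, zpow_mul, zpow_natCast, hxp, one_zpow]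
  constructor
  · refine ⟨⟨fun u v => ?_⟩⟩
    apply Subtype.ext
    obtain ⟨a, ha, b, hb, hu⟩ := mem_sup_of_commute A _ hcomm u.2
    obtain ⟨a', ha', b', hb', hv⟩ := mem_sup_of_commute A _ hcomm v.2
    show (u : X) * (v : X) = (v : X) * (u : X)
    rw [hu, hv]
    calc a * b * (a' * b') = a * (b * a') * b' := by group
      _ = a * (a' * b) * b' := by rw [hcomm a' ha' b hb]
      _ = (a * a') * (b * b') := by group
      _ = (a' * a) * (b' * b) := by rw [hAc a ha a' ha', hzc b hb b' hb']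
      _ = a' * (a * b') * b := by group
      _ = a' * (b' * a) * b := by rw [hcomm a ha b' hb']
      _ = a' * b' * (a * b) := by group
  · intro u hu
    obtain ⟨a, ha, b, hb, rfl⟩ := mem_sup_of_commute A _ hcomm hu
    have h1 : Commute a b := hcomm a ha b hb
    rw [h1.mul_pow, hA.2 a ha, hzp b hb, one_mul]

/-- A `p`-group with an elementary abelian subgroup all of whose elementary abelian
overgroups have order at most `p ^ 2` has narrow data. -/
theorem exists_narrow_of_max {X : Type*} [Group X] [Finite X] {p : ℕ} [Fact p.Prime]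
    (hX : IsPGroup p X) (E₀ : Subgroup X) (hE₀ : Cfsg.IsElementaryAbelian p E₀)
    (hmax : ∀ B : Subgroup X, Cfsg.IsElementaryAbelian p B → E₀ ≤ B → Nat.card B ≤ p ^ 2) :
    ∃ s : X, s ^ p = 1 ∧ (tset p s).ncard ≤ p ^ 2 := by
  have hpp : p.Prime := Fact.out
  have hne : Nonempty {B : Subgroup X // Cfsg.IsElementaryAbelian p B ∧ E₀ ≤ B} :=
    ⟨⟨E₀, hE₀, le_rfl⟩⟩
  obtain ⟨⟨Es, hEs1, hEs2⟩, hEsmax⟩ := Finite.exists_max
    (fun B : {B : Subgroup X // Cfsg.IsElementaryAbelian p B ∧ E₀ ≤ B} => Nat.card B.1)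
  have hEscard : Nat.card Es ≤ p ^ 2 := hmax Es hEs1 hEs2
  -- maximality
  have hM : ∀ x : X, x ^ p = 1 → (∀ e ∈ Es, x * e = e * x) → x ∈ Es := by
    intro x hxp hxE
    have h1 := elemAb_sup_zpowers p Es hEs1 x hxp hxE
    have h2 := hEsmax ⟨Es ⊔ Subgroup.zpowers x, h1, hEs2.trans le_sup_left⟩
    have h3 : Es = Es ⊔ Subgroup.zpowers x := Subgroup.eq_of_le_of_card_ge le_sup_left h2
    rw [h3]
    exact (le_sup_right : Subgroup.zpowers x ≤ Es ⊔ Subgroup.zpowers x) (Subgroup.mem_zpowers x)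
  have hfin : ∀ s : X, (∀ x : X, x * s = s * x → x ^ p = 1 → ∀ e ∈ Es, x * e = e * x) →
      (tset p s).ncard ≤ p ^ 2 := by
    intro s hs
    have h1 : tset p s ⊆ (Es : Set X) := fun x hx => hM x hx.2 (hs x hx.1 hx.2)
    calc (tset p s).ncard ≤ (Es : Set X).ncard := Set.ncard_le_ncard h1 (Set.toFinite _)
      _ = Nat.card Es := (Nat.card_coe_set_eq (Es : Set X)).symm
      _ ≤ p ^ 2 := hEscard
  by_cases hcen : ∀ e ∈ Es, e ∈ Subgroup.center X
  · refine ⟨1, one_pow p, hfin 1 ?_⟩
    intro x _ _ e he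
    exact Subgroup.mem_center_iff.mp (hcen e he) x
  · push Not at hcen
    obtain ⟨s, hsE, hsZ⟩ := hcen
    refine ⟨s, hEs1.2 s hsE, hfin s ?_⟩
    intro x hxs _
    have htop : (⊤ : Subgroup X) ≠ ⊥ := by
      intro h
      apply hsZ
      have h1 : s ∈ (⊤ : Subgroup X) := Subgroup.mem_top s
      rw [h, Subgroup.mem_bot] at h1
      rw [h1]
      exact Subgroup.one_mem _
    obtain ⟨z, -, hzZ, hzp⟩ := exists_central hX ⊤ htop
    have hzE : z ∈ Es := by
      apply hM z
      · rw [← hzp]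
        exact pow_orderOf_eq_one z
      · intro e _
        exact (Subgroup.mem_center_iff.mp hzZ e).symm
    have hlt : Subgroup.zpowers z < Subgroup.zpowers z ⊔ Subgroup.zpowers s := by
      refine lt_of_le_of_ne le_sup_left (fun h => hsZ ?_)
      have h1 : s ∈ Subgroup.zpowers z := by
        rw [h]
        exact (le_sup_right : Subgroup.zpowers s ≤ Subgroup.zpowers z ⊔ Subgroup.zpowers s)
          (Subgroup.mem_zpowers s)
      exact (Subgroup.zpowers_le.mpr hzZ) h1
    have hcard := card_lt hX hlt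
    rw [Nat.card_zpowers, hzp] at hcard
    have hle : Subgroup.zpowers z ⊔ Subgroup.zpowers s ≤ Es :=
      sup_le (Subgroup.zpowers_le.mpr hzE) (Subgroup.zpowers_le.mpr hsE)
    have heq : Subgroup.zpowers z ⊔ Subgroup.zpowers s = Es := by
      apply Subgroup.eq_of_le_of_card_ge hle
      calc Nat.card Es ≤ p ^ 2 := hEscard
        _ = p * p := sq p
        _ ≤ _ := hcard
    have hcx : Es ≤ Subgroup.centralizer {x} := by
      rw [← heq]
      apply sup_le
      · rw [Subgroup.zpowers_le, Subgroup.mem_centralizer_iff]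
        intro y hy
        rw [Set.mem_singleton_iff] at hy
        rw [hy]
        exact (Subgroup.mem_center_iff.mp hzZ x)
      · rw [Subgroup.zpowers_le, Subgroup.mem_centralizer_iff]
        intro y hy
        rw [Set.mem_singleton_iff] at hy
        rw [hy]
        exact hxs
    intro e he
    exact Subgroup.mem_centralizer_iff.mp (hcx he) x rfl

/-- Bender–Glauberman 4.20, second form: the `F1` property from a bound on the rank of the
centralizer in `F(G)` of an elementary abelian `p`-subgroup of `F(G)`. -/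
theorem F1_of_centralizer {G : Type u} [Group G] [Finite G] [Group.IsSolvable G]
    (hodd : Odd (Nat.card G)) (p : ℕ) [Fact p.Prime] (E : Subgroup G)
    (hE : E ≤ Cfsg.fittingSubgroup G) (hEe : Cfsg.IsElementaryAbelian p E)
    (hr : Cfsg.RankLE 2 ↥(Cfsg.fittingSubgroup G ⊓ Subgroup.centralizer (E : Set G))) :
    Cfsg.Agent.Lib.Helper9.Rank2Fit.F1 G := by
  have hpp : p.Prime := Fact.out
  have hEP : E ≤ Cfsg.pCore p G := by
    intro e he
    apply Cfsg.Agent.Lib.Helper21.Bender1.mem_pCore_of_mem_fitting p (hE he)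
    exact ⟨1, by rw [pow_one]; exact hEe.2 e he⟩
  intro r hrp x hx hcop
  have : Fact r.Prime := ⟨hrp⟩
  by_cases h2 : r = 2
  · subst h2
    rw [Fitting.pCore_eq_bot_of_not_dvd 2 (Cfsg.Agent.Lib.Helper9.Rank2Fit.two_not_dvd hodd),
      Subgroup.mem_centralizer_iff]
    intro h hh
    rw [SetLike.mem_coe, Subgroup.mem_bot] at hh
    rw [hh, one_mul, mul_one]
  have hn : (⊤ : Subgroup G) ≤ Subgroup.normalizer (Cfsg.pCore r G : Set G) := by
    have := Fitting.pCore_normal (G := G) r
    rw [Subgroup.normalizer_eq_top]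
  rw [commutator_def] at hx
  by_cases hrk : Cfsg.PRankLE r 2 ↥(Cfsg.pCore r G)
  · have hodd' : Odd (Nat.card ↥(⊤ : Subgroup G)) := by
      rw [Subgroup.card_top]
      exact hodd
    exact Cfsg.Agent.Lib.Helper9.Rank2Aut.conj_derived r h2 (Cfsg.pCore r G) ⊤
      (Fitting.pCore_isPGroup r) hrk hn inferInstance hodd' x hx hcop
  · have hrp_eq : r = p := by
      by_contra hne
      apply hrk
      have hle : Cfsg.pCore r G ≤
          Cfsg.fittingSubgroup G ⊓ Subgroup.centralizer (E : Set G) := by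
        refine le_inf (Fitting.pCore_le_fitting r) ?_
        intro y hy
        rw [Subgroup.mem_centralizer_iff]
        intro e he
        exact (Cfsg.Agent.Lib.Helper21.Bender1.pCore_commute hne hy (hEP he)).symm
      exact Cfsg.Agent.S1335.pRankLE_of_injective r 2 (Subgroup.inclusion hle)
        (Subgroup.inclusion_injective hle) (hr r hrp)
    subst hrp_eq
    have hmax : ∀ B : Subgroup ↥(Cfsg.pCore r G), Cfsg.IsElementaryAbelian r B →
        E.subgroupOf (Cfsg.pCore r G) ≤ B → Nat.card B ≤ r ^ 2 := by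
      intro B hB hEB
      have hmemB : ∀ b : ↥B, (((b : ↥(Cfsg.pCore r G)) : G)) ∈
          Cfsg.fittingSubgroup G ⊓ Subgroup.centralizer (E : Set G) := by
        intro b
        refine ⟨Fitting.pCore_le_fitting r (b : ↥(Cfsg.pCore r G)).2, ?_⟩
        show (((b : ↥(Cfsg.pCore r G)) : G)) ∈ Subgroup.centralizer (E : Set G)
        rw [Subgroup.mem_centralizer_iff]
        intro e he
        have h3 : (⟨e, hEP he⟩ : ↥(Cfsg.pCore r G)) ∈ B :=
          hEB (Subgroup.mem_subgroupOf.mpr he)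
        have h4 := hB.1.is_comm.comm ⟨⟨e, hEP he⟩, h3⟩ b
        exact congrArg (fun u : ↥B => ((u : ↥(Cfsg.pCore r G)) : G)) h4
      obtain ⟨f, hf⟩ : ∃ f : ↥B →* ↥(Cfsg.fittingSubgroup G ⊓ Subgroup.centralizer (E : Set G)),
          ∀ b : ↥B, ((f b : ↥(Cfsg.fittingSubgroup G ⊓ Subgroup.centralizer (E : Set G))) : G) =
            ((b : ↥(Cfsg.pCore r G)) : G) :=
        ⟨MonoidHom.mk' (fun b => ⟨((b : ↥(Cfsg.pCore r G)) : G), hmemB b⟩) (fun a b => rfl),
          fun b => rfl⟩
      have hinj : Function.Injective f := by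
        intro a b hab
        have h1 := congrArg Subtype.val hab
        rw [hf, hf] at h1
        exact Subtype.ext (Subtype.ext h1)
      have h5 := Cfsg.Agent.S1335.pRankLE_of_injective r 2 f hinj (hr r hrp)
      have h6 := h5 ⊤ (by
        refine ⟨⟨fun a b => ?_⟩⟩
        apply Subtype.ext
        exact hB.1.is_comm.comm a.1 b.1) (by
        intro a _
        apply Subtype.ext
        rw [Subgroup.coe_pow, Subgroup.coe_one]
        exact hB.2 a a.2)
      rwa [Subgroup.card_top] at h6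
    have hEe' : Cfsg.IsElementaryAbelian r (E.subgroupOf (Cfsg.pCore r G)) := by
      constructor
      · refine ⟨⟨fun a b => ?_⟩⟩
        apply Subtype.ext
        apply Subtype.ext
        have h1 := hEe.1.is_comm.comm ⟨(a : ↥(Cfsg.pCore r G)), Subgroup.mem_subgroupOf.mp a.2⟩
          ⟨(b : ↥(Cfsg.pCore r G)), Subgroup.mem_subgroupOf.mp b.2⟩
        show (((a : ↥(Cfsg.pCore r G)) : G)) * (((b : ↥(Cfsg.pCore r G)) : G)) =
          (((b : ↥(Cfsg.pCore r G)) : G)) * (((a : ↥(Cfsg.pCore r G)) : G))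
        exact congrArg Subtype.val h1
      · intro a ha
        apply Subtype.ext
        rw [Subgroup.coe_pow, Subgroup.coe_one]
        exact hEe.2 a (Subgroup.mem_subgroupOf.mp ha)
    obtain ⟨s, hsp, hT⟩ := exists_narrow_of_max (Fitting.pCore_isPGroup r)
      (E.subgroupOf (Cfsg.pCore r G)) hEe' hmax
    exact (Cfsg.Agent.Lib.Helper9.Narrow2.narrow_conj h2 (Cfsg.pCore r G) ⊤
      (Fitting.pCore_isPGroup r) hrk s hsp hT hn).1 x hx hcop

end Cfsg.Agent.Lib.Helper9.Narrow4
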