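import Mathlib
import Cfsg.Agent.Lib.Helper9.Narrow3

/-!
Automorphism groups of odd order of narrow `p`-groups (Bender–Glauberman 4.17/4.9): first
parts.
-/

set_option autoImplicit false

namespace Cfsg.Agent.Lib.Helper9.Narrow5

open scoped commutatorElement
open Cfsg.Agent.Lib.Helper9.Narrow1

universe u

variable {G : Type u} [Group G] [Finite G] {p : ℕ} [Fact p.Prime]

/-- Narrow data for a narrow `p`-group of rank at least 3. -/
theorem data_of_narrow {X : Type*} [Group X] [Finite X] (hn : Cfsg.IsNarrow p X)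
    (hrk : ¬ Cfsg.PRankLE p 2 X) : ∃ s : X, s ^ p = 1 ∧ (tset p s).ncard ≤ p ^ 2 := by
  rcases hn with h | ⟨R₀, R₁, h0, hc, -, hcomm, hsup⟩
  · exact absurd h hrk
  · exact Cfsg.Agent.Lib.Helper9.Narrow3.narrow_data R₀ R₁ h0 hc hcomm hsup

/-- Every element has a `p`-power power of order prime to `p`. -/
theorem exists_pow_coprime (d : G) : ∃ k : ℕ, (orderOf (d ^ (p ^ k))).Coprime p := by
  have hpp : p.Prime := Fact.out
  have hpos : 0 < orderOf d := orderOf_pos d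
  obtain ⟨k, m, hm, hkm⟩ := Nat.exists_eq_pow_mul_and_not_dvd hpos.ne' p hpp.ne_one
  refine ⟨k, ?_⟩
  have h1 : orderOf (d ^ (p ^ k)) ∣ m := by
    apply orderOf_dvd_of_pow_eq_one
    rw [← pow_mul, ← hkm]
    exact pow_orderOf_eq_one d
  exact Nat.Coprime.coprime_dvd_left h1 ((Nat.Prime.coprime_iff_not_dvd hpp).mpr hm).symm

/-- The `p'`-elements of `A'` are trivial. -/
theorem key (hp : p ≠ 2) (R A : Subgroup G) (hR : IsPGroup p R)
    (hRn : Cfsg.IsNarrow p R) (hA : A ≤ Subgroup.normalizer (R : Set G))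
    (hAs : Group.IsSolvable A) (hAodd : Odd (Nat.card A))
    (hfaith : A ⊓ Subgroup.centralizer (R : Set G) = ⊥) :
    ∀ x ∈ ⁅A, A⁆, (orderOf x).Coprime p → x = 1 := by
  intro x hx hcop
  have hxA : x ∈ A := Cfsg.Agent.Lib.Helper9.GL2Odd.commutator_self_le A hx
  have hxC : x ∈ Subgroup.centralizer (R : Set G) := by
    by_cases hrk : Cfsg.PRankLE p 2 R
    · exact Cfsg.Agent.Lib.Helper9.Rank2Aut.conj_derived p hp R A hR hrk hA hAs hAodd x hx hcop
    · obtain ⟨s, hsp, hT⟩ := data_of_narrow hRn hrk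
      exact (Cfsg.Agent.Lib.Helper9.Narrow2.narrow_conj hp R A hR hrk s hsp hT hA).1 x hx hcop
  have h1 : x ∈ A ⊓ Subgroup.centralizer (R : Set G) := ⟨hxA, hxC⟩
  rw [hfaith, Subgroup.mem_bot] at h1
  exact h1

/-- Part 1: `A' ≤ O_p(A)` and `|A : O_p(A)|` is prime to `p`. -/
theorem part1 (hp : p ≠ 2) (R A : Subgroup G) (hR : IsPGroup p R)
    (hRn : Cfsg.IsNarrow p R) (hA : A ≤ Subgroup.normalizer (R : Set G))
    (hAs : Group.IsSolvable A) (hAodd : Odd (Nat.card A))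
    (hfaith : A ⊓ Subgroup.centralizer (R : Set G) = ⊥) :
    commutator ↥A ≤ Cfsg.pCore p ↥A ∧ ((Cfsg.pCore p ↥A).index).Coprime p := by
  have hpp : p.Prime := Fact.out
  have hkey := key hp R A hR hRn hA hAs hAodd hfaith
  have hCn : (Cfsg.pCore p ↥A).Normal := Cfsg.Agent.Lib.Helper11.PConstr.pCore_normal'' p ↥A
  have hCp : IsPGroup p ↥(Cfsg.pCore p ↥A) := Cfsg.Agent.Lib.Helper76.PSolv.pCore_isPGroup p
  have hder : IsPGroup p ↥(commutator ↥A) := by
    intro d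
    have hd : ((d : ↥A) : G) ∈ ⁅A, A⁆ := by
      rw [← Subgroup.map_subtype_commutator]
      exact ⟨d, d.2, rfl⟩
    obtain ⟨k, hk⟩ := exists_pow_coprime (p := p) ((d : ↥A) : G)
    refine ⟨k, ?_⟩
    apply Subtype.ext
    apply Subtype.ext
    have h1 := hkey _ (Subgroup.pow_mem _ hd _) hk
    simpa using h1
  have K1 : commutator ↥A ≤ Cfsg.pCore p ↥A :=
    Cfsg.Agent.Lib.Helper76.PSolv.le_pCore inferInstance hder
  refine ⟨K1, ?_⟩
  have hab : ∀ a b : ↥A ⧸ Cfsg.pCore p ↥A, a * b = b * a := by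
    intro a b
    obtain ⟨g, rfl⟩ := QuotientGroup.mk_surjective a
    obtain ⟨h, rfl⟩ := QuotientGroup.mk_surjective b
    have h1 : ⁅g, h⁆ ∈ commutator ↥A := by
      rw [commutator_def]
      exact Subgroup.commutator_mem_commutator (Subgroup.mem_top g) (Subgroup.mem_top h)
    have h2 : ((⁅g, h⁆ : ↥A) : ↥A ⧸ Cfsg.pCore p ↥A) = 1 :=
      (QuotientGroup.eq_one_iff _).mpr (K1 h1)
    have h3 := map_commutatorElement (QuotientGroup.mk' (Cfsg.pCore p ↥A)) g h
    rw [QuotientGroup.mk'_apply, h2] at h3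
    exact commutatorElement_eq_one_iff_mul_comm.mp h3.symm
  rw [Nat.coprime_comm, Nat.Prime.coprime_iff_not_dvd hpp]
  intro hdvd
  have hdvd' : p ∣ Nat.card (↥A ⧸ Cfsg.pCore p ↥A) := hdvd
  obtain ⟨xb, hxb⟩ := exists_prime_orderOf_dvd_card' p hdvd'
  obtain ⟨x, rfl⟩ := QuotientGroup.mk_surjective xb
  have hZn : ((Subgroup.zpowers (x : ↥A ⧸ Cfsg.pCore p ↥A)).comap
      (QuotientGroup.mk' (Cfsg.pCore p ↥A))).Normal := by
    apply Subgroup.Normal.comap
    exact ⟨fun n hn g => by rw [hab g n, mul_inv_cancel_right]; exact hn⟩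
  have hZp : IsPGroup p ↥((Subgroup.zpowers (x : ↥A ⧸ Cfsg.pCore p ↥A)).comap
      (QuotientGroup.mk' (Cfsg.pCore p ↥A))) := by
    rintro ⟨m, hm⟩
    rw [Subgroup.mem_comap] at hm
    have h1 := orderOf_dvd_of_mem_zpowers hm
    rw [hxb] at h1
    have h2 : m ^ p ∈ Cfsg.pCore p ↥A := by
      rw [← QuotientGroup.eq_one_iff, QuotientGroup.mk_pow]
      exact orderOf_dvd_iff_pow_eq_one.mp h1
    obtain ⟨j, hj⟩ := hCp ⟨m ^ p, h2⟩
    refine ⟨1 + j, ?_⟩
    apply Subtype.ext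
    have h3 := congrArg Subtype.val hj
    rw [Subgroup.coe_pow, Subgroup.coe_one] at h3
    rw [Subgroup.coe_pow, Subgroup.coe_one, pow_add, pow_mul, pow_one]
    exact h3
  have hle := Cfsg.Agent.Lib.Helper76.PSolv.le_pCore hZn hZp
  have hx : x ∈ Cfsg.pCore p ↥A := hle (by
    rw [Subgroup.mem_comap]
    exact Subgroup.mem_zpowers _)
  have h1 : (x : ↥A ⧸ Cfsg.pCore p ↥A) = 1 := (QuotientGroup.eq_one_iff _).mpr hx
  rw [h1, orderOf_one] at hxb
  exact hpp.one_lt.ne hxb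

/-- Part 2: in rank at least 3, the `p'`-elements of `A` have order dividing `p - 1`. -/
theorem part2 (hp : p ≠ 2) (R A : Subgroup G) (hR : IsPGroup p R)
    (hRn : Cfsg.IsNarrow p R) (hA : A ≤ Subgroup.normalizer (R : Set G))
    (hfaith : A ⊓ Subgroup.centralizer (R : Set G) = ⊥) (hrk : ¬ Cfsg.PRankLE p 2 R) :
    ∀ a ∈ A, (orderOf a).Coprime p → orderOf a ∣ p - 1 := by
  intro a ha hcop
  obtain ⟨s, hsp, hT⟩ := data_of_narrow hRn hrk
  have h1 := (Cfsg.Agent.Lib.Helper9.Narrow2.narrow_conj hp R A hR hrk s hsp hT hA).2 a ha hcop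
  have h2 : a ^ (p - 1) ∈ A ⊓ Subgroup.centralizer (R : Set G) := ⟨A.pow_mem ha _, h1⟩
  rw [hfaith, Subgroup.mem_bot] at h2
  exact orderOf_dvd_of_pow_eq_one h2

/-- Part 3a: if `|A| = q` is a prime not dividing `p (p - 1)` then `R` has rank at most 2 and
`2 q ∣ p + 1`. -/
theorem part3a (hp : p ≠ 2) (R A : Subgroup G) (hR : IsPGroup p R)
    (hRn : Cfsg.IsNarrow p R) (hA : A ≤ Subgroup.normalizer (R : Set G))
    (hAodd : Odd (Nat.card A)) (hfaith : A ⊓ Subgroup.centralizer (R : Set G) = ⊥)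
    (hq : (Nat.card A).Prime) (hq1 : ¬ Nat.card A ∣ p * (p - 1)) :
    Cfsg.PRankLE p 2 R ∧ 2 * Nat.card A ∣ p + 1 := by
  have hpp : p.Prime := Fact.out
  have hqp : Nat.card A ≠ p := by
    intro h
    apply hq1
    rw [h]
    exact dvd_mul_right p (p - 1)
  have hrk : Cfsg.PRankLE p 2 R := by
    by_contra hrk
    have hnt : Nontrivial ↥A := by
      rw [← Finite.one_lt_card_iff_nontrivial]
      exact hq.one_lt
    obtain ⟨a, ha1⟩ := exists_ne (1 : ↥A)
    have ho : orderOf (a : G) = Nat.card A := by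
      rw [Subgroup.orderOf_coe]
      have h1 : orderOf a ∣ Nat.card A := orderOf_dvd_natCard a
      rcases (Nat.dvd_prime hq).mp h1 with h2 | h2
      · exact absurd (orderOf_eq_one_iff.mp h2) ha1
      · exact h2
    have hcop : (orderOf (a : G)).Coprime p := by
      rw [ho]
      exact (Nat.coprime_primes hq hpp).mpr hqp
    have h3 := part2 hp R A hR hRn hA hfaith hrk (a : G) a.2 hcop
    rw [ho] at h3
    exact hq1 (dvd_mul_of_dvd_right h3 p)
  refine ⟨hrk, ?_⟩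
  obtain ⟨c, hc⟩ : ∃ c : ↥A →* MulAut ↥R, c = Cfsg.Agent.Lib.Helper24.ConjAction.conjHom A R hA :=
    ⟨_, rfl⟩
  have hinj : Function.Injective c := by
    rw [injective_iff_map_eq_one]
    intro a h2
    have h3 : (a : G) ∈ A ⊓ Subgroup.centralizer (R : Set G) := by
      refine ⟨a.2, ?_⟩
      show (a : G) ∈ Subgroup.centralizer (R : Set G)
      rw [Subgroup.mem_centralizer_iff]
      intro w hw
      have h3 : ((c a ⟨w, hw⟩ : ↥R) : G) = w := by rw [h2]; rfl
      rw [hc, Cfsg.Agent.Lib.Helper24.ConjAction.conjHom_apply] at h3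
      have h4 : (a : G) * w * (a : G)⁻¹ = w := h3
      calc w * (a : G) = ((a : G) * w * (a : G)⁻¹) * a := by rw [h4]
        _ = (a : G) * w := by simp
    rw [hfaith, Subgroup.mem_bot] at h3
    exact Subtype.ext h3
  have hdvd : Nat.card A ∣ Nat.card (MulAut ↥R) := Subgroup.card_dvd_of_injective c hinj
  have h640 := Cfsg.Agent.S0640.result hp hR hrk (Nat.card A) hq hqp hdvd
  have hfac : p ^ 2 - 1 = (p - 1) * (p + 1) := by
    have h1 : 1 ≤ p := hpp.one_lt.le
    obtain ⟨k, rfl⟩ : ∃ k, p = k + 1 := ⟨p - 1, by omega⟩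
    simp only [Nat.add_sub_cancel]
    have : (k + 1) ^ 2 = k * (k + 1 + 1) + 1 := by ring
    omega
  have h5 : Nat.card A ∣ p + 1 := by
    have h6 := h640.1
    rw [hfac] at h6
    rcases (Nat.Prime.dvd_mul hq).mp h6 with h7 | h7
    · exact absurd (dvd_mul_of_dvd_right h7 p) hq1
    · exact h7
  have h2 : 2 ∣ p + 1 := by
    have hodd : Odd p := hpp.odd_of_ne_two hp
    obtain ⟨k, hk⟩ := hodd
    exact ⟨k + 1, by omega⟩
  have hcop2 : Nat.Coprime 2 (Nat.card A) := by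
    rw [Nat.coprime_comm]
    exact Nat.Coprime.symm (Nat.coprime_two_left.mpr hAodd)
  exact Nat.Coprime.mul_dvd_of_dvd_of_dvd hcop2 h2 h5

end Cfsg.Agent.Lib.Helper9.Narrow5
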