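import Mathlib
import Cfsg.Agent.Lib.Helper9.Narrow4
import Cfsg.Agent.Lib.Helper9.Narrow5

/-!
A `p`-group `X` of rank at most 2 whose elements of order dividing `p` form a subgroup `Ω` of
order `p ^ 3`: an automorphism of order prime to `p (p - 1)` acts trivially on `X / Ω`
(part of Bender–Glauberman 4.7/4.9).
-/

set_option autoImplicit false

namespace Cfsg.Agent.Lib.Helper9.Narrow6

open scoped commutatorElement
open Cfsg.Agent.Lib.Helper9.Narrow1 Cfsg.Agent.Lib.Helper9.Narrow4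

universe u

variable {p : ℕ} [Fact p.Prime]

omit [Fact p.Prime] in
/-- A coprime automorphism of a `p`-group fixing `y⁻¹ γ(y)` fixes `y`. -/
theorem fix_of_stab {Y : Type*} [Group Y] [Finite Y] (hY : IsPGroup p Y) (γ : MulAut Y)
    (hcop : (orderOf γ).Coprime p) (y : Y) (h : γ (y⁻¹ * γ y) = y⁻¹ * γ y) : γ y = y := by
  obtain ⟨u, hu⟩ : ∃ u : Y, u = y⁻¹ * γ y := ⟨_, rfl⟩
  rw [← hu] at h
  have hxm : γ y = y * u := by rw [hu]; group
  have hpow : ∀ j : ℕ, (γ ^ j) y = y * u ^ j := by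
    intro j
    induction j with
    | zero => simp
    | succ j ih =>
      rw [pow_succ', MulAut.mul_apply, ih, map_mul, map_pow, h, hxm, pow_succ']
      group
  have h5 := hpow (orderOf γ)
  rw [pow_orderOf_eq_one, MulAut.one_apply] at h5
  have h6 : u ^ orderOf γ = 1 := by
    have h7 : y * u ^ orderOf γ = y * 1 := by rw [mul_one]; exact h5.symm
    exact mul_left_cancel h7
  obtain ⟨k, hk⟩ := hY u
  have h8 : orderOf u ∣ Nat.gcd (orderOf γ) (p ^ k) :=
    Nat.dvd_gcd (orderOf_dvd_of_pow_eq_one h6) (orderOf_dvd_of_pow_eq_one hk)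
  rw [(Nat.Coprime.pow_right k hcop).gcd_eq_one, Nat.dvd_one] at h8
  rw [hxm, orderOf_eq_one_iff.mp h8, mul_one]

omit [Fact p.Prime] in
/-- Central sections in terms of commutators. -/
theorem comm_mem_of_map_le_center {X : Type*} [Group X] (N M : Subgroup X) [N.Normal]
    (h : M.map (QuotientGroup.mk' N) ≤ Subgroup.center (X ⧸ N)) :
    ∀ g ∈ M, ∀ r : X, g * r * g⁻¹ * r⁻¹ ∈ N := by
  intro g hg r
  have hz : QuotientGroup.mk' N g ∈ Subgroup.center (X ⧸ N) := h ⟨g, hg, rfl⟩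
  have h3 := Subgroup.mem_center_iff.mp hz (QuotientGroup.mk' N r)
  rw [← QuotientGroup.eq_one_iff]
  have h4 : ((g * r * g⁻¹ * r⁻¹ : X) : X ⧸ N) =
      QuotientGroup.mk' N g * QuotientGroup.mk' N r * (QuotientGroup.mk' N g)⁻¹ *
        (QuotientGroup.mk' N r)⁻¹ := by
    simp
  rw [h4, ← h3]
  group

/-- An automorphism of order prime to `p - 1` of a group of order `p` is trivial. -/
theorem aut_trivial_of_card_prime {Y : Type*} [Group Y] [Finite Y] (hcard : Nat.card Y = p)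
    (γ : MulAut Y) (hcop : (orderOf γ).Coprime (p - 1)) : γ = 1 := by
  have hpp : p.Prime := Fact.out
  have hcyc : IsCyclic Y := isCyclic_of_prime_card hcard
  have h1 := IsCyclic.card_mulAut Y
  rw [hcard, Nat.totient_prime hpp] at h1
  have h2 : orderOf γ ∣ p - 1 := by
    rw [← h1]
    exact orderOf_dvd_natCard γ
  have h3 : orderOf γ ∣ Nat.gcd (orderOf γ) (p - 1) := Nat.dvd_gcd dvd_rfl h2
  rw [hcop.gcd_eq_one, Nat.dvd_one] at h3
  exact orderOf_eq_one_iff.mp h3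

/-- Main theorem of this file. -/
theorem cube_core {X : Type u} [Group X] [Finite X] (hp : p ≠ 2) (hX : IsPGroup p X)
    (hrk : Cfsg.PRankLE p 2 X) (Ω : Subgroup X) (hΩ : ∀ y : X, y ∈ Ω ↔ y ^ p = 1)
    (hcard : Nat.card Ω = p ^ 3) (β : MulAut X) (hβ1 : (orderOf β).Coprime p)
    (hβ2 : (orderOf β).Coprime (p - 1)) : ∀ x : X, x⁻¹ * β x ∈ Ω := by
  have hpp : p.Prime := Fact.out
  -- invariance of `Ω` and of its centralizer `D`
  have hΩinv : ∀ (α : MulAut X) (y : X), y ∈ Ω ↔ α y ∈ Ω := by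
    intro α y
    rw [hΩ, hΩ, ← map_pow]
    exact (MulEquiv.map_eq_one_iff α).symm
  have hΩn : Ω.Normal := ⟨fun n hn g => (hΩinv (MulAut.conj g) n).mp hn⟩
  obtain ⟨D, hD⟩ : ∃ D : Subgroup X, D = Subgroup.centralizer (Ω : Set X) := ⟨_, rfl⟩
  have hDmem : ∀ y : X, y ∈ D ↔ ∀ w ∈ Ω, w * y = y * w := by
    intro y
    rw [hD, Subgroup.mem_centralizer_iff]
    rfl
  have hDinv1 : ∀ (α : MulAut X) (y : X), y ∈ D → α y ∈ D := by
    intro α y hy
    rw [hDmem] at hy ⊢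
    intro w hw
    have h1 := hy (α⁻¹ w) ((hΩinv α⁻¹ w).mp hw)
    have h2 := congrArg α h1
    rw [map_mul, map_mul] at h2
    have h3 : α (α⁻¹ w) = w := MulEquiv.apply_symm_apply α w
    rw [h3] at h2
    exact h2
  have hDinv : ∀ (α : MulAut X) (y : X), y ∈ D ↔ α y ∈ D := by
    intro α y
    refine ⟨hDinv1 α y, fun h => ?_⟩
    have h1 := hDinv1 α⁻¹ (α y) h
    have h2 : α⁻¹ (α y) = y := MulEquiv.symm_apply_apply α y
    rwa [h2] at h1
  have hDn : D.Normal := ⟨fun n hn g => (hDinv (MulAut.conj g) n).mp hn⟩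
  -- `Ω` is not abelian
  have hΩne : Ω ≠ ⊥ := by
    intro h
    rw [h, Subgroup.card_bot] at hcard
    have := Nat.one_lt_pow (n := 3) (by norm_num) hpp.one_lt
    omega
  have hnab : ¬ ∀ a ∈ Ω, ∀ b ∈ Ω, a * b = b * a := by
    intro hab
    have h1 := hrk Ω ⟨⟨fun a b => Subtype.ext (hab a a.2 b b.2)⟩⟩ (fun a ha => (hΩ a).mp ha)
    rw [hcard] at h1
    have := (Nat.pow_le_pow_iff_right hpp.one_lt).mp h1
    omega
  -- the centre `Z` of `Ω` has order `p` and is central in `X`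
  obtain ⟨c, hcΩ, hcZ, hcp⟩ := exists_central hX Ω hΩne
  have hcD : c ∈ D := by
    rw [hDmem]
    intro w _
    exact Subgroup.mem_center_iff.mp hcZ w
  have hZeq : Ω ⊓ D = Subgroup.zpowers c := by
    symm
    by_contra hne
    have hle : Subgroup.zpowers c ≤ Ω ⊓ D := Subgroup.zpowers_le.mpr ⟨hcΩ, hcD⟩
    have hlt : Subgroup.zpowers c < Ω ⊓ D := lt_of_le_of_ne hle hne
    have h1 := card_lt hX hlt
    rw [Nat.card_zpowers, hcp] at h1
    have hZΩ : Ω ⊓ D < Ω := by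
      refine lt_of_le_of_ne inf_le_left (fun h => hnab ?_)
      intro a ha b hb
      have hbD : b ∈ D := (inf_eq_left.mp h) hb
      exact (hDmem b).mp hbD a ha
    have h2 := card_lt hX hZΩ
    rw [hcard] at h2
    obtain ⟨w, hwΩ, hwZ⟩ := SetLike.exists_of_lt hZΩ
    have hlt2 : Ω ⊓ D < (Ω ⊓ D) ⊔ Subgroup.zpowers w := by
      refine lt_of_le_of_ne le_sup_left (fun h => hwZ ?_)
      rw [h]
      exact (le_sup_right : Subgroup.zpowers w ≤ (Ω ⊓ D) ⊔ Subgroup.zpowers w)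
        (Subgroup.mem_zpowers w)
    have h3 := card_lt hX hlt2
    have hle2 : (Ω ⊓ D) ⊔ Subgroup.zpowers w ≤ Ω :=
      sup_le inf_le_left (Subgroup.zpowers_le.mpr hwΩ)
    have heq : (Ω ⊓ D) ⊔ Subgroup.zpowers w = Ω := by
      apply Subgroup.eq_of_le_of_card_ge hle2
      rw [hcard]
      calc p ^ 3 = p * (p * p) := by ring
        _ ≤ p * Nat.card ↥(Ω ⊓ D) := Nat.mul_le_mul_left _ h1
        _ ≤ _ := h3
    have hcomm : ∀ a ∈ Ω ⊓ D, ∀ b ∈ Subgroup.zpowers w, a * b = b * a := by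
      intro a ha b hb
      exact ((hDmem a).mp ha.2 b (Subgroup.zpowers_le.mpr hwΩ hb)).symm
    apply hnab
    intro a ha b hb
    rw [← heq] at ha hb
    obtain ⟨a1, ha1, a2, ha2, rfl⟩ := mem_sup_of_commute _ _ hcomm ha
    obtain ⟨b1, hb1, b2, hb2, rfl⟩ := mem_sup_of_commute _ _ hcomm hb
    have hz : ∀ z ∈ Ω ⊓ D, ∀ t ∈ Ω, z * t = t * z := fun z hz t ht => ((hDmem z).mp hz.2 t ht).symm
    have h22 : a2 * b2 = b2 * a2 := by
      obtain ⟨k, rfl⟩ := Subgroup.mem_zpowers_iff.mp ha2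
      obtain ⟨k', rfl⟩ := Subgroup.mem_zpowers_iff.mp hb2
      exact zpow_mul_comm w k k'
    have ha2Ω : a2 ∈ Ω := Subgroup.zpowers_le.mpr hwΩ ha2
    have hb2Ω : b2 ∈ Ω := Subgroup.zpowers_le.mpr hwΩ hb2
    calc a1 * a2 * (b1 * b2) = a1 * (a2 * b1) * b2 := by group
      _ = a1 * (b1 * a2) * b2 := by rw [hz b1 hb1 a2 ha2Ω]
      _ = (a1 * b1) * (a2 * b2) := by group
      _ = (b1 * a1) * (b2 * a2) := by rw [hz a1 ha1 b1 hb1.1, h22]
      _ = b1 * (a1 * b2) * a2 := by group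
      _ = b1 * (b2 * a1) * a2 := by rw [hz a1 ha1 b2 hb2Ω]
      _ = b1 * b2 * (a1 * a2) := by group
  have hZcard : Nat.card ↥(Ω ⊓ D) = p := by rw [hZeq, Nat.card_zpowers, hcp]
  have hZcen : Ω ⊓ D ≤ Subgroup.center X := by
    rw [hZeq]
    exact Subgroup.zpowers_le.mpr hcZ
  have hZn : (Ω ⊓ D).Normal := inferInstance
  have hZinv : ∀ (α : MulAut X) (y : X), y ∈ Ω ⊓ D ↔ α y ∈ Ω ⊓ D := by
    intro α y
    rw [Subgroup.mem_inf, Subgroup.mem_inf, ← hΩinv α y, ← hDinv α y]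
  -- `β` fixes `Z` and `D` pointwise
  have hβZ : ∀ z ∈ Ω ⊓ D, β z = z := by
    intro z hz
    have h1 : Cfsg.Agent.S0640.restr (Ω ⊓ D) β (hZinv β) = 1 := by
      apply aut_trivial_of_card_prime hZcard
      refine Nat.Coprime.coprime_dvd_left ?_ hβ2
      apply orderOf_dvd_of_pow_eq_one
      ext y
      rw [Cfsg.Agent.S0640.restr_pow, pow_orderOf_eq_one]
      rfl
    have h2 := Cfsg.Agent.S0640.restr_apply (Ω ⊓ D) β (hZinv β) ⟨z, hz⟩
    rw [h1] at h2
    exact h2.symm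
  have hβD : ∀ d ∈ D, β d = d := by
    intro d hd
    have h1 : Cfsg.Agent.S0640.restr D β (hDinv β) = 1 := by
      apply Cfsg.Agent.S0120.result hp (hX.to_subgroup D)
      · refine Nat.Coprime.coprime_dvd_left ?_ hβ1
        apply orderOf_dvd_of_pow_eq_one
        ext y
        rw [Cfsg.Agent.S0640.restr_pow, pow_orderOf_eq_one]
        rfl
      · intro y hy
        apply Subtype.ext
        rw [Cfsg.Agent.S0640.restr_apply]
        apply hβZ
        refine ⟨(hΩ _).mpr ?_, y.2⟩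
        have h2 := congrArg Subtype.val hy
        simpa using h2
    have h2 := Cfsg.Agent.S0640.restr_apply D β (hDinv β) ⟨d, hd⟩
    rw [h1] at h2
    exact h2.symm
  -- the chain `Z < L < Ω`
  have hZlt : Ω ⊓ D < Ω := by
    refine lt_of_le_of_ne inf_le_left (fun h => hnab ?_)
    intro a ha b hb
    have hbD : b ∈ D := (inf_eq_left.mp h) hb
    exact (hDmem b).mp hbD a ha
  obtain ⟨L, hLn, hZL, hLΩ, hLc, hLz⟩ := exists_step hX (Ω ⊓ D) Ω hZlt
  rw [hZcard] at hLc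
  have hp2 : 2 ≤ p := hpp.two_le
  have hLlt : L < Ω := by
    refine lt_of_le_of_ne hLΩ (fun h => ?_)
    rw [h, hcard] at hLc
    have h1 : p ^ 3 = p * p * p := by ring
    have h2 : p * p * 2 ≤ p * p * p := Nat.mul_le_mul_left _ hp2
    have h3 : 0 < p * p := Nat.mul_pos hpp.pos hpp.pos
    omega
  obtain ⟨M₂, hM2n, hLM2, hM2Ω, hM2c, hM2z⟩ := exists_step hX L Ω hLlt
  have hM2 : M₂ = Ω := by
    apply Subgroup.eq_of_le_of_card_ge hM2Ω
    rw [hM2c, hLc, hcard]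
    exact le_of_eq (by ring)
  rw [hM2] at hM2z
  have hcL := comm_mem_of_map_le_center (Ω ⊓ D) L hLz
  have hcΩ' := comm_mem_of_map_le_center L Ω hM2z
  have hZltL : Ω ⊓ D < L := by
    refine lt_of_le_of_ne hZL (fun h => ?_)
    rw [← h, hZcard] at hLc
    have h2 : p * 2 ≤ p * p := Nat.mul_le_mul_left _ hp2
    have := hpp.pos
    omega
  obtain ⟨w₁, hw1L, hw1Z⟩ := SetLike.exists_of_lt hZltL
  obtain ⟨w₂, hw2Ω, hw2L⟩ := SetLike.exists_of_lt hLlt
  have hLeq : (Ω ⊓ D) ⊔ Subgroup.zpowers w₁ = L := by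
    have hlt : Ω ⊓ D < (Ω ⊓ D) ⊔ Subgroup.zpowers w₁ := by
      refine lt_of_le_of_ne le_sup_left (fun h => hw1Z ?_)
      rw [h]
      exact (le_sup_right : Subgroup.zpowers w₁ ≤ (Ω ⊓ D) ⊔ Subgroup.zpowers w₁)
        (Subgroup.mem_zpowers w₁)
    have h1 := card_lt hX hlt
    rw [hZcard] at h1
    apply Subgroup.eq_of_le_of_card_ge (sup_le hZL (Subgroup.zpowers_le.mpr hw1L))
    rw [hLc]
    exact h1
  have hΩeq : L ⊔ Subgroup.zpowers w₂ = Ω := by
    have hlt : L < L ⊔ Subgroup.zpowers w₂ := by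
      refine lt_of_le_of_ne le_sup_left (fun h => hw2L ?_)
      rw [h]
      exact (le_sup_right : Subgroup.zpowers w₂ ≤ L ⊔ Subgroup.zpowers w₂)
        (Subgroup.mem_zpowers w₂)
    have h1 := card_lt hX hlt
    rw [hLc] at h1
    apply Subgroup.eq_of_le_of_card_ge (sup_le hLΩ (Subgroup.zpowers_le.mpr hw2Ω))
    rw [hcard]
    calc p ^ 3 = p * (p * p) := by ring
      _ ≤ _ := h1
  -- counting
  have hf1 := fiber_count ⊤ (Ω ⊓ D) w₁ (fun g _ => by
    have h3 := (Ω ⊓ D).inv_mem (hcL w₁ hw1L g)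
    have h4 : (w₁ * g * w₁⁻¹ * g⁻¹)⁻¹ = g * w₁ * g⁻¹ * w₁⁻¹ := by group
    rwa [h4] at h3)
  have hf2 := fiber_count (⊤ ⊓ Subgroup.centralizer {w₁}) L w₂ (fun g _ => by
    have h3 := L.inv_mem (hcΩ' w₂ hw2Ω g)
    have h4 : (w₂ * g * w₂⁻¹ * g⁻¹)⁻¹ = g * w₂ * g⁻¹ * w₂⁻¹ := by group
    rwa [h4] at h3)
  have hle3 : (⊤ ⊓ Subgroup.centralizer {w₁}) ⊓ Subgroup.centralizer {w₂} ≤ D := by
    intro x hx
    rw [hDmem]
    have hcx : Ω ≤ Subgroup.centralizer {x} := by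
      rw [← hΩeq, ← hLeq]
      refine sup_le (sup_le ?_ ?_) ?_
      · intro z hz
        rw [Subgroup.mem_centralizer_iff]
        intro y hy
        rw [Set.mem_singleton_iff] at hy
        rw [hy]
        exact Subgroup.mem_center_iff.mp (hZcen hz) x
      · rw [Subgroup.zpowers_le, Subgroup.mem_centralizer_iff]
        intro y hy
        rw [Set.mem_singleton_iff] at hy
        rw [hy]
        exact (Subgroup.mem_centralizer_iff.mp hx.1.2 w₁ rfl).symm
      · rw [Subgroup.zpowers_le, Subgroup.mem_centralizer_iff]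
        intro y hy
        rw [Set.mem_singleton_iff] at hy
        rw [hy]
        exact (Subgroup.mem_centralizer_iff.mp hx.2 w₂ rfl).symm
    intro w hw
    exact (Subgroup.mem_centralizer_iff.mp (hcx hw) x rfl).symm
  have hXcard : Nat.card X ≤ p * (p * p * Nat.card D) := by
    calc Nat.card X = Nat.card (⊤ : Subgroup X) := Subgroup.card_top.symm
      _ ≤ Nat.card ↥(Ω ⊓ D) * Nat.card ↥(⊤ ⊓ Subgroup.centralizer {w₁}) := hf1
      _ ≤ p * (Nat.card L * Nat.card ↥((⊤ ⊓ Subgroup.centralizer {w₁}) ⊓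
            Subgroup.centralizer {w₂})) := by
          rw [hZcard]
          exact Nat.mul_le_mul_left _ hf2
      _ ≤ p * (p * p * Nat.card D) := by
          rw [hLc]
          exact Nat.mul_le_mul_left _ (Nat.mul_le_mul_left _ (Subgroup.card_le_of_le hle3))
  -- the subgroup `M = Ω ⊔ D`
  have hMcard : Nat.card ↥(Ω ⊔ D) = Nat.card D * (p * p) := by
    have h1 : D.relIndex (Ω ⊔ D) = D.relIndex Ω := Subgroup.relIndex_sup_right Ω D
    have h2 : (Ω ⊓ D).relIndex Ω = D.relIndex Ω := Subgroup.inf_relIndex_left Ω D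
    have h3 := Subgroup.relIndex_mul_relIndex ⊥ (Ω ⊓ D) Ω bot_le inf_le_left
    rw [Subgroup.relIndex_bot_left, Subgroup.relIndex_bot_left, hZcard, hcard] at h3
    have h4 : (Ω ⊓ D).relIndex Ω = p * p := by
      apply Nat.eq_of_mul_eq_mul_left hpp.pos
      rw [h3]
      ring
    have h5 := Subgroup.relIndex_mul_relIndex ⊥ D (Ω ⊔ D) bot_le le_sup_right
    rw [Subgroup.relIndex_bot_left, Subgroup.relIndex_bot_left, h1, ← h2, h4] at h5
    exact h5.symm
  have hΩmap : ∀ α : MulAut X, Ω.map α.toMonoidHom = Ω := by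
    intro α
    ext y
    constructor
    · rintro ⟨z, hz, rfl⟩
      exact (hΩinv α z).mp hz
    · intro hy
      exact ⟨α⁻¹ y, (hΩinv α⁻¹ y).mp hy, MulEquiv.apply_symm_apply α y⟩
  have hDmap : ∀ α : MulAut X, D.map α.toMonoidHom = D := by
    intro α
    ext y
    constructor
    · rintro ⟨z, hz, rfl⟩
      exact (hDinv α z).mp hz
    · intro hy
      exact ⟨α⁻¹ y, (hDinv α⁻¹ y).mp hy, MulEquiv.apply_symm_apply α y⟩
  have hΩchar : Ω.Characteristic := Subgroup.characteristic_iff_map_eq.mpr hΩmap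
  have hMchar : (Ω ⊔ D).Characteristic := by
    rw [Subgroup.characteristic_iff_map_eq]
    intro α
    rw [Subgroup.map_sup, hΩmap α, hDmap α]
  -- `β` acts trivially on `X / M`
  have hstepM : ∀ x : X, x⁻¹ * β x ∈ Ω ⊔ D := by
    intro x
    by_cases hMtop : Ω ⊔ D = ⊤
    · rw [hMtop]
      exact Subgroup.mem_top _
    · have hidx : Nat.card (X ⧸ (Ω ⊔ D)) = p := by
        have h1 := Subgroup.card_mul_index (Ω ⊔ D)
        have h2 : (Ω ⊔ D).index = Nat.card (X ⧸ (Ω ⊔ D)) := rfl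
        have hlt : Ω ⊔ D < ⊤ := lt_top_iff_ne_top.mpr hMtop
        have h3 := card_lt hX hlt
        rw [Subgroup.card_top] at h3
        have h4 : Nat.card X = p * Nat.card ↥(Ω ⊔ D) := by
          apply le_antisymm _ h3
          rw [hMcard]
          calc Nat.card X ≤ p * (p * p * Nat.card D) := hXcard
            _ = p * (Nat.card D * (p * p)) := by ring
        rw [← h2]
        have h5 : Nat.card ↥(Ω ⊔ D) * (Ω ⊔ D).index = Nat.card ↥(Ω ⊔ D) * p := by
          rw [h1, h4, mul_comm]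
        exact Nat.eq_of_mul_eq_mul_left Nat.card_pos h5
      have h6 : Cfsg.Agent.Lib.Helper9.Rank2Aut.quotAut (Ω ⊔ D) β = 1 :=
        aut_trivial_of_card_prime hidx _
          (Nat.Coprime.coprime_dvd_left (orderOf_map_dvd _ β) hβ2)
      have h7 := Cfsg.Agent.Lib.Helper9.Rank2Aut.quotAut_apply (Ω ⊔ D) β x
      rw [h6] at h7
      have h8 : ((x : X) : X ⧸ (Ω ⊔ D)) = ((β x : X) : X ⧸ (Ω ⊔ D)) := h7
      exact QuotientGroup.eq.mp h8
  -- finish in `X / Ω`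
  intro x
  have hm := hstepM x
  have hm2 : (x⁻¹ * β x)⁻¹ * β (x⁻¹ * β x) ∈ Ω := by
    obtain ⟨w, hw, d, hd, hwd⟩ : ∃ w ∈ Ω, ∃ d ∈ D, w * d = x⁻¹ * β x := by
      have h1 : (x⁻¹ * β x) ∈ ((Ω ⊔ D : Subgroup X) : Set X) := hm
      rw [Subgroup.normal_mul] at h1
      exact Set.mem_mul.mp h1
    rw [← hwd, map_mul, hβD d hd]
    have h2 : (w * d)⁻¹ * (β w * d) = d⁻¹ * (w⁻¹ * β w) * d⁻¹⁻¹ := by group
    rw [h2]
    exact hΩn.conj_mem _ (Ω.mul_mem (Ω.inv_mem hw) ((hΩinv β w).mp hw)) d⁻¹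
  have h9 := fix_of_stab (hX.to_quotient Ω) (Cfsg.Agent.Lib.Helper9.Rank2Aut.quotAut Ω β)
    (Nat.Coprime.coprime_dvd_left (orderOf_map_dvd _ β) hβ1) (x : X ⧸ Ω) (by
      rw [Cfsg.Agent.Lib.Helper9.Rank2Aut.quotAut_apply, ← QuotientGroup.mk_inv,
        ← QuotientGroup.mk_mul, Cfsg.Agent.Lib.Helper9.Rank2Aut.quotAut_apply]
      symm
      exact QuotientGroup.eq.mpr hm2)
  rw [Cfsg.Agent.Lib.Helper9.Rank2Aut.quotAut_apply] at h9
  exact QuotientGroup.eq.mp h9.symm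

end Cfsg.Agent.Lib.Helper9.Narrow6
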