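import Mathlib
import Cfsg.Prelude.Def_OddOrderLocal

set_option autoImplicit false

/-!
# S1351 gap, CASE (i) and the shared base facts: statements of the pieces (helper9)

Goal `NoCaseI`: `M` maximal, `E` a complement of `M_σ`, `R0 ≤ E'` of prime order `r ∈ κ(M)`,
`z ∈ E` of prime order `q ∈ κ(M)` NOT centralizing `R0`: contradiction.

Route (helper22's Lemma X / Theorem Y, board #5100):
* BASE (`HS M R0 H r`: `H` maximal over `N_G(R0)`, `r ∈ σ(H)` by `L3`): `σ(M) ∩ σ(H) = ∅`,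
  `M_σ ∩ H = C := C_{M_σ}(R0)`, primes of `C` in `κ(H)`, `C_G(c) ≤ M`, `C_G(d) ≤ H`,
  `C_{M_σ}(d) = C`, `C_{H_σ}(c) = M ∩ H_σ`  (`c ∈ C#`, `d ∈ (M ∩ H_σ)#`).
* LEMMA X (`XT L F z q`: `F` a complement of `L_σ`, `z ∈ F` of prime order `q ∈ τ₁(L)`,
  `C_{L_σ}(z) ≠ 1`): with `C1 = C_{L_σ}(z)`, `B0 = C_F(z)`, `T = {c b : c ∈ C1#, b ∈ B0, q ∣ o(b)}`,
  the conjugates of `T` are more than `|G|/2` elements.
* THEOREM Y: two such triples for `L`, `L'` with `σ(L) ∩ σ(L') = ∅` ⟹ some prime of `σ(L')`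
  divides `|C_F(z)|`.
* APPLICATION: `(M, E, z)` is a triple; `H` carries a triple; but no prime of `σ(H)` divides
  `|C_E(z)|`.

Landed tools (all hypothesis-free): `Cfsg.Agent.Lib.Helper73.BG143Final.{claimC, noKT, memKappa,
primes, r2, frob}` (Props in `Helper73.BG143Stmt`), `Cfsg.Agent.S1404/S1409/S1415/S1417/S1418/
S1420/S1427/S1428/S1378/S1350.result`, `Cfsg.Agent.Lib.Helper63.S28FR.main` (Lemma FR),
`Cfsg.Agent.Lib.Helper24.S52NORM.main`, `Cfsg.Agent.Lib.Helper76.S52CNE.main`,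
`Helper47/Helper8 S52YEX.main`, the `S52Stmt` pieces (`NoTau2`, ...), `Cfsg.Agent.Lib.Helper54.
S52FROB.main` (model proof for `IFix`), `Cfsg.Agent.Lib.Helper9.BG11b.{sigmaCore_le,
sigmaCore_normal, le_sigmaCore_of_isPGroup, mem_sigma_of_dvd, sigma_cj, not_dvd_sigmaCore,
normalizer_ne_top}`, `Cfsg.Agent.Lib.Helper22.BG1210.coprime_card_sigmaCore`,
`Cfsg.Agent.Lib.Helper70.BG11Hb.coprime_card_sigmaCore`, `Cfsg.Agent.Lib.Helper23.BG1361.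
exists_compl_ge`, `Cfsg.Agent.Lib.Helper60.BG14SIGDEC.pRankLE_one_of_kappa`,
`Cfsg.Agent.Lib.Helper9.BG10c.isCyclic_of_pRankLE_one`, the S1367/S1368 pieces
(`Helper63.S67Stmt.Rank2`, `Helper22.S68FUS`, `Helper11.S68CARDZ` as models).
-/

namespace Cfsg.Agent.Lib.Helper9.S51IStmt

universe u

/-! ## Notation -/

/-- `C_{L_σ}(z)`. -/
abbrev Cz {G : Type u} [Group G] (L : Subgroup G) (z : G) : Subgroup G :=
  Cfsg.sigmaCore L ⊓ Subgroup.centralizer ({z} : Set G)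

/-- `C_F(z)`. -/
abbrev Bz {G : Type u} [Group G] (F : Subgroup G) (z : G) : Subgroup G :=
  F ⊓ Subgroup.centralizer ({z} : Set G)

/-- `C_{M_σ}(R0)`. -/
abbrev CR {G : Type u} [Group G] (M R0 : Subgroup G) : Subgroup G :=
  Cfsg.sigmaCore M ⊓ Subgroup.centralizer (R0 : Set G)

/-- `T = {c b : c ∈ C1 ∖ 1, b ∈ B0, q ∣ o(b)}`. -/
def TS {G : Type u} [Group G] (C1 B0 : Subgroup G) (q : ℕ) : Set G :=
  {a | ∃ c ∈ C1, c ≠ 1 ∧ ∃ b ∈ B0, q ∣ orderOf b ∧ a = c * b}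

/-- All conjugates of the elements of `T`. -/
def ConjS {G : Type u} [Group G] (T : Set G) : Set G :=
  {y | ∃ a ∈ T, ∃ g : G, y = g * a * g⁻¹}

/-- A triple of Lemma X. -/
structure XT {G : Type u} [Group G] (L F : Subgroup G) (z : G) (q : ℕ) : Prop where
  hL : IsCoatom L
  hF : Cfsg.IsComplIn F (Cfsg.sigmaCore L) L
  hz : z ∈ F
  hzo : orderOf z = q
  hq : q ∈ Cfsg.tau1 L
  hne : Cfsg.sigmaCore L ⊓ Subgroup.centralizer ({z} : Set G) ≠ ⊥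

/-- The base setting: `r ∈ κ(M)`, `R0 ≤ M` of order `r`, `H` maximal over `N_G(R0)`,
`r ∈ σ(H)`. -/
structure HS {G : Type u} [Group G] (M R0 H : Subgroup G) (r : ℕ) : Prop where
  hM : IsCoatom M
  hr : r ∈ Cfsg.kappa M
  hR0M : R0 ≤ M
  hR0c : Nat.card R0 = r
  hH : IsCoatom H
  hN : Subgroup.normalizer (R0 : Set G) ≤ H
  hrH : r ∈ Cfsg.sigma H

/-- The case (i) configuration. -/
structure CI {G : Type u} [Group G] (M E R0 : Subgroup G) (r q : ℕ) (z : G) : Prop where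
  hM : IsCoatom M
  hE : Cfsg.IsComplIn E (Cfsg.sigmaCore M) M
  hr : r ∈ Cfsg.kappa M
  hR0c : Nat.card R0 = r
  hR0 : R0 ≤ ⁅E, E⁆
  hq : q ∈ Cfsg.kappa M
  hz : z ∈ E
  hzo : orderOf z = q
  hmv : ¬ ∀ u ∈ R0, z * u = u * z

/-! ## BASE pieces -/

/-- L3 (helper73, board #4393): `r ∈ κ(M)`, `R0 ≤ M` of order `r`, `H` maximal over `N_G(R0)`
⟹ `r ∈ σ(H)`.  (Suppose not; `Helper63.S67Stmt.Rank2`: `r ∈ τ₂(H)`.  `C := C_{M_σ}(R0) ≠ 1`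
(`S52CNE`), `c ∈ C` of prime order `t ∈ σ(M)`, `C_G(c) ≤ M` (`claimC` for `M`, `x := c`,
`x' :=` a generator of `R0`).  `H` is not conjugate to `M` (`r`-rank 2 vs 1), so `t ∉ σ(H)`
(S1378).  `F ⊇ ⟨c⟩ R0` a complement of `H_σ` (`exists_compl_ge`), `A ≤ F` elementary abelian of
order `r²` (`Helper22.BG12CC.exists_elemAb_sq_le_compl`); S1418: `A ⊴ F`, `R0 ≤ A`,
`N_G(A) ⊄ H`; S1417: `H_σ` nilpotent.  `c` does not centralize `A` (else `A ≤ C_G(c) ≤ M`,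
`r`-rank of `M` is 1).  `BG143Final.split`: `A = Z0 × R0`, `c` fixed-point-free on `Z0`,
`C_A(c) = R0`.  `C_{H_σ}(c) = 1`: `t ∉ κ(H)` by `noKT`; if `PRankLE t 1 H` this is `memKappa`;
otherwise `t ∈ τ₂(H)` (`r2`) and a fixed point would make `H` the only maximal subgroup over
`C_G(c) ≤ M` (S1420 clause 4).  Sylow `r` of `G` nonabelian: S1419: every `X ≠ A ∩ C(H_σ)` of
order `r` in `F` has `C_{H_σ}(X) = 1` and `C_G(X) ⊄ H`; as `C_G(R0) ≤ H`, `R0 = A ∩ C(H_σ)`,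
`C_{H_σ}(Z0) = 1`; `frob` (`V :=` centre of `H_σ` (`zNil`), `X₂ := Z0`, `Q := ⟨c⟩`) gives
`C_V(c) ≠ 1`: contradiction.  Sylow `r` abelian: `Helper63.S67ABNORM`: `N_G(A)` normalizes
`C_A(c) = R0`, `N_G(A) ≤ N_G(R0) ≤ H`, against S1418.)  Compare `Helper63.S67Stmt.Tail`. -/
def L3 : Prop :=
  ∀ {G : Type u} [Group G] [Finite G], Cfsg.IsMinSimpleOddOrder G →
  ∀ (M R0 H : Subgroup G) (r : ℕ), IsCoatom M → r ∈ Cfsg.kappa M → R0 ≤ M → Nat.card R0 = r →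
    IsCoatom H → Subgroup.normalizer (R0 : Set G) ≤ H → r ∈ Cfsg.sigma H

/-- SDJ: `σ(M) ∩ σ(H) = ∅` in the base setting.  (If `p` is in both, S1378 gives
`H = gMg⁻¹`, `σ(H) = σ(M)` (`sigma_cj`); but `r ∈ σ(H)` and `r ∉ σ(M)` (`r ∈ κ(M)`).) -/
def SDj : Prop :=
  ∀ {G : Type u} [Group G] [Finite G], Cfsg.IsMinSimpleOddOrder G →
  ∀ (M R0 H : Subgroup G) (r : ℕ), HS M R0 H r → ∀ p : ℕ, p ∈ Cfsg.sigma M → p ∉ Cfsg.sigma H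

/-- GEN3 (general): `M`, `H` maximal with `σ(M) ∩ σ(H) = ∅`: `M_σ ∩ H` and `M ∩ H_σ` commute
elementwise.  (`a ∈ M_σ ∩ H`, `d ∈ M ∩ H_σ`: `a d a⁻¹ d⁻¹ ∈ M_σ` (`d` normalizes `M_σ`) and
`∈ H_σ` (`a` normalizes `H_σ`); `|M_σ|`, `|H_σ|` are coprime (a common prime would be in
`σ(M) ∩ σ(H)`, `S68TI.piCore_pi` / `mem_sigma_of_dvd`), so `M_σ ∩ H_σ = 1`.) -/
def Gen3 : Prop :=
  ∀ {G : Type u} [Group G] [Finite G], Cfsg.IsMinSimpleOddOrder G →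
  ∀ (M H : Subgroup G), IsCoatom M → IsCoatom H →
    (∀ p : ℕ, p ∈ Cfsg.sigma M → p ∉ Cfsg.sigma H) →
    ∀ a ∈ Cfsg.sigmaCore M ⊓ H, ∀ d ∈ M ⊓ Cfsg.sigmaCore H, a * d = d * a

/-- MH: `M_σ ∩ H = C_{M_σ}(R0)`.  (`⊇`: `C_G(R0) ≤ N_G(R0) ≤ H`.  `⊆`: `R0 ≤ M ∩ H_σ`
(`R0 ≤ H` is an `r`-group, `r ∈ σ(H)`: `le_sigmaCore_of_isPGroup`), then GEN3 + SDJ.) -/
def MH : Prop :=
  ∀ {G : Type u} [Group G] [Finite G], Cfsg.IsMinSimpleOddOrder G →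
  ∀ (M R0 H : Subgroup G) (r : ℕ), HS M R0 H r → Cfsg.sigmaCore M ⊓ H = CR M R0

/-- CENTC: `C_G(c) ≤ M` for `1 ≠ c ∈ C_{M_σ}(R0)`.  (`claimC` for `M`, `x := c`, `x' :=` a
generator of `R0`, of prime order `r ∈ κ(M)`.) -/
def CentC : Prop :=
  ∀ {G : Type u} [Group G] [Finite G], Cfsg.IsMinSimpleOddOrder G →
  ∀ (M R0 H : Subgroup G) (r : ℕ), HS M R0 H r → ∀ c ∈ CR M R0, c ≠ 1 →
    Subgroup.centralizer ({c} : Set G) ≤ M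

/-- L4: every element of prime order of `C_{M_σ}(R0)` has its order in `κ(H)`.  (`c ∈ H`;
`t := o(c)` divides `|M_σ|`, so `t ∈ σ(M)`, `t ∉ σ(H)` (SDJ); `u` a generator of `R0`,
`u ∈ H_σ`, `u ≠ 1`, `c u = u c`; `BG143Final.primes` for `(H, u, c, t)`: `t ∈ κ(H)` or
`t ∈ τ₂(H)`; in the second case S1420 (clause 4) makes `H` the only maximal subgroup over
`C_G(c)`, but `C_G(c) ≤ M` (CENTC), so `M = H`, `r ∈ σ(M)`: absurd.) -/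
def L4 : Prop :=
  ∀ {G : Type u} [Group G] [Finite G], Cfsg.IsMinSimpleOddOrder G →
  ∀ (M R0 H : Subgroup G) (r : ℕ), HS M R0 H r → ∀ c ∈ CR M R0, (orderOf c).Prime →
    orderOf c ∈ Cfsg.kappa H

/-- CENTD: `C_G(d) ≤ H` for `1 ≠ d ∈ M ∩ H_σ`.  (`C_{M_σ}(R0) ≠ 1` (`S52CNE`), `c` in it of
prime order (Cauchy), `o(c) ∈ κ(H)` (L4), `c ∈ H` and `c d = d c` (MH + GEN3 + SDJ): `claimC`
for `H`, `x := d`, `x' := c`.) -/
def CentD : Prop :=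
  ∀ {G : Type u} [Group G] [Finite G], Cfsg.IsMinSimpleOddOrder G →
  ∀ (M R0 H : Subgroup G) (r : ℕ), HS M R0 H r → ∀ d ∈ M ⊓ Cfsg.sigmaCore H, d ≠ 1 →
    Subgroup.centralizer ({d} : Set G) ≤ H

/-- FIXD: `C_{M_σ}(d) = C_{M_σ}(R0)` for `1 ≠ d ∈ M ∩ H_σ`.  (`⊇`: MH + GEN3 + SDJ.
`⊆`: `C_G(d) ≤ H` (CENTD), so `C_{M_σ}(d) ≤ M_σ ∩ H = C_{M_σ}(R0)` (MH).) -/
def FixD : Prop :=
  ∀ {G : Type u} [Group G] [Finite G], Cfsg.IsMinSimpleOddOrder G →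
  ∀ (M R0 H : Subgroup G) (r : ℕ), HS M R0 H r → ∀ d ∈ M ⊓ Cfsg.sigmaCore H, d ≠ 1 →
    Cfsg.sigmaCore M ⊓ Subgroup.centralizer ({d} : Set G) = CR M R0

/-- FIXC: `C_{H_σ}(c) = M ∩ H_σ` for `1 ≠ c ∈ C_{M_σ}(R0)`.  (`⊇`: `c ∈ M_σ ∩ H` (MH), GEN3 +
SDJ.  `⊆`: `C_G(c) ≤ M` (CENTC).) -/
def FixC : Prop :=
  ∀ {G : Type u} [Group G] [Finite G], Cfsg.IsMinSimpleOddOrder G →
  ∀ (M R0 H : Subgroup G) (r : ℕ), HS M R0 H r → ∀ c ∈ CR M R0, c ≠ 1 →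
    Cfsg.sigmaCore H ⊓ Subgroup.centralizer ({c} : Set G) = M ⊓ Cfsg.sigmaCore H

/-! ## LEMMA X pieces -/

/-- XCENT: `C_F(z)` centralizes `C_{L_σ}(z)`.  (`q ∈ κ(L)` (`memKappa`).  Enough: every `b` of
prime power order `t^m` in `C_F(z)` centralizes `C1` (a general `b` is a product of powers of
`b` of prime power order, all in `C_F(z)`).  `b₀ := b^(t^(m-1))` has order `t`; `t ∉ σ(L)`
(`b ∈ F`); `t ∉ τ₂(L)` (`noKT` with `x := b₀`, `x' := z`), so `PRankLE t 1 L` (`r2`) and the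
Sylow `t`-subgroup `S ∋ b` of `F` is cyclic (`BG10c.isCyclic_of_pRankLE_one`).  S1428 with
`p := q`, `P := ⟨z⟩`, `R := ⟨b₀⟩`: `C1 ≤ C_{L_σ}(b₀)`; S1427 for `S`:
`C_{L_σ}(b₀) = C_{L_σ}(S) ≤ C(b)`.) -/
def XCent : Prop :=
  ∀ {G : Type u} [Group G] [Finite G], Cfsg.IsMinSimpleOddOrder G →
  ∀ (L F : Subgroup G) (z : G) (q : ℕ), XT L F z q →
    ∀ c ∈ Cz L z, ∀ b ∈ Bz F z, c * b = b * c

/-- XNORM: `N_L(⟨z⟩) = C_L(z)`.  (`g z g⁻¹ = z^k`; `g z g⁻¹ z⁻¹ = z^(k-1) ∈ ⁅L, L⁆` has order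
`1` or `q`; `q ∤ |⁅L, L⁆|` (`q ∈ τ₁(L)`), so it is `1`.) -/
def XNorm : Prop :=
  ∀ {G : Type u} [Group G] [Finite G], Cfsg.IsMinSimpleOddOrder G →
  ∀ (L F : Subgroup G) (z : G) (q : ℕ), XT L F z q →
    ∀ g ∈ L, g * z * g⁻¹ ∈ Subgroup.zpowers z → g * z = z * g

/-- XORDQ: an element of order `q` of `L` commuting with `z` lies in `⟨z⟩`.  (Otherwise
`⟨z⟩ × ⟨b⟩` is elementary abelian of order `q²` in `L`, against `PRankLE q 1 L`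
(`q ∈ τ₁(L)`).) -/
def XOrdQ : Prop :=
  ∀ {G : Type u} [Group G] [Finite G], Cfsg.IsMinSimpleOddOrder G →
  ∀ (L F : Subgroup G) (z : G) (q : ℕ), XT L F z q →
    ∀ b ∈ L, orderOf b = q → b * z = z * b → b ∈ Subgroup.zpowers z

/-- XSPLIT: `C_L(z) = C_{L_σ}(z) C_F(z)`.  (`g = f s`, `f ∈ F`, `s ∈ L_σ` (`hF`);
`g z g⁻¹ = z` gives `s z s⁻¹ = f⁻¹ z f`, so `(s z s⁻¹) z⁻¹ = (f⁻¹ z f) z⁻¹`; the left side is in
`L_σ` (`z` normalizes `L_σ`), the right side in `F` (`z ∈ F`), and `F ∩ L_σ = 1`: `s z = z s`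
and `f z = z f`.  Then `g = f s ∈ C_F(z) ⊔ C_{L_σ}(z)`.) -/
def XSplit : Prop :=
  ∀ {G : Type u} [Group G] [Finite G], Cfsg.IsMinSimpleOddOrder G →
  ∀ (L F : Subgroup G) (z : G) (q : ℕ), XT L F z q →
    ∀ g ∈ L, g * z = z * g → g ∈ Cz L z ⊔ Bz F z

/-- XFUSL: `a, g a g⁻¹ ∈ T` ⟹ `g ∈ L`.  (`a = c b` commuting (XCENT), `n := |F|`:
`a^n = c^n =: x ≠ 1` (`gcd(n, o(c)) = 1`, `coprime_card_sigmaCore`), `x ∈ C1`;
`g x g⁻¹ = (g a g⁻¹)^n = c'^n ∈ L_σ ≤ L`.  `x₀` a power of `x` of prime order `p`, `p ∈ σ(L)`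
(`mem_sigma_of_dvd`); S1404 for `X = ⟨x₀⟩`: `g = m c₀`, `c₀ ∈ C_G(x₀) ≤ L` by `claimC`
(`x₀ ∈ L_σ`, `x' := z` of prime order `q ∈ κ(L)` (`memKappa`), `z x₀ = x₀ z`).  Model:
`Helper22.S68FUS`.) -/
def XFusL : Prop :=
  ∀ {G : Type u} [Group G] [Finite G], Cfsg.IsMinSimpleOddOrder G →
  ∀ (L F : Subgroup G) (z : G) (q : ℕ), XT L F z q →
    ∀ a ∈ TS (Cz L z) (Bz F z) q, ∀ g : G, g * a * g⁻¹ ∈ TS (Cz L z) (Bz F z) q → g ∈ L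

/-- XFUSZ: `a, g a g⁻¹ ∈ T` ⟹ `g z g⁻¹ ∈ ⟨z⟩`.  (`a = c b` commuting (XCENT) of coprime
orders, `q ∣ o(b)`; `e := o(c) · (o(b) / q)`: `a^e = b^e` has order `q`, lies in `C_F(z)`, so
`a^e = z^i ≠ 1` (XORDQ).  Likewise `(g a g⁻¹)^e' = z^j ≠ 1` with `e'` built from
`g a g⁻¹ = c' b'`; both `a^e` and `g⁻¹ z^j g` are elements of order `q` of the cyclic group
`⟨a⟩`, so `⟨z⟩ = ⟨a^e⟩ = g⁻¹ ⟨z⟩ g`.) -/
def XFusZ : Prop :=
  ∀ {G : Type u} [Group G] [Finite G], Cfsg.IsMinSimpleOddOrder G →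
  ∀ (L F : Subgroup G) (z : G) (q : ℕ), XT L F z q →
    ∀ a ∈ TS (Cz L z) (Bz F z) q, ∀ g : G, g * a * g⁻¹ ∈ TS (Cz L z) (Bz F z) q →
      g * z * g⁻¹ ∈ Subgroup.zpowers z

/-- XPURE (pure group theory, helper22): `C1`, `B0` commute elementwise, coprime orders, `z`
central in `B0` of prime order `q`, fusion of `T` controlled by `C1 B0`.  Then
`(|C1| - 1)(q - 1)|G| ≤ |C1| q |ConjS T|`.  (`C1 ∩ B0 = 1`, `|C1 ⊔ B0| = |C1||B0|`;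
`(c, b) ↦ c b` is injective, `|T| = (|C1| - 1) · #{b ∈ B0 : q ∣ o(b)}`; the `q'`-elements `X` of
`B0` satisfy `q |X| ≤ |B0|` (`(x, i) ↦ x z^i` injective on `X × ZMod q`), so
`q · #{q ∣ o(b)} ≥ (q - 1)|B0|`; `(gN, a) ↦ g a g⁻¹` (coset representatives, `N = C1 ⊔ B0`) is
injective on `(G ⧸ N) × T`, so `|ConjS T| ≥ |G : N| |T|`.  Model: `Helper11.S68CARDZ`.) -/
def XPure : Prop :=
  ∀ {G : Type u} [Group G] [Finite G] (C1 B0 : Subgroup G) (z : G) (q : ℕ), q.Prime →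
    (∀ c ∈ C1, ∀ b ∈ B0, c * b = b * c) → (Nat.card C1).Coprime (Nat.card B0) →
    z ∈ B0 → orderOf z = q → (∀ b ∈ B0, z * b = b * z) →
    (∀ a ∈ TS C1 B0 q, ∀ g : G, g * a * g⁻¹ ∈ TS C1 B0 q → g ∈ C1 ⊔ B0) →
    (Nat.card C1 - 1) * (q - 1) * Nat.card G ≤ Nat.card C1 * q * Set.ncard (ConjS (TS C1 B0 q))

/-- XMAIN: Lemma X.  (XPURE for `C1 = C_{L_σ}(z)`, `B0 = C_F(z)`: commuting by XCENT, coprime
orders (`|C1|` divides `|L_σ|`, `|B0|` divides `|F|`, `coprime_card_sigmaCore` / S1350), `z`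
central in `B0` by definition, fusion: `g ∈ L` (XFUSL), `g z g⁻¹ ∈ ⟨z⟩` (XFUSZ), `g z = z g`
(XNORM), `g ∈ C1 ⊔ B0` (XSPLIT).) -/
def XMain : Prop :=
  ∀ {G : Type u} [Group G] [Finite G], Cfsg.IsMinSimpleOddOrder G →
  ∀ (L F : Subgroup G) (z : G) (q : ℕ), XT L F z q →
    (Nat.card ↥(Cz L z) - 1) * (q - 1) * Nat.card G ≤
      Nat.card ↥(Cz L z) * q * Set.ncard (ConjS (TS (Cz L z) (Bz F z) q))

/-- XHALF: the conjugates of `T` are more than half of `G`.  (XMAIN; `c := |C1| ≥ 3` and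
`q ≥ 3` are odd (`|G|` odd) and coprime (`q ∉ σ(L)`, `c ∣ |L_σ|`), so not both `3`:
`(c - 2)(q - 2) ≥ 3`, i.e. `2 (c - 1)(q - 1) > c q`.) -/
def XHalf : Prop :=
  ∀ {G : Type u} [Group G] [Finite G], Cfsg.IsMinSimpleOddOrder G →
  ∀ (L F : Subgroup G) (z : G) (q : ℕ), XT L F z q →
    Nat.card G < 2 * Set.ncard (ConjS (TS (Cz L z) (Bz F z) q))

/-- THMY: Theorem Y.  (XHALF twice: the two `ConjS` meet: `g a g⁻¹ = g' a' g'⁻¹`,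
`a = c b ∈ T`, `a' = c' b' ∈ T'` (both commuting by XCENT).  `n := |F'|`:
`a'^n = c'^n ≠ 1`, so `v := a^n = h c'^n h⁻¹ ≠ 1` has order dividing `|L'_σ|`; a prime `p` of
`o(v)` is in `σ(L')` (`mem_sigma_of_dvd`), so `p ∉ σ(L)`, `p ∤ o(c)` (`o(c) ∣ |L_σ|`,
`not_dvd_sigmaCore`); `p ∣ o(a) ∣ o(c) o(b)`, so `p ∣ o(b) ∣ |C_F(z)|`.) -/
def ThmY : Prop :=
  ∀ {G : Type u} [Group G] [Finite G], Cfsg.IsMinSimpleOddOrder G →
  ∀ (L F : Subgroup G) (z : G) (q : ℕ) (L' F' : Subgroup G) (z' : G) (q' : ℕ),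
    XT L F z q → XT L' F' z' q' → (∀ p : ℕ, p ∈ Cfsg.sigma L → p ∉ Cfsg.sigma L') →
    ∃ p : ℕ, p.Prime ∧ p ∈ Cfsg.sigma L' ∧ p ∣ Nat.card ↥(Bz F z)

/-! ## CASE (i) pieces -/

/-- ITAU1: in case (i), `q ∈ τ₁(M)`.  (`q ∈ κ(M)`: prime, `∉ σ(M)`, divides `|M|`,
`PRankLE q 1 M` (`pRankLE_one_of_kappa`).  Suppose `q ∣ |⁅M, M⁆|`.  Then `q ∣ |⁅E, E⁆|`
(`⁅M, M⁆ ≤ M_σ ⁅E, E⁆` as `M = E M_σ`, `M_σ ⊴ M`; `q ∤ |M_σ|`).  `⁅E, E⁆` is nilpotent (S1415)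
and abelian (S1420), normal in `E`; its Sylow `q`-subgroup `Q'` is normal in `E`, so lies in
every Sylow `q`-subgroup of `E`; these are cyclic, so the subgroup of order `q` of the Sylow
`q`-subgroup containing `z` is `⟨z⟩` and lies in `Q'`: `z ∈ ⁅E, E⁆`, which is abelian and
contains `R0`: `z` centralizes `R0`, against `hmv`.) -/
def ITau1 : Prop :=
  ∀ {G : Type u} [Group G] [Finite G], Cfsg.IsMinSimpleOddOrder G →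
  ∀ (M E R0 : Subgroup G) (r q : ℕ) (z : G), CI M E R0 r q z → q ∈ Cfsg.tau1 M

/-- IFIX: in case (i), `C_{M_σ}(z) ⊄ C_{M_σ}(R0)`.  (Copy `Helper54.S52FROB.main`: `R0 ⊴ E`
(`S52NORM`); if `C_{M_σ}(z) ≤ C(R0)`, Lemma FR (`Q := R0`, `R := ⟨z⟩`, `N := M_σ`) gives
`M_σ ≤ C(R0)`, `M ≤ N(R0)`, against S1409.) -/
def IFix : Prop :=
  ∀ {G : Type u} [Group G] [Finite G], Cfsg.IsMinSimpleOddOrder G →
  ∀ (M E R0 : Subgroup G) (r q : ℕ) (z : G), CI M E R0 r q z →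
    ¬ ∀ n ∈ Cfsg.sigmaCore M, z * n = n * z → ∀ u ∈ R0, u * n = n * u

/-- IDFREE: in case (i), `z` is fixed-point-free on `D = E ∩ H_σ`.  (`d ≠ 1` in `D` with
`z d = d z`; `d₀` a power of `d` of prime order.  S1428 (`p := q ∈ τ₁(M)` by ITAU1,
`P := ⟨z⟩`, `R := ⟨d₀⟩`): `C_{M_σ}(z) ≤ C_{M_σ}(d₀) = C_{M_σ}(R0)` (FIXD), against IFIX.) -/
def IDfree : Prop :=
  ∀ {G : Type u} [Group G] [Finite G], Cfsg.IsMinSimpleOddOrder G →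
  ∀ (M E R0 H : Subgroup G) (r q : ℕ) (z : G), CI M E R0 r q z → HS M R0 H r →
    ∀ d ∈ E ⊓ Cfsg.sigmaCore H, z * d = d * z → d = 1

/-- IQH: in case (i), `q ∉ σ(H)`.  (`R0 ⊴ E` (`S52NORM`), so `z ∈ E ≤ N_G(R0) ≤ H`; if
`q ∈ σ(H)` then `z ∈ H_σ` (`le_sigmaCore_of_isPGroup`), `z ∈ E ∩ H_σ` commutes with itself:
`z = 1` by IDFREE.) -/
def IqH : Prop :=
  ∀ {G : Type u} [Group G] [Finite G], Cfsg.IsMinSimpleOddOrder G →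
  ∀ (M E R0 H : Subgroup G) (r q : ℕ) (z : G), CI M E R0 r q z → HS M R0 H r →
    q ∉ Cfsg.sigma H

/-- INOSIG: in case (i), no prime of `σ(H)` divides `|C_E(z)|`.  (Cauchy: `x ∈ C_E(z)` of order
`p`; `x ∈ E ≤ H` (`S52NORM`), `p ∈ σ(H)`: `x ∈ H_σ`; IDFREE: `x = 1`.) -/
def INoSig : Prop :=
  ∀ {G : Type u} [Group G] [Finite G], Cfsg.IsMinSimpleOddOrder G →
  ∀ (M E R0 H : Subgroup G) (r q : ℕ) (z : G), CI M E R0 r q z → HS M R0 H r →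
    ∀ p : ℕ, p.Prime → p ∈ Cfsg.sigma H → ¬ p ∣ Nat.card ↥(Bz E z)

/-- IFEX: a complement `F` of `H_σ` in `H` containing `z` and `C = C_{M_σ}(R0)`.
(`X := C ⊔ ⟨z⟩ ≤ H` (`z ∈ E ≤ N(R0) ≤ H`, `C ≤ C_G(R0) ≤ H`); `z` normalizes `C`, so `|X|`
divides `|C| q`, prime to `|H_σ|` (SDJ for `|C| ∣ |M_σ|`; IQH); `exists_compl_ge`.) -/
def IFEx : Prop :=
  ∀ {G : Type u} [Group G] [Finite G], Cfsg.IsMinSimpleOddOrder G →
  ∀ (M E R0 H : Subgroup G) (r q : ℕ) (z : G), CI M E R0 r q z → HS M R0 H r →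
    ∃ F : Subgroup G, Cfsg.IsComplIn F (Cfsg.sigmaCore H) H ∧ z ∈ F ∧ CR M R0 ≤ F

/-- IALPHA: if `c ∈ C` has prime order in `τ₁(H)`, then `(H, F, c)` is a triple.
(`hne`: a generator `u` of `R0` lies in `H_σ` and commutes with `c`.) -/
def IAlpha : Prop :=
  ∀ {G : Type u} [Group G] [Finite G], Cfsg.IsMinSimpleOddOrder G →
  ∀ (M R0 H F : Subgroup G) (r : ℕ) (c : G), HS M R0 H r →
    Cfsg.IsComplIn F (Cfsg.sigmaCore H) H → c ∈ F → c ∈ CR M R0 → orderOf c ∈ Cfsg.tau1 H →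
    XT H F c (orderOf c)

/-- IBETAN: if `c ∈ C ∩ F` has prime order `t ∈ τ₃(H)`, then `⟨c⟩ ≤ F'`, `⟨c⟩ ⊴ F` and
`F ≤ M`.  (S1415 for `(H, F)`: a Hall `τ₃(H)`-subgroup `F₃` of `F` (exists: `F` solvable) is
cyclic, normal in `F`, inside `⁅F, F⁆`; being normal and Hall it contains `c`; `⟨c⟩` is
characteristic in the cyclic `F₃`, so normal in `F`.  `t ∈ σ(M)`; S1404 for `(M, t, ⟨c⟩)`:
`N_G(⟨c⟩) = N_M(⟨c⟩) C_G(⟨c⟩) ≤ M` (CENTC).) -/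
def IBetaN : Prop :=
  ∀ {G : Type u} [Group G] [Finite G], Cfsg.IsMinSimpleOddOrder G →
  ∀ (M R0 H F : Subgroup G) (r : ℕ) (c : G), HS M R0 H r →
    Cfsg.IsComplIn F (Cfsg.sigmaCore H) H → c ∈ F → c ∈ CR M R0 → orderOf c ∈ Cfsg.tau3 H →
    F ≤ Subgroup.normalizer ((Subgroup.zpowers c : Subgroup G) : Set G) ∧ F ≤ M ∧
      Subgroup.zpowers c ≤ ⁅F, F⁆

/-- IBETAMOVE: `c ∈ C ∩ F` of prime order `t ∈ τ₃(H)`, `⟨c⟩ ⊴ F ≤ M`, and `z ∈ F` does not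
centralize `c`: `(H, F, z)` is a triple.  (`q ∉ σ(H)` (IQH).  `q ∉ τ₂(H)`: else `F` contains an
elementary abelian subgroup of order `q²` (`exists_elemAb_sq_le_compl`), inside `M`, against
`PRankLE q 1 M`; so `PRankLE q 1 H` (`r2`).  `q ∤ |⁅H, H⁆|`: else `q ∈ τ₃(H)` and `z`, `c` both
lie in the cyclic normal Hall `τ₃(H)`-subgroup of `F` (S1415), so commute.  `C_{H_σ}(z) ≠ 1`:
else Lemma FR (`Q := ⟨c⟩`, `R := ⟨z⟩`, `N := H_σ`) gives `H_σ ≤ C(c)`, so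
`H_σ = C_{H_σ}(c) ≤ M` (FIXC), `H = F H_σ ≤ M`, `H = M`, `r ∈ σ(M)`: absurd.) -/
def IBetaMove : Prop :=
  ∀ {G : Type u} [Group G] [Finite G], Cfsg.IsMinSimpleOddOrder G →
  ∀ (M E R0 H F : Subgroup G) (r q : ℕ) (z c : G), CI M E R0 r q z → HS M R0 H r →
    Cfsg.IsComplIn F (Cfsg.sigmaCore H) H → z ∈ F → c ∈ F → c ∈ CR M R0 →
    orderOf c ∈ Cfsg.tau3 H →
    F ≤ Subgroup.normalizer ((Subgroup.zpowers c : Subgroup G) : Set G) → F ≤ M →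
    ¬ z * c = c * z → XT H F z q

/-- ICENTE: in case (i), if `c ∈ M_σ` of prime order commutes with `z` and `E` normalizes
`⟨c⟩`, then `E` centralizes `c`.  (`E` is generated by its elements of prime power order; let
`x ∈ E` have order `s^m`.  `τ₂(M) = ∅` (`S52Stmt.NoTau2`), so `s ∈ τ₃(M)` or `s ∈ τ₁(M)`.
`s ∈ τ₃(M)`: `x` lies in the normal Hall `τ₃(M)`-subgroup of `E`, inside `⁅E, E⁆` (S1415);
`E` acts on `⟨c⟩` through the abelian `Aut ⟨c⟩`, so `⁅E, E⁆` centralizes `c`.  `s ∈ τ₁(M)`: let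
`E₁ ∋ z` be a Hall `τ₁(M)`-subgroup of `E` (`q ∈ τ₁(M)`, ITAU1), cyclic (S1415);
`e x e⁻¹ ∈ E₁` for some `e ∈ E` (Hall); `x₀` of order `s` in `⟨e x e⁻¹⟩` commutes with `z`:
S1428 (`P := ⟨z⟩`, `R := ⟨x₀⟩`) gives `c ∈ C(x₀)`, S1427 (cyclic Sylow `s`-subgroup of `E`
containing `e x e⁻¹`) gives `c ∈ C(e x e⁻¹)`; so `x` centralizes `e⁻¹ c e ∈ ⟨c⟩ ∖ 1`, hence
`c`.) -/
def ICentE : Prop :=
  ∀ {G : Type u} [Group G] [Finite G], Cfsg.IsMinSimpleOddOrder G →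
  ∀ (M E R0 : Subgroup G) (r q : ℕ) (z : G), CI M E R0 r q z →
    ∀ c ∈ Cfsg.sigmaCore M, (orderOf c).Prime → z * c = c * z →
      E ≤ Subgroup.normalizer ((Subgroup.zpowers c : Subgroup G) : Set G) →
      ∀ e ∈ E, e * c = c * e

/-- IBETACENT: all elements of prime order of `C` have order in `τ₃(H)`, `c ∈ C` one of them,
`F ⊇ C`, `z ∈ F`, `⟨c⟩ ⊴ F ≤ M`, `⟨c⟩ ≤ F'`, and `z` centralizes `c`: contradiction.
(`C` is a `τ₃(H)`-subgroup of `F`, so lies in the cyclic normal Hall `τ₃(H)`-subgroup of `F`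
(S1415): `C` is cyclic and `⟨c⟩` is characteristic in `C`; `E` normalizes `C` (`R0 ⊴ E`,
`S52NORM`), hence `⟨c⟩`; ICENTE: `E` centralizes `c`.  `S52YEX` for `(F, ⟨c⟩, t)`: some `y ∈ F`
does not centralize `c`.  `y ∈ F ≤ M ∩ H`: `y = e s`, `e ∈ E`, `s ∈ M_σ ∩ H = C` (MH; `E ≤ H`);
`s` centralizes `c` (`C` abelian) and so does `e`: contradiction.) -/
def IBetaCent : Prop :=
  ∀ {G : Type u} [Group G] [Finite G], Cfsg.IsMinSimpleOddOrder G →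
  ∀ (M E R0 H F : Subgroup G) (r q : ℕ) (z c : G), CI M E R0 r q z → HS M R0 H r →
    Cfsg.IsComplIn F (Cfsg.sigmaCore H) H → z ∈ F → CR M R0 ≤ F →
    (∀ c' ∈ CR M R0, (orderOf c').Prime → orderOf c' ∈ Cfsg.tau3 H) →
    c ∈ CR M R0 → (orderOf c).Prime →
    F ≤ Subgroup.normalizer ((Subgroup.zpowers c : Subgroup G) : Set G) → F ≤ M →
    Subgroup.zpowers c ≤ ⁅F, F⁆ → z * c = c * z → False

/-- ISECOND: in case (i), `H` carries a triple.  (`F` from IFEX; `C ≠ 1` (`S52CNE`), its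
elements of prime order have order in `κ(H)` (L4), hence in `τ₁(H)` or `τ₃(H)` (definition of
`κ` + `pRankLE_one_of_kappa`).  If some `c` has order in `τ₁(H)`: IALPHA.  Otherwise take any
`c` of prime order: IBETAN, then IBETACENT if `z c = c z`, IBETAMOVE if not.) -/
def ISecond : Prop :=
  ∀ {G : Type u} [Group G] [Finite G], Cfsg.IsMinSimpleOddOrder G →
  ∀ (M E R0 H : Subgroup G) (r q : ℕ) (z : G), CI M E R0 r q z → HS M R0 H r →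
    ∃ (F : Subgroup G) (z' : G) (q' : ℕ), XT H F z' q'

/-- The goal: case (i) is impossible.  (`q ∈ τ₁(M)` (ITAU1), `C_{M_σ}(z) ≠ 1` (`S52CNE` for
`⟨z⟩`): `XT M E z q`.  `H` maximal over `N_G(R0)` (`normalizer_ne_top`), `r ∈ σ(H)` (L3):
`HS M R0 H r`.  ISECOND: `XT H F z' q'`.  THMY (`L := M`, `L' := H`, SDJ): a prime of `σ(H)`
divides `|C_E(z)|`, against INOSIG.) -/
def NoCaseI : Prop :=
  ∀ {G : Type u} [Group G] [Finite G], Cfsg.IsMinSimpleOddOrder G →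
  ∀ (M E R0 : Subgroup G) (r q : ℕ) (z : G), IsCoatom M →
    Cfsg.IsComplIn E (Cfsg.sigmaCore M) M → r ∈ Cfsg.kappa M → Nat.card R0 = r →
    R0 ≤ ⁅E, E⁆ → q ∈ Cfsg.kappa M → z ∈ E → orderOf z = q →
    ¬ (∀ u ∈ R0, z * u = u * z) → False

end Cfsg.Agent.Lib.Helper9.S51IStmt
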