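import Cfsg.Agent.Lib.Helper68.M11UStmt
import Cfsg.Agent.S0435
import Cfsg.Agent.S0434
import Cfsg.Agent.Lib.Helper50.Transfer

set_option autoImplicit false

/-!
# S0420 piece KERQ (helper9): the kernel `Q` of the action of `C(t)` on the three Sylow
3-subgroups inverted by the involution `t`
-/

namespace Cfsg.Agent.Lib.Helper9.MUKERQ

open Cfsg Cfsg.Agent.Lib.Helper68.M11UStmt

universe u

section core

variable {G : Type u} [Group G] [Finite G]

theorem mem_smul_iff {g x : G} {P : Sylow 3 G} :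
    x ∈ ((g • P : Sylow 3 G) : Subgroup G) ↔ g⁻¹ * x * g ∈ (P : Subgroup G) := by
  rw [Sylow.coe_subgroup_smul, Subgroup.mem_pointwise_smul_iff_inv_smul_mem]
  simp [MulAut.smul_def]

theorem inverts_smul {t c : G} (hc : c * t = t * c) {P : Sylow 3 G}
    (hP : Inverts t (P : Subgroup G)) : Inverts t ((c • P : Sylow 3 G) : Subgroup G) := by
  intro x hx
  rw [mem_smul_iff] at hx
  have h := hP _ hx
  have hc' : c⁻¹ * t = t * c⁻¹ := by
    rw [inv_mul_eq_iff_eq_mul, ← mul_assoc, hc, mul_assoc, mul_inv_cancel, mul_one]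
  have hc'' : t⁻¹ * c = c * t⁻¹ := by
    rw [inv_mul_eq_iff_eq_mul, ← mul_assoc, ← hc, mul_assoc, mul_inv_cancel, mul_one]
  have h2 : c⁻¹ * (t * x * t⁻¹) * c = c⁻¹ * x⁻¹ * c := by
    have : c⁻¹ * (t * x * t⁻¹) * c = t * (c⁻¹ * x * c) * t⁻¹ := by
      calc c⁻¹ * (t * x * t⁻¹) * c = (c⁻¹ * t) * x * (t⁻¹ * c) := by group
        _ = (t * c⁻¹) * x * (c * t⁻¹) := by rw [hc', hc'']
        _ = t * (c⁻¹ * x * c) * t⁻¹ := by group
    rw [this, h]
    group
  have h3 : c * (c⁻¹ * (t * x * t⁻¹) * c) * c⁻¹ = c * (c⁻¹ * x⁻¹ * c) * c⁻¹ := by rw [h2]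
  simpa [mul_assoc] using h3

theorem card_cases {n i : ℕ} (h48 : n * i = 48) (hi : i ∣ 6) (hn : n ∣ 16) : n = 8 ∨ n = 16 := by
  have hi6 : i ≤ 6 := Nat.le_of_dvd (by norm_num) hi
  have hn16 : n ≤ 16 := Nat.le_of_dvd (by norm_num) hn
  interval_cases i <;> interval_cases n <;> omega

theorem card_le_two {m n c : ℕ} (hm : m ∣ n) (hn : n ∣ 16) (hc : m ∣ c) (h4 : ¬ 4 ∣ c) :
    m ≤ 2 := by
  have hm16 : m ∣ 16 := hm.trans hn
  have h4m : ¬ 4 ∣ m := fun h => h4 (h.trans hc)
  have hle : m ≤ 16 := Nat.le_of_dvd (by norm_num) hm16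
  interval_cases m <;> omega

theorem kerq_core
    (h48 : ∀ t : G, orderOf t = 2 → Nat.card (Subgroup.centralizer ({t} : Set G)) = 48)
    (h3 : ∀ y : G, orderOf y = 3 → ¬ 4 ∣ Nat.card (Subgroup.centralizer ({y} : Set G)))
    (hThree : ∀ t : G, orderOf t = 2 →
      Nat.card {P : Sylow 3 G // Inverts t (P : Subgroup G)} = 3)
    (hStab : ∀ (P : Sylow 3 G) (t : G), orderOf t = 2 → Inverts t (P : Subgroup G) →
      Nat.card (Subgroup.centralizer ({t} : Set G) ⊓
        Subgroup.normalizer ((P : Subgroup G) : Set G) : Subgroup G) = 16)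
    (t : G) (ht : orderOf t = 2) :
    ∃ (Q : Subgroup G) (y : G), Nat.card Q = 8 ∧ t ∈ Q ∧
      (∀ P : Sylow 3 G, Inverts t (P : Subgroup G) → Normalizes Q (P : Subgroup G)) ∧
      orderOf y = 3 ∧ y * t = t * y ∧ (∀ q ∈ Q, y * q * y⁻¹ ∈ Q) ∧
      (∀ q ∈ Q, y * q * y⁻¹ = q → q = 1 ∨ q = t) := by
  classical
  have : Fact (Nat.Prime 3) := ⟨Nat.prime_three⟩
  have ht1 : t ≠ 1 := by
    rintro rfl
    rw [orderOf_one] at ht
    omega
  have htt : t * t = 1 := by
    have := pow_orderOf_eq_one t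
    rwa [ht, pow_two] at this
  have htinv : t⁻¹ = t := inv_eq_of_mul_eq_one_right htt
  obtain ⟨C, hC⟩ : ∃ C : Subgroup G, C = Subgroup.centralizer ({t} : Set G) := ⟨_, rfl⟩
  have hCmem : ∀ c : G, c ∈ C ↔ c * t = t * c := by
    intro c
    rw [hC, Subgroup.mem_centralizer_singleton_iff]
  have hC48 : Nat.card C = 48 := by rw [hC]; exact h48 t ht
  -- the action of `C` on the Sylow 3-subgroups inverted by `t`
  letI act : MulAction C {P : Sylow 3 G // Inverts t (P : Subgroup G)} :=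
    { smul := fun c P => ⟨(c : G) • P.1, inverts_smul ((hCmem _).mp c.2) P.2⟩
      one_smul := fun P => Subtype.ext (one_smul G P.1)
      mul_smul := fun a b P => Subtype.ext (mul_smul (a : G) (b : G) P.1) }
  have hsmul : ∀ (c : C) (P : {P : Sylow 3 G // Inverts t (P : Subgroup G)}),
      ((c • P : {P : Sylow 3 G // Inverts t (P : Subgroup G)}) : Sylow 3 G) = (c : G) • P.1 :=
    fun _ _ => rfl
  obtain ⟨f, hf⟩ : ∃ f : C →* Equiv.Perm {P : Sylow 3 G // Inverts t (P : Subgroup G)},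
      f = MulAction.toPermHom C _ := ⟨_, rfl⟩
  obtain ⟨Q, hQ⟩ : ∃ Q : Subgroup G, Q = f.ker.map C.subtype := ⟨_, rfl⟩
  have hQmem : ∀ q : G, q ∈ Q ↔ q ∈ C ∧ ∀ P : Sylow 3 G, Inverts t (P : Subgroup G) →
      q ∈ Subgroup.normalizer ((P : Subgroup G) : Set G) := by
    intro q
    rw [hQ, Subgroup.mem_map]
    constructor
    · rintro ⟨c, hc, rfl⟩
      refine ⟨c.2, fun P hP => ?_⟩
      rw [MonoidHom.mem_ker, hf] at hc
      have h1 := congrArg (fun σ => σ ⟨P, hP⟩) hc
      simp only [MulAction.toPermHom_apply, MulAction.toPerm_apply, Equiv.Perm.coe_one, id] at h1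
      have h2 := congrArg Subtype.val h1
      rw [hsmul] at h2
      exact Sylow.smul_eq_iff_mem_normalizer.mp h2
    · rintro ⟨hqC, hq⟩
      refine ⟨⟨q, hqC⟩, ?_, rfl⟩
      rw [MonoidHom.mem_ker, hf]
      ext P : 1
      simp only [MulAction.toPermHom_apply, MulAction.toPerm_apply, Equiv.Perm.coe_one, id]
      apply Subtype.ext
      rw [hsmul]
      exact Sylow.smul_eq_iff_mem_normalizer.mpr (hq P.1 P.2)
  have hQC : Q ≤ C := fun q hq => ((hQmem q).mp hq).1
  have hQcard : Nat.card Q = Nat.card f.ker := by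
    rw [hQ]
    exact Subgroup.card_map_of_injective (Subgroup.subtype_injective _)
  have hidx : f.ker.index ∣ 6 := by
    rw [Subgroup.index_ker]
    have h1 : Nat.card f.range ∣ Nat.card (Equiv.Perm {P : Sylow 3 G // Inverts t (P : Subgroup G)}) :=
      Subgroup.card_subgroup_dvd_card f.range
    rw [Nat.card_perm, hThree t ht] at h1
    exact h1
  have hmul : Nat.card Q * f.ker.index = 48 := by
    rw [hQcard, Subgroup.card_mul_index, hC48]
  -- a Sylow 3-subgroup inverted by `t`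
  obtain ⟨P₀⟩ : Nonempty {P : Sylow 3 G // Inverts t (P : Subgroup G)} := by
    by_contra hne
    rw [not_nonempty_iff] at hne
    have := hThree t ht
    rw [Nat.card_of_isEmpty] at this
    omega
  have hQ16 : Nat.card Q ∣ 16 := by
    rw [← hStab P₀.1 t ht P₀.2]
    apply Subgroup.card_dvd_of_le
    intro q hq
    obtain ⟨h1, h2⟩ := (hQmem q).mp hq
    exact ⟨hC ▸ h1, h2 P₀.1 P₀.2⟩
  have hQ8 : Nat.card Q = 8 ∨ Nat.card Q = 16 := card_cases hmul hidx hQ16
  have htQ : t ∈ Q := by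
    rw [hQmem]
    refine ⟨(hCmem t).mpr rfl, fun P hP => ?_⟩
    apply Cfsg.Agent.Lib.Helper50.Transfer.mem_normalizer_of_conj_mem
    intro x hx
    rw [hP x hx]
    exact inv_mem hx
  -- an element of order 3 of `C`
  obtain ⟨y', hy'⟩ := exists_prime_orderOf_dvd_card' (G := C) 3 (by rw [hC48]; norm_num)
  have hy3 : orderOf (y' : G) = 3 := by rw [Subgroup.orderOf_coe]; exact hy'
  have hyt : (y' : G) * t = t * (y' : G) := (hCmem _).mp y'.2
  have hyQ : ∀ q ∈ Q, (y' : G) * q * (y' : G)⁻¹ ∈ Q := by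
    intro q hq
    rw [hQ, Subgroup.mem_map] at hq ⊢
    obtain ⟨k, hk, rfl⟩ := hq
    exact ⟨y' * k * y'⁻¹, (inferInstance : f.ker.Normal).conj_mem k hk y', rfl⟩
  -- fixed points of `y` on `Q`
  have hF2 : Nat.card (Q ⊓ Subgroup.centralizer ({(y' : G)} : Set G) : Subgroup G) ≤ 2 :=
    card_le_two (Subgroup.card_dvd_of_le inf_le_left) hQ16 (Subgroup.card_dvd_of_le inf_le_right)
      (h3 _ hy3)
  have hfix : ∀ q ∈ Q, (y' : G) * q * (y' : G)⁻¹ = q → q = 1 ∨ q = t := by
    intro q hq hyq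
    by_contra hcon
    rw [not_or] at hcon
    have hsub : ({1, t, q} : Set G) ⊆
        ((Q ⊓ Subgroup.centralizer ({(y' : G)} : Set G) : Subgroup G) : Set G) := by
      intro z hz
      simp only [Set.mem_insert_iff, Set.mem_singleton_iff] at hz
      rcases hz with rfl | rfl | rfl
      · exact one_mem _
      · exact ⟨htQ, Subgroup.mem_centralizer_singleton_iff.mpr hyt.symm⟩
      · exact ⟨hq, Subgroup.mem_centralizer_singleton_iff.mpr (mul_inv_eq_iff_eq_mul.mp hyq).symm⟩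
    have h3' : ({1, t, q} : Set G).ncard = 3 := by
      rw [Set.ncard_eq_three]
      exact ⟨1, t, q, ht1.symm, fun h => hcon.1 h.symm, fun h => hcon.2 h.symm, rfl⟩
    have hle := Set.ncard_le_ncard hsub (Set.toFinite _)
    rw [h3'] at hle
    have : ((Q ⊓ Subgroup.centralizer ({(y' : G)} : Set G) : Subgroup G) : Set G).ncard =
        Nat.card (Q ⊓ Subgroup.centralizer ({(y' : G)} : Set G) : Subgroup G) := rfl
    omega
  -- the congruence mod 3
  have : Fintype Q := Fintype.ofFinite _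
  obtain ⟨g, hg⟩ : ∃ g : Function.End Q, g = fun q => ⟨(y' : G) * q * (y' : G)⁻¹, hyQ q q.2⟩ :=
    ⟨_, rfl⟩
  have hy3' : (y' : G) ^ 3 = 1 := by rw [← hy3]; exact pow_orderOf_eq_one _
  have hg3 : g ^ 3 ^ 1 = 1 := by
    funext q
    apply Subtype.ext
    have : (g ^ 3 ^ 1) q = g (g (g q)) := rfl
    rw [this, hg]
    show (y' : G) * ((y' : G) * ((y' : G) * q * (y' : G)⁻¹) * (y' : G)⁻¹) * (y' : G)⁻¹ = q
    have h1 : (y' : G) * ((y' : G) * ((y' : G) * q * (y' : G)⁻¹) * (y' : G)⁻¹) * (y' : G)⁻¹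
        = ((y' : G) * (y' : G) * (y' : G)) * q * ((y' : G) * (y' : G) * (y' : G))⁻¹ := by
      simp only [mul_inv_rev, mul_assoc]
    have h2 : (y' : G) * (y' : G) * (y' : G) = 1 := by
      rw [← hy3', pow_succ, pow_two]
    rw [h1, h2]
    simp
  have hmod := Equiv.Perm.card_fixedPoints_modEq (f := g) (p := 3) (n := 1) hg3
  have hfp : Function.fixedPoints g = {⟨1, one_mem Q⟩, ⟨t, htQ⟩} := by
    ext q
    simp only [Function.mem_fixedPoints, Function.IsFixedPt, Set.mem_insert_iff,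
      Set.mem_singleton_iff]
    constructor
    · intro h
      have h' : (y' : G) * q * (y' : G)⁻¹ = q := by
        have := congrArg Subtype.val h
        rw [hg] at this
        exact this
      rcases hfix q q.2 h' with h1 | h1
      · left; exact Subtype.ext h1
      · right; exact Subtype.ext h1
    · rintro (rfl | rfl)
      · rw [hg]; apply Subtype.ext; simp
      · rw [hg]; apply Subtype.ext
        show (y' : G) * t * (y' : G)⁻¹ = t
        rw [hyt]; simp
  have hcard2 : Nat.card (Function.fixedPoints g) = 2 := by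
    rw [Nat.card_coe_set_eq, hfp, Set.ncard_pair]
    intro h
    exact ht1 (congrArg Subtype.val h).symm
  rw [Fintype.card_eq_nat_card, Fintype.card_eq_nat_card, hcard2] at hmod
  have hQ8' : Nat.card Q = 8 := by
    rcases hQ8 with h | h
    · exact h
    · rw [h] at hmod
      exact absurd hmod (by decide)
  refine ⟨Q, (y' : G), hQ8', htQ, ?_, hy3, hyt, hyQ, hfix⟩
  intro P hP q hq x hx
  exact (Subgroup.mem_normalizer_iff.mp (((hQmem q).mp hq).2 P hP) x).mp hx

end core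

theorem main (hThree : ThreeInv.{u}) (hStab : StabT.{u}) : KerQ.{u} := by
  intro G _ _ _ hG t ht
  have hM : Cfsg.IsM11 G := ⟨inferInstance, hG⟩
  exact kerq_core (fun t ht => Cfsg.Agent.S0435.result hM t ht)
    (fun y hy => Cfsg.Agent.Lib.Helper92.M11Asm4.cent_three Cfsg.Agent.Lib.Helper92.M11EX.main
      Cfsg.Agent.Lib.Helper69.M11R11.main Cfsg.Agent.Lib.Helper69.M11R5.main
      Cfsg.Agent.Lib.Helper33.M11DIV.main Cfsg.Agent.Lib.Helper3.M11M4.main
      Cfsg.Agent.Lib.Helper59.M11I3.main hG y hy)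
    (fun t ht => hThree G hG t ht) (fun P t ht hP => hStab G hG P t ht hP) t ht

end Cfsg.Agent.Lib.Helper9.MUKERQ
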