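import Cfsg.Agent.Lib.Helper68.M11Facts

set_option autoImplicit false

/-!
# S0420 piece UNIQ (helper9): `t` is the only involution of `Q`, and every element of `Q`
other than `1, t` squares to `t`
-/

namespace Cfsg.Agent.Lib.Helper9.MUUNIQ

open Cfsg Cfsg.Agent.Lib.Helper68.M11UStmt

universe u

section core

variable {G : Type u} [Group G] [Finite G]

theorem three_le_card {H : Subgroup G} {a b c : G} (ha : a ∈ H) (hb : b ∈ H) (hc : c ∈ H)
    (hab : a ≠ b) (hac : a ≠ c) (hbc : b ≠ c) : 3 ≤ Nat.card H := by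
  have hsub : ({a, b, c} : Set G) ⊆ (H : Set G) := by
    intro z hz
    simp only [Set.mem_insert_iff, Set.mem_singleton_iff] at hz
    rcases hz with rfl | rfl | rfl <;> assumption
  have h3 : ({a, b, c} : Set G).ncard = 3 := by
    rw [Set.ncard_eq_three]
    exact ⟨a, b, c, hab, hac, hbc, rfl⟩
  have hle := Set.ncard_le_ncard hsub (Set.toFinite _)
  rw [h3] at hle
  exact hle

theorem card_le_two {m n c : ℕ} (hm : m ∣ n) (hn : n ∣ 16) (hc : m ∣ c) (h4 : ¬ 4 ∣ c) :
    m ≤ 2 := by
  have hm16 : m ∣ 16 := hm.trans hn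
  have h4m : ¬ 4 ∣ m := fun h => h4 (h.trans hc)
  have hle : m ≤ 16 := Nat.le_of_dvd (by norm_num) hm16
  interval_cases m <;> omega

theorem eq_three {n : ℕ} (h : n ∣ 9) (h1 : n ≠ 1) (h9 : n ≠ 9) : n = 3 := by
  have hle : n ≤ 9 := Nat.le_of_dvd (by norm_num) h
  interval_cases n <;> omega

theorem eq_four {n : ℕ} (h : n ∣ 8) (h3 : 3 ≤ n) (h8 : n ≠ 8) : n = 4 := by
  have hle : n ≤ 8 := Nat.le_of_dvd (by norm_num) h
  interval_cases n <;> omega

theorem eq_eight {n : ℕ} (h : n ∣ 8) (h4 : ¬ n ∣ 4) : n = 8 := by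
  have hle : n ≤ 8 := Nat.le_of_dvd (by norm_num) h
  interval_cases n <;> omega

/-- `t` is fixed by the automorphism of order 3. -/
theorem fixed_t {Q : Subgroup G} {y t : G} (hQ8 : Nat.card Q = 8) (hy3 : y ^ 3 = 1)
    (hyQ : ∀ q ∈ Q, y * q * y⁻¹ ∈ Q) (hfix : ∀ q ∈ Q, y * q * y⁻¹ = q → q = 1 ∨ q = t) :
    y * t * y⁻¹ = t := by
  classical
  by_contra hne
  have : Fact (Nat.Prime 3) := ⟨Nat.prime_three⟩
  have : Fintype Q := Fintype.ofFinite _
  obtain ⟨g, hg⟩ : ∃ g : Function.End Q, g = fun q => ⟨y * q * y⁻¹, hyQ q q.2⟩ := ⟨_, rfl⟩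
  have hg3 : g ^ 3 ^ 1 = 1 := by
    funext q
    apply Subtype.ext
    have : (g ^ 3 ^ 1) q = g (g (g q)) := rfl
    rw [this, hg]
    show y * (y * (y * q * y⁻¹) * y⁻¹) * y⁻¹ = q
    have h1 : y * (y * (y * (q : G) * y⁻¹) * y⁻¹) * y⁻¹ = (y * y * y) * q * (y * y * y)⁻¹ := by
      simp only [mul_inv_rev, mul_assoc]
    have h2 : y * y * y = 1 := by
      rw [← hy3, pow_succ, pow_two]
    rw [h1, h2]
    simp
  have hmod := Equiv.Perm.card_fixedPoints_modEq (f := g) (p := 3) (n := 1) hg3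
  have hfp : Function.fixedPoints g = {⟨1, one_mem Q⟩} := by
    ext q
    simp only [Set.mem_singleton_iff]
    constructor
    · intro h
      have h' : y * (q : G) * y⁻¹ = q := by
        have := congrArg Subtype.val h
        rw [hg] at this
        exact this
      rcases hfix q q.2 h' with h1 | h1
      · exact Subtype.ext h1
      · exfalso
        apply hne
        rw [h1] at h'
        exact h'
    · rintro rfl
      rw [hg]
      apply Subtype.ext
      simp
  have hcard1 : Nat.card (Function.fixedPoints g) = 1 := by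
    rw [Nat.card_coe_set_eq, hfp, Set.ncard_singleton]
  rw [Fintype.card_eq_nat_card, Fintype.card_eq_nat_card, hcard1, hQ8] at hmod
  exact absurd hmod (by decide)

theorem uniq_core (P : Subgroup G) (hP9 : Nat.card P = 9)
    (hcent : ∀ g : G, (∀ x ∈ P, g * x = x * g) → g ∈ P)
    (hcoset : ∀ t : G, orderOf t = 2 → Inverts t P →
      ∀ s : G, (orderOf s = 2 ∧ Inverts s P) ↔ ∃ x ∈ P, s = t * x)
    (h3 : ∀ y : G, orderOf y = 3 → ¬ 4 ∣ Nat.card (Subgroup.centralizer ({y} : Set G)))
    (t : G) (Q : Subgroup G) (y : G) (ht : orderOf t = 2) (hQ8 : Nat.card Q = 8) (htQ : t ∈ Q)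
    (hinv : Inverts t P) (hnorm : Normalizes Q P) (hy : orderOf y = 3)
    (hyQ : ∀ q ∈ Q, y * q * y⁻¹ ∈ Q) (hfix : ∀ q ∈ Q, y * q * y⁻¹ = q → q = 1 ∨ q = t) :
    ∀ q ∈ Q, q ≠ 1 → q ≠ t → q * q = t := by
  classical
  have ht1 : t ≠ 1 := by
    rintro rfl
    rw [orderOf_one] at ht
    omega
  have htt : t * t = 1 := by
    have := pow_orderOf_eq_one t
    rwa [ht, pow_two] at this
  have htinv : t⁻¹ = t := inv_eq_of_mul_eq_one_right htt
  have hy3 : y ^ 3 = 1 := by rw [← hy]; exact pow_orderOf_eq_one y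
  have hσt : y * t * y⁻¹ = t := fixed_t hQ8 hy3 hyQ hfix
  have hσ3 : ∀ q : G, y * (y * (y * q * y⁻¹) * y⁻¹) * y⁻¹ = q := by
    intro q
    have h1 : y * (y * (y * q * y⁻¹) * y⁻¹) * y⁻¹ = (y * y * y) * q * (y * y * y)⁻¹ := by
      simp only [mul_inv_rev, mul_assoc]
    have h2 : y * y * y = 1 := by
      rw [← hy3, pow_succ, pow_two]
    rw [h1, h2]
    simp
  have hσmul : ∀ a b : G, y * (a * b) * y⁻¹ = (y * a * y⁻¹) * (y * b * y⁻¹) := by
    intro a b
    group
  -- `P ∩ Q = 1`
  have hPQ : ∀ x : G, x ∈ P → x ∈ Q → x = 1 := by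
    intro x hxP hxQ
    have h1 : orderOf x ∣ 9 := hP9 ▸ Subgroup.orderOf_dvd_natCard P hxP
    have h2 : orderOf x ∣ 8 := hQ8 ▸ Subgroup.orderOf_dvd_natCard Q hxQ
    have h3 : orderOf x ∣ Nat.gcd 9 8 := Nat.dvd_gcd h1 h2
    rw [show Nat.gcd 9 8 = 1 from rfl, Nat.dvd_one] at h3
    exact orderOf_eq_one_iff.mp h3
  -- an involution of `Q` inverting `P` is `t`
  have hinvQ : ∀ s ∈ Q, orderOf s = 2 → Inverts s P → s = t := by
    intro s hsQ hs2 hsI
    obtain ⟨x, hxP, hx⟩ := (hcoset t ht hinv s).mp ⟨hs2, hsI⟩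
    have hxQ : x ∈ Q := by
      have : x = t⁻¹ * s := by rw [hx]; group
      rw [this]
      exact Q.mul_mem (Q.inv_mem htQ) hsQ
    rw [hx, hPQ x hxP hxQ, mul_one]
  have hord2 : ∀ s : G, s * s = 1 → s ≠ 1 → orderOf s = 2 := by
    intro s hss hs1
    exact orderOf_eq_prime (by rw [pow_two]; exact hss) hs1
  -- `t` is central in `Q`
  have htc : ∀ q ∈ Q, q * t = t * q := by
    intro q hq
    have hs : q * t * q⁻¹ = t := by
      apply hinvQ _ (Q.mul_mem (Q.mul_mem hq htQ) (Q.inv_mem hq))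
      · apply hord2
        · calc q * t * q⁻¹ * (q * t * q⁻¹) = q * (t * t) * q⁻¹ := by group
            _ = 1 := by rw [htt]; group
        · intro h
          apply ht1
          have : t = q⁻¹ * (q * t * q⁻¹) * q := by group
          rw [this, h]
          group
      · intro x hx
        have hx' : q⁻¹ * x * q ∈ P := by
          have := hnorm q⁻¹ (Q.inv_mem hq) x hx
          rwa [inv_inv] at this
        have h1 := hinv _ hx'
        calc q * t * q⁻¹ * x * (q * t * q⁻¹)⁻¹ = q * (t * (q⁻¹ * x * q) * t⁻¹) * q⁻¹ := by group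
          _ = q * (q⁻¹ * x * q)⁻¹ * q⁻¹ := by rw [h1]
          _ = x⁻¹ := by group
    calc q * t = (q * t * q⁻¹) * q := by group
      _ = t * q := by rw [hs]
  have hPab : ∀ x ∈ P, ∀ z ∈ P, x * z = z * x := by
    intro x hx z hz
    have : Fact (Nat.Prime 3) := ⟨Nat.prime_three⟩
    have h := IsPGroup.commutative_of_card_eq_prime_sq (p := 3) (G := P)
      (by rw [hP9]; norm_num) ⟨x, hx⟩ ⟨z, hz⟩
    exact congrArg Subtype.val h
  -- (I) `t` is the only involution of `Q`
  have hI : ∀ e ∈ Q, e * e = 1 → e ≠ 1 → e = t := by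
    intro e heQ hee he1
    by_contra het
    have heinv : e⁻¹ = e := inv_eq_of_mul_eq_one_right hee
    have hnotinv : ¬ Inverts e P := fun h => het (hinvQ e heQ (hord2 e hee he1) h)
    obtain ⟨x, hxP, hx⟩ : ∃ x ∈ P, e * x * e⁻¹ ≠ x⁻¹ := by
      by_contra hcon
      exact hnotinv (fun x hx => by_contra (fun h => hcon ⟨x, hx, h⟩))
    obtain ⟨a, ha⟩ : ∃ a : G, a = x * (e * x * e⁻¹) := ⟨_, rfl⟩
    have hexP : e * x * e⁻¹ ∈ P := hnorm e heQ x hxP
    have haP : a ∈ P := by rw [ha]; exact P.mul_mem hxP hexP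
    have ha1 : a ≠ 1 := by
      intro h
      apply hx
      rw [ha] at h
      exact eq_inv_of_mul_eq_one_right h
    have hea : e * a = a * e := by
      have h1 : e * a * e⁻¹ = (e * x * e⁻¹) * x := by
        rw [ha]
        calc e * (x * (e * x * e⁻¹)) * e⁻¹ = (e * x * e⁻¹) * ((e * e) * x * (e * e)⁻¹) := by group
          _ = (e * x * e⁻¹) * x := by rw [hee]; group
      have h2 : e * a * e⁻¹ = a := by rw [h1, ha]; exact hPab _ hexP _ hxP
      calc e * a = (e * a * e⁻¹) * e := by group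
        _ = a * e := by rw [h2]
    -- `B = C_P(e)` has order 3
    obtain ⟨B, hB⟩ : ∃ B : Subgroup G, B = P ⊓ Subgroup.centralizer ({e} : Set G) := ⟨_, rfl⟩
    have hBmem : ∀ b : G, b ∈ B ↔ b ∈ P ∧ b * e = e * b := by
      intro b
      rw [hB, Subgroup.mem_inf, Subgroup.mem_centralizer_singleton_iff]
    have haB : a ∈ B := (hBmem a).mpr ⟨haP, hea.symm⟩
    have hBP : B ≤ P := hB ▸ inf_le_left
    have hB3 : Nat.card B = 3 := by
      have hdvd : Nat.card B ∣ 9 := hP9 ▸ Subgroup.card_dvd_of_le hBP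
      have hne1 : Nat.card B ≠ 1 := by
        intro h
        rw [Subgroup.card_eq_one] at h
        rw [h] at haB
        exact ha1 (Subgroup.mem_bot.mp haB)
      have hne9 : Nat.card B ≠ 9 := by
        intro h
        have hBeq : B = P := Subgroup.eq_of_le_of_card_ge hBP (by rw [h, hP9])
        have : e ∈ P := hcent e (fun x hx => ((hBmem x).mp (hBeq ▸ hx)).2.symm)
        exact he1 (hPQ e this heQ)
      exact eq_three hdvd hne1 hne9
    have ha3 : orderOf a = 3 := by
      have h1 : orderOf a ∣ 3 := hB3 ▸ Subgroup.orderOf_dvd_natCard B haB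
      rcases (Nat.dvd_prime Nat.prime_three).mp h1 with h | h
      · exact absurd (orderOf_eq_one_iff.mp h) ha1
      · exact h
    have haa : a * a ≠ 1 := by
      intro h
      have h2 : orderOf a ∣ 2 := orderOf_dvd_of_pow_eq_one (by rw [pow_two]; exact h)
      rw [ha3] at h2
      omega
    have hBel : ∀ b ∈ B, b = 1 ∨ b = a ∨ b = a⁻¹ := by
      intro b hb
      have hsub : ({1, a, a⁻¹} : Set G) ⊆ (B : Set G) := by
        intro z hz
        simp only [Set.mem_insert_iff, Set.mem_singleton_iff] at hz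
        rcases hz with rfl | rfl | rfl
        · exact B.one_mem
        · exact haB
        · exact B.inv_mem haB
      have h3' : ({1, a, a⁻¹} : Set G).ncard = 3 := by
        rw [Set.ncard_eq_three]
        refine ⟨1, a, a⁻¹, ha1.symm, ?_, ?_, rfl⟩
        · intro h
          apply ha1
          rw [← inv_inv a, ← h, inv_one]
        · intro h
          exact haa (mul_eq_one_iff_eq_inv.mpr h)
      have heq := Set.eq_of_subset_of_ncard_le hsub (by rw [h3']; exact hB3.le) (Set.toFinite _)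
      have hb' : b ∈ ({1, a, a⁻¹} : Set G) := by rw [heq]; exact hb
      simpa using hb'
    -- `C_Q(a) = {1, e}`
    have hCa : ∀ f ∈ Q, f * a = a * f → f = 1 ∨ f = e := by
      intro f hf hfa
      by_contra hcon
      rw [not_or] at hcon
      have h3le := three_le_card (H := Q ⊓ Subgroup.centralizer ({a} : Set G)) (a := 1) (b := e)
        (c := f) (one_mem _) ⟨heQ, Subgroup.mem_centralizer_singleton_iff.mpr hea⟩
        ⟨hf, Subgroup.mem_centralizer_singleton_iff.mpr hfa⟩
        (Ne.symm he1) (fun h => hcon.1 h.symm) (fun h => hcon.2 h.symm)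
      have hle2 := card_le_two (Subgroup.card_dvd_of_le inf_le_left)
        (show Nat.card Q ∣ 16 by rw [hQ8]; norm_num)
        (Subgroup.card_dvd_of_le inf_le_right) (h3 a ha3)
      omega
    -- `C_Q(e) ⊆ {1, e, t, t e}`
    have hCe : ∀ h ∈ Q, h * e = e * h → h = 1 ∨ h = e ∨ h = t ∨ h = t * e := by
      intro h hhQ hhe
      have hb : h * a * h⁻¹ ∈ B := by
        rw [hBmem]
        refine ⟨hnorm h hhQ a haP, ?_⟩
        have hhe' : h⁻¹ * e = e * h⁻¹ := by
          rw [inv_mul_eq_iff_eq_mul, ← mul_assoc, hhe, mul_assoc, mul_inv_cancel, mul_one]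
        calc h * a * h⁻¹ * e = h * a * (h⁻¹ * e) := by group
          _ = h * a * (e * h⁻¹) := by rw [hhe']
          _ = h * (a * e) * h⁻¹ := by group
          _ = h * (e * a) * h⁻¹ := by rw [hea]
          _ = (h * e) * a * h⁻¹ := by group
          _ = (e * h) * a * h⁻¹ := by rw [hhe]
          _ = e * (h * a * h⁻¹) := by group
      rcases hBel _ hb with h1 | h1 | h1
      · exfalso
        apply ha1
        have : a = h⁻¹ * (h * a * h⁻¹) * h := by group
        rw [this, h1]
        group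
      · have : h * a = a * h := by
          calc h * a = (h * a * h⁻¹) * h := by group
            _ = a * h := by rw [h1]
        rcases hCa h hhQ this with h2 | h2
        · left; exact h2
        · right; left; exact h2
      · have h2 : (t * h) * a = a * (t * h) := by
          have h3 : t * a⁻¹ * t⁻¹ = a := by
            have := hinv a⁻¹ (P.inv_mem haP)
            rwa [inv_inv] at this
          calc t * h * a = t * (h * a * h⁻¹) * h := by group
            _ = t * a⁻¹ * h := by rw [h1]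
            _ = (t * a⁻¹ * t⁻¹) * (t * h) := by group
            _ = a * (t * h) := by rw [h3]
        rcases hCa (t * h) (Q.mul_mem htQ hhQ) h2 with h4 | h4
        · right; right; left
          have : h = t⁻¹ := eq_inv_of_mul_eq_one_right h4
          rw [this, htinv]
        · right; right; right
          have : h = t⁻¹ * e := by rw [← h4]; group
          rw [this, htinv]
    -- the conjugates of `e` under `y`
    obtain ⟨e₂, he₂⟩ : ∃ e₂ : G, e₂ = y * e * y⁻¹ := ⟨_, rfl⟩
    obtain ⟨e₃, he₃⟩ : ∃ e₃ : G, e₃ = y * e₂ * y⁻¹ := ⟨_, rfl⟩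
    have he₂Q : e₂ ∈ Q := he₂ ▸ hyQ e heQ
    have he₃Q : e₃ ∈ Q := he₃ ▸ hyQ e₂ he₂Q
    have hσe₃ : y * e₃ * y⁻¹ = e := by rw [he₃, he₂]; exact hσ3 e
    have he₂sq : e₂ * e₂ = 1 := by rw [he₂, ← hσmul, hee]; group
    have he₃sq : e₃ * e₃ = 1 := by rw [he₃, ← hσmul, he₂sq]; group
    have he₂inv : e₂⁻¹ = e₂ := inv_eq_of_mul_eq_one_right he₂sq
    have he₂1 : e₂ ≠ 1 := by
      intro h
      apply he1
      have : e = y⁻¹ * e₂ * y := by rw [he₂]; group
      rw [this, h]
      group
    have he₂e : e₂ ≠ e := by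
      intro h
      rcases hfix e heQ (by rw [← he₂]; exact h) with h1 | h1
      · exact he1 h1
      · exact het h1
    have he₂t : e₂ ≠ t := by
      intro h
      apply het
      have : e = y⁻¹ * e₂ * y := by rw [he₂]; group
      rw [this, h]
      calc y⁻¹ * t * y = y⁻¹ * (y * t * y⁻¹) * y := by rw [hσt]
        _ = t := by group
    have he₂te : e₂ ≠ t * e := by
      intro h
      have h1 : e₃ = e := by
        rw [he₃, h, hσmul, hσt, ← he₂, h, ← mul_assoc, htt, one_mul]
      rw [h1] at hσe₃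
      exact he₂e (he₂.trans hσe₃)
    -- `e₂` commutes with `e`
    have hcomm : e₂ * e = e * e₂ := by
      by_contra hnc
      obtain ⟨H, hH⟩ : ∃ H : Subgroup G, H = Q ⊓ Subgroup.centralizer ({e} : Set G) := ⟨_, rfl⟩
      have hHmem : ∀ h : G, h ∈ H ↔ h ∈ Q ∧ h * e = e * h := by
        intro h
        rw [hH, Subgroup.mem_inf, Subgroup.mem_centralizer_singleton_iff]
      have hHQ : H ≤ Q := hH ▸ inf_le_left
      have he₂H : e₂ ∉ H := fun h => hnc ((hHmem _).mp h).2
      have hH4 : Nat.card H = 4 := by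
        have h3le := three_le_card (H := H) (a := 1) (b := t) (c := e) (one_mem _)
          ((hHmem t).mpr ⟨htQ, (htc e heQ).symm⟩) ((hHmem e).mpr ⟨heQ, rfl⟩)
          (Ne.symm ht1) (Ne.symm he1) (Ne.symm het)
        have hdvd : Nat.card H ∣ 8 := hQ8 ▸ Subgroup.card_dvd_of_le hHQ
        have hne8 : Nat.card H ≠ 8 := by
          intro h
          have : H = Q := Subgroup.eq_of_le_of_card_ge hHQ (by rw [h, hQ8])
          exact he₂H (this ▸ he₂Q)
        exact eq_four hdvd h3le hne8
      have hidx : (H.subgroupOf Q).index = 2 := by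
        have h1 := Subgroup.card_mul_index (H.subgroupOf Q)
        have h2 : Nat.card (H.subgroupOf Q) = Nat.card H :=
          Nat.card_congr (Subgroup.subgroupOfEquivOfLe hHQ).toEquiv
        rw [h2, hH4, hQ8] at h1
        omega
      have hmem2 : ∀ a b : G, a ∈ Q → b ∈ Q → a ∉ H → b ∉ H → a * b ∈ H := by
        intro a b haQ hbQ haH hbH
        have := Subgroup.mul_mem_iff_of_index_two hidx (a := ⟨a, haQ⟩) (b := ⟨b, hbQ⟩)
        simp only [Subgroup.mem_subgroupOf] at this
        exact this.mpr ⟨fun h => absurd h haH, fun h => absurd h hbH⟩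
      by_cases he₃H : e₃ ∈ H
      · have h1 := ((hHmem _).mp he₃H).2
        apply hnc
        have h2 : y * (e₃ * e) * y⁻¹ = y * (e * e₃) * y⁻¹ := by rw [h1]
        rw [hσmul, hσmul, hσe₃, ← he₂] at h2
        exact h2.symm
      · have h1 := ((hHmem _).mp (hmem2 e₃ e₂ he₃Q he₂Q he₃H he₂H)).2
        have hw : y * (e₃ * e₂ * e) * y⁻¹ = e₃ * e₂ * e := by
          rw [hσmul, hσmul, hσe₃, ← he₃, ← he₂, h1, mul_assoc]
        have hwQ : e₃ * e₂ * e ∈ Q := Q.mul_mem (Q.mul_mem he₃Q he₂Q) heQ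
        have key : (e * e₂) * (e * e₂) = 1 := by
          rcases hfix _ hwQ hw with h2 | h2
          · have h4 : e₃ = e * e₂ := by
              have : e₃ = (e₃ * e₂ * e) * e⁻¹ * e₂⁻¹ := by group
              rw [this, h2, heinv, he₂inv, one_mul]
            rw [← h4]
            exact he₃sq
          · have h4 : e₃ = t * (e * e₂) := by
              have : e₃ = (e₃ * e₂ * e) * e⁻¹ * e₂⁻¹ := by group
              rw [this, h2, heinv, he₂inv, mul_assoc]
            have h5 := he₃sq
            rw [h4] at h5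
            have h6 : (e * e₂) * t = t * (e * e₂) := htc _ (Q.mul_mem heQ he₂Q)
            have h7 : t * (e * e₂) * (t * (e * e₂)) = (t * t) * ((e * e₂) * (e * e₂)) := by
              calc t * (e * e₂) * (t * (e * e₂)) = t * ((e * e₂) * t) * (e * e₂) := by
                    simp only [mul_assoc]
                _ = t * (t * (e * e₂)) * (e * e₂) := by rw [h6]
                _ = (t * t) * ((e * e₂) * (e * e₂)) := by simp only [mul_assoc]
            rw [h7, htt, one_mul] at h5
            exact h5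
        apply hnc
        calc e₂ * e = e⁻¹ * ((e * e₂) * (e * e₂)) * e₂⁻¹ := by group
          _ = e⁻¹ * e₂⁻¹ := by rw [key, mul_one]
          _ = e * e₂ := by rw [heinv, he₂inv]
    rcases hCe e₂ he₂Q hcomm with h | h | h | h
    · exact he₂1 h
    · exact he₂e h
    · exact he₂t h
    · exact he₂te h
  -- (II) no element of order 8; conclusion
  intro q hqQ hq1 hqt
  by_cases h2 : q * q = 1
  · exact absurd (hI q hqQ h2 hq1) hqt
  by_cases h4 : (q * q) * (q * q) = 1
  · exact hI (q * q) (Q.mul_mem hqQ hqQ) h4 h2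
  exfalso
  have ho : orderOf q = 8 := by
    have hdvd : orderOf q ∣ 8 := hQ8 ▸ Subgroup.orderOf_dvd_natCard Q hqQ
    have hnot4 : ¬ orderOf q ∣ 4 := by
      intro h
      apply h4
      have h5 := orderOf_dvd_iff_pow_eq_one.mp h
      calc q * q * (q * q) = q ^ 4 := by simp only [pow_succ, pow_zero, one_mul, mul_assoc]
        _ = 1 := h5
    exact eq_eight hdvd hnot4
  have hzQ : Subgroup.zpowers q = Q :=
    Subgroup.eq_of_le_of_card_ge (Subgroup.zpowers_le.mpr hqQ)
      (by rw [Nat.card_zpowers, ho, hQ8])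
  have hσq : y * q * y⁻¹ ∈ Subgroup.zpowers q := hzQ ▸ hyQ q hqQ
  obtain ⟨n, hn⟩ := (Submonoid.mem_powers_iff _ _).mp (mem_powers_iff_mem_zpowers.mpr hσq)
  have h1 : y * (y * q * y⁻¹) * y⁻¹ = q ^ (n * n) := by
    rw [← hn, ← conj_pow, ← hn, ← pow_mul]
  have h2' : q ^ (n * n * n) = q ^ 1 := by
    rw [pow_one]
    have h5 := hσ3 q
    rw [h1, ← conj_pow, ← hn, ← pow_mul] at h5
    rw [← h5]
    congr 1
    ring
  rw [pow_eq_pow_iff_modEq, ho] at h2'
  have h3' : n ≡ 1 [MOD 8] := by
    have hr : n % 8 ≡ n [MOD 8] := Nat.mod_modEq n 8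
    have hr3 := ((hr.mul hr).mul hr).trans h2'
    have hlt : n % 8 < 8 := Nat.mod_lt n (by norm_num)
    obtain ⟨r, hr'⟩ : ∃ r, r = n % 8 := ⟨_, rfl⟩
    rw [← hr'] at hr hr3 hlt
    have hr1 : r = 1 := by
      interval_cases r <;> first | rfl | exact absurd hr3 (by decide)
    rw [hr1] at hr
    exact hr.symm
  have h4' : q ^ n = q ^ 1 := by
    rw [pow_eq_pow_iff_modEq, ho]
    exact h3'
  rw [pow_one] at h4'
  rcases hfix q hqQ (hn.symm.trans h4') with h | h
  · exact hq1 h
  · exact hqt h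

end core

theorem main (hC : CentSyl3.{u}) (hIC : InvCoset.{u}) : UniqInv.{u} := by
  intro G _ _ _ hG t Q y P ht hQ8 htQ hinv hnorm hy hyQ hfix
  exact uniq_core (P : Subgroup G) (Cfsg.Agent.Lib.Helper68.M11Facts.card_syl3 hG P)
    (fun g hg => hC G hG P g hg) (fun t' ht' hinv' s => hIC G hG P t' ht' hinv' s)
    (fun y hy => Cfsg.Agent.Lib.Helper68.M11Facts.cent3 hG y hy) t Q y ht hQ8 htQ hinv hnorm hy
    hyQ hfix

end Cfsg.Agent.Lib.Helper9.MUUNIQ
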