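import Mathlib
import Cfsg.Prelude.Def_OddOrderLocal

set_option autoImplicit false

/-!
# S1381 (M of Type II ⟺ K ≠ 1 and U ≠ 1): statements of the pieces

Data for Type II: `W₁ := K`, `U := U`, `W₂ := K* := sigmaCore M ⊓ centralizer K`.
For `K ≠ 1`, `U ≠ 1`: `M_σ` is nilpotent (`Helper22.BG147N0.nilpotent_of_U_ne_bot`),
`sigmaCore M = fittingHallOf M` (`Helper57.BG14FHCore.main_of hG M hM (S1350.result hG M hM).1 hnil`),
`⁅M, M⁆ = U ⊔ sigmaCore M` (`(S1365.result ..).1`), `U` abelian and `¬ N_G(U) ≤ M` (S1363),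
`|K|` prime and `F(M)` TI (S1372).
-/

namespace Cfsg.Agent.Lib.Helper9.S81Stmt

universe u

/-- FWD2.  Type II data `(W₁, Ut, W₂)`.  `K ≠ ⊥`: `Helper65.S89KNE34.main`.  If `U = ⊥`:
`⁅M, M⁆ = sigmaCore M` (`Helper55.S82W2.derEq`), so `Ut` is a nontrivial nilpotent complement of
`fittingHallOf M` in `sigmaCore M`, a Hall subgroup of `sigmaCore M`
(`Helper63.S89Core.fittingHallOf_rel`), and `N_G(Ut) ≤ M` by `Helper69.S82NDLE.main`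
(`Helper35.S82Stmt.NDLe`): contradiction with `¬ N_G(Ut) ≤ M`. -/
def Fwd2 : Prop :=
  ∀ {G : Type u} [Group G] [Finite G], Cfsg.IsMinSimpleOddOrder G →
  ∀ (M K U : Subgroup G), IsCoatom M → Cfsg.IsSigmaDecomposition M K U →
    Cfsg.IsOfTypeII M → K ≠ ⊥ ∧ U ≠ ⊥

/-- TP2A.  `hKU.hall` (κ-number / κ'-number); `Helper63.S53TAU1.compl_N hG hM hKU` with
`⁅M, M⁆ = U ⊔ sigmaCore M`; `U` abelian (S1363) hence nilpotent; `sigmaCore M = fittingHallOf M`,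
`sigmaCore M ⊓ U = ⊥` (`hKU.compl`), every element of `U ⊔ sigmaCore M` is `s * u`
(`sigmaCore M` normalized by `M`). -/
def TP2A : Prop :=
  ∀ {G : Type u} [Group G] [Finite G], Cfsg.IsMinSimpleOddOrder G →
  ∀ (M K U : Subgroup G), IsCoatom M → Cfsg.IsSigmaDecomposition M K U → K ≠ ⊥ → U ≠ ⊥ →
    (Nat.card K).Coprime (K.relIndex M) ∧ Cfsg.IsComplIn ⁅M, M⁆ K M ∧ Group.IsNilpotent U ∧
      Cfsg.IsComplIn (Cfsg.fittingHallOf M) U ⁅M, M⁆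

/-- TP2B.  `S1364.result` (`.2.2.2`, `.2.2.1`), `S1356.result` (three clauses, `sup_comm`;
`κ(M)` nonempty since `K ≠ ⊥` is a Hall `κ(M)`-subgroup), `Helper55.S82W2.w2le`. -/
def TP2B : Prop :=
  ∀ {G : Type u} [Group G] [Finite G], Cfsg.IsMinSimpleOddOrder G →
  ∀ (M K U : Subgroup G), IsCoatom M → Cfsg.IsSigmaDecomposition M K U → K ≠ ⊥ →
    ¬ IsCyclic (Cfsg.fittingHallOf M) ∧
    ⁅⁅M, M⁆, ⁅M, M⁆⁆ ≤ Cfsg.fittingHallOf M ⊔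
      (M ⊓ Subgroup.centralizer (Cfsg.fittingHallOf M : Set G)) ∧
    Cfsg.fittingHallOf M ⊔ (M ⊓ Subgroup.centralizer (Cfsg.fittingHallOf M : Set G)) =
      Cfsg.fittingOf M ∧
    Cfsg.fittingOf M ≤ ⁅M, M⁆ ∧
    Cfsg.sigmaCore M ⊓ Subgroup.centralizer (K : Set G) ≤
      Cfsg.fittingHallOf M ⊓ ⁅⁅M, M⁆, ⁅M, M⁆⁆

/-- TP2C.  `(S1354.result hG M hM K hKU.cyclic hKU.hall).2 hK1 x hx hx1 :
M ⊓ C({x}) = K ⊔ K*`; `K* ≤ sigmaCore M ≤ ⁅M, M⁆`; an element `k * c` (`k ∈ K`, `c ∈ K*`) of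
`⁅M, M⁆` has `k ∈ ⁅M, M⁆ ⊓ K = ⊥`. -/
def TP2C : Prop :=
  ∀ {G : Type u} [Group G] [Finite G], Cfsg.IsMinSimpleOddOrder G →
  ∀ (M K U : Subgroup G), IsCoatom M → Cfsg.IsSigmaDecomposition M K U → K ≠ ⊥ → U ≠ ⊥ →
    ∀ x ∈ K, x ≠ 1 → ⁅M, M⁆ ⊓ Subgroup.centralizer ({x} : Set G) =
      Cfsg.sigmaCore M ⊓ Subgroup.centralizer (K : Set G)

/-- FHEQ.  (≥) `fittingHallOf M = sigmaCore M ≤ ⁅M, M⁆` is a normal nilpotent Hall subgroup of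
`⁅M, M⁆`.  (≤) a normal nilpotent Hall subgroup `N` of `↥⁅M, M⁆` is the only subgroup of its
order in `⁅M, M⁆` (normal Hall), so it is normalized by `M`; its order is prime to
`|M : ⁅M, M⁆| = |K|`, so it is a normal nilpotent Hall subgroup of `M`. -/
def FHEq : Prop :=
  ∀ {G : Type u} [Group G] [Finite G], Cfsg.IsMinSimpleOddOrder G →
  ∀ (M K U : Subgroup G), IsCoatom M → Cfsg.IsSigmaDecomposition M K U → K ≠ ⊥ → U ≠ ⊥ →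
    Cfsg.fittingHallOf ⁅M, M⁆ = Cfsg.fittingHallOf M

/-- TYPEF.  `X := ↥⁅M, M⁆`; by the hypothesis `fittingHall X` is `sigmaCore M` inside `X`
(`≠ ⊥`: S1355; `≠ ⊤`: `U ≠ ⊥`).  Complement `U.subgroupOf ⁅M, M⁆` (`≠ ⊥`), `U₁ :=` the same
subgroup (abelian by S1363), `U₀' := U₀.subgroupOf ⁅M, M⁆` for `U₀` of
`S1360.result hG M hM K U hKU` (`U₀ ≤ U`, same exponent, no element `≠ 1` in `sigmaHat M`, i.e.
no nontrivial fixed point on `sigmaCore M`).  Solvable / odd: `hG`. -/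
def TypeF : Prop :=
  ∀ {G : Type u} [Group G] [Finite G], Cfsg.IsMinSimpleOddOrder G →
  ∀ (M K U : Subgroup G), IsCoatom M → Cfsg.IsSigmaDecomposition M K U → K ≠ ⊥ → U ≠ ⊥ →
    Cfsg.fittingHallOf ⁅M, M⁆ = Cfsg.fittingHallOf M → Cfsg.IsOfTypeF ↥⁅M, M⁆

end Cfsg.Agent.Lib.Helper9.S81Stmt
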