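import Mathlib
import Cfsg.Agent.Lib.Helper9.Narrow6
import Cfsg.Agent.S0128
import Cfsg.Agent.S0639
import Cfsg.Agent.S1447

/-!
Bender–Glauberman 4.9 (last part): a `p`-group `R` of rank at most 2 which is non-abelian and
equal to `[R, A]` for a group `A` of automorphisms of prime order `q` with `q ∤ p (p - 1)`
has order `p ^ 3`.
-/

set_option autoImplicit false

namespace Cfsg.Agent.Lib.Helper9.Narrow7

open scoped commutatorElement

universe u

theorem card_cube {G : Type u} [Group G] [Finite G] {p : ℕ} [Fact p.Prime] (hp : p ≠ 2)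
    (R A : Subgroup G) (hR : IsPGroup p R)
    (hrk : Cfsg.PRankLE p 2 R) (hA : A ≤ Subgroup.normalizer (R : Set G))
    (hq : (Nat.card A).Prime) (hq1 : ¬ Nat.card A ∣ p * (p - 1))
    (h2q : 2 * Nat.card A ∣ p + 1)
    (hRA : ⁅R, A⁆ = R) (hnc : ¬ IsMulCommutative R) : Nat.card R = p ^ 3 := by
  have hpp : p.Prime := Fact.out
  have hp3 : 3 < p := by
    have h3 : p ≠ 3 := by
      intro h
      rw [h] at h2q hq1
      have h4 : 2 * Nat.card A ≤ 4 := Nat.le_of_dvd (by norm_num) h2q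
      have h5 := hq.two_le
      have h6 : Nat.card A = 2 := by omega
      apply hq1
      rw [h6]
      decide
    have h4 : p ≠ 4 := by
      intro h
      rw [h] at hpp
      exact absurd hpp (by decide)
    have := hpp.two_le
    omega
  have hqp : Nat.card A ≠ p := by
    intro h
    apply hq1
    rw [h]
    exact dvd_mul_right p (p - 1)
  have hcopA : (Nat.card A).Coprime p := (Nat.coprime_primes hq hpp).mpr hqp
  have hcopA' : (Nat.card A).Coprime (p - 1) := by
    rw [Nat.Prime.coprime_iff_not_dvd hq]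
    intro h
    exact hq1 (dvd_mul_of_dvd_right h p)
  obtain ⟨Ω, hΩdef⟩ : ∃ Ω : Subgroup ↥R, Ω = Subgroup.closure {x : ↥R | x ^ p = 1} := ⟨_, rfl⟩
  have hexp : ∀ g ∈ Ω, g ^ p = 1 := by
    intro g hg
    rw [hΩdef] at hg
    exact Cfsg.Agent.S0128.result hp3 hR (fun E hE => hrk E hE.1 hE.2) g hg
  have hΩ : ∀ y : ↥R, y ∈ Ω ↔ y ^ p = 1 := by
    intro y
    refine ⟨hexp y, fun h => ?_⟩
    rw [hΩdef]
    exact Subgroup.subset_closure h
  have hrkΩ : Cfsg.PRankLE p 2 ↥Ω :=
    Cfsg.Agent.S1335.pRankLE_of_injective p 2 Ω.subtype (Subgroup.subtype_injective Ω) hrk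
  have hc3 : Nat.card Ω ≤ p ^ 3 := by
    apply Cfsg.Agent.S3771.result (hR.to_subgroup Ω) hrkΩ
    intro y
    apply Subtype.ext
    have := hexp y y.2
    simpa using this
  by_cases hsmall : Nat.card Ω ≤ p ^ 2
  · have hO : Nat.card ↥(Cfsg.omegaOne p (⊤ : Subgroup ↥R)) ≤ p ^ 2 := by
      have h1 : Cfsg.omegaOne p (⊤ : Subgroup ↥R) = Ω := by
        rw [hΩdef]
        unfold Cfsg.omegaOne
        congr 1
        ext x
        simp
      rw [h1]
      exact hsmall
    have hm := Cfsg.Agent.S0639.result hp3 hR hO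
    have h1 := (Cfsg.Agent.S1447.result p hp R A hR hm hA hcopA).1
    rw [hRA] at h1
    exact absurd h1 hnc
  · have hcard : Nat.card Ω = p ^ 3 := by
      obtain ⟨k, hk⟩ := IsPGroup.iff_card.mp (hR.to_subgroup Ω)
      rw [hk] at hc3 hsmall ⊢
      push Not at hsmall
      have h1 := (Nat.pow_lt_pow_iff_right hpp.one_lt).mp hsmall
      have h2 := (Nat.pow_le_pow_iff_right hpp.one_lt).mp hc3
      have h3 : k = 3 := by omega
      rw [h3]
    obtain ⟨c, hc⟩ : ∃ c : ↥A →* MulAut ↥R,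
        c = Cfsg.Agent.Lib.Helper24.ConjAction.conjHom A R hA := ⟨_, rfl⟩
    have hord : ∀ a : ↥A, orderOf (c a) ∣ Nat.card A := fun a =>
      dvd_trans (orderOf_map_dvd c a) (orderOf_dvd_natCard a)
    have hcore : ∀ (a : ↥A) (x : ↥R), x⁻¹ * c a x ∈ Ω := fun a =>
      Cfsg.Agent.Lib.Helper9.Narrow6.cube_core hp hR hrk Ω hΩ hcard (c a)
        (Nat.Coprime.coprime_dvd_left (hord a) hcopA)
        (Nat.Coprime.coprime_dvd_left (hord a) hcopA')
    have hle : ⁅R, A⁆ ≤ Ω.map R.subtype := by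
      rw [Subgroup.commutator_le]
      intro r hr a ha
      refine ⟨(⟨r, hr⟩ : ↥R)⁻¹⁻¹ * c ⟨a, ha⟩ (⟨r, hr⟩⁻¹), hcore ⟨a, ha⟩ (⟨r, hr⟩⁻¹), ?_⟩
      rw [hc]
      simp only [Subgroup.coe_subtype, Subgroup.coe_mul, Subgroup.coe_inv,
        Cfsg.Agent.Lib.Helper24.ConjAction.conjHom_apply]
      rw [commutatorElement_def]
      group
    rw [hRA] at hle
    have h3 : Nat.card R ≤ Nat.card ↥(Ω.map R.subtype) := Subgroup.card_le_of_le hle
    rw [Subgroup.card_map_of_injective R.subtype_injective, hcard] at h3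
    have h4 : Nat.card Ω ≤ Nat.card R := Subgroup.card_le_card_group Ω
    rw [hcard] at h4
    exact le_antisymm h3 h4

end Cfsg.Agent.Lib.Helper9.Narrow7
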