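import Cfsg.Agent.Lib.Helper9.Puig1
import Cfsg.Agent.Lib.Helper9.QuadOdd4
import Cfsg.Agent.Lib.Helper11.ZJQuot

/-!
# Puig's theorems for solvable groups of odd order (assuming `S1463Stmt`)

* `puig_compare` (S1468): `L_*(S) ≤ L_*(T) ≤ L(T) ≤ L(S)` for `T = O_p(G)`, `O_{p'}(G) = 1`.
* `puig_normal` (S1469, second part): `Z(L(S))` is normal in `G` when `O_{p'}(G) = 1`.
* `puig_sup` (S1469, first part): `G = O_{p'}(G) N_G(Z(L(S)))`.
-/

set_option autoImplicit false

universe u

namespace Cfsg.Agent.Lib.Helper9.Puig2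

open Cfsg.Agent.Lib.Helper9.QuadOdd1 Cfsg.Agent.Lib.Helper9.QuadOdd4
open Cfsg.Agent.Lib.Helper9.Puig1
open Cfsg.Agent.Lib.Helper76.PSolv

section

variable {G : Type u} [Group G] [Finite G] [Group.IsSolvable G]

omit [Finite G] [Group.IsSolvable G] in
theorem le_relStep_bot (H : Subgroup G) : H ≤ relStep H ⊥ := by
  intro h hh
  have h1 : Subgroup.zpowers h ∈ relFam H ⊥ :=
    ⟨by rw [Subgroup.zpowers_le]; exact hh, inferInstance, bot_le⟩
  exact (le_sSup h1) (Subgroup.mem_zpowers h)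

/-- `p`-stability: the abelian subgroups of `S` normalized by a normal subgroup `P ≤ T` that
contains its centralizer in `T = O_p(G)` lie in `T`. -/
theorem relStep_le_of_stable (hS : S1463Stmt) (hodd : Odd (Nat.card G)) {p : ℕ} [Fact p.Prime]
    (hp : p ≠ 2) (hO : Cfsg.pPrimeCore p G = ⊥) (S : Sylow p G) (P : Subgroup G) [P.Normal]
    (hPT : P ≤ Cfsg.pCore p G)
    (hCP : Cfsg.pCore p G ⊓ Subgroup.centralizer (P : Set G) ≤ P) :
    relStep (S : Subgroup G) P ≤ relStep (Cfsg.pCore p G) P := by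
  apply sSup_le
  intro A hA
  obtain ⟨hAS, hAc, hAn⟩ := hA
  have h1 := (gen_abelian hS hodd p hp P ((pCore_isPGroup p).to_le hPT) {A}
    (by
      intro B hB
      rw [Set.mem_singleton_iff] at hB
      subst hB
      exact ⟨hAc, S.isPGroup'.to_le hAS, hAn⟩)).2 hO hCP
  rw [sSup_singleton] at h1
  exact le_sSup ⟨h1, hAc, hAn⟩

theorem seq_compare (hS : S1463Stmt) (hodd : Odd (Nat.card G)) {p : ℕ} [Fact p.Prime]
    (hp : p ≠ 2) (hO : Cfsg.pPrimeCore p G = ⊥) (S : Sylow p G) (n : ℕ) :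
    relSeq (S : Subgroup G) (2 * n) ≤ relSeq (Cfsg.pCore p G) (2 * n) ∧
      relSeq (Cfsg.pCore p G) (2 * n + 1) ≤ relSeq (S : Subgroup G) (2 * n + 1) := by
  have hTS : Cfsg.pCore p G ≤ S := pCore_le_sylow S
  induction n with
  | zero =>
    refine ⟨by rw [relSeq_zero]; exact bot_le, ?_⟩
    show relStep (Cfsg.pCore p G) ⊥ ≤ relStep (S : Subgroup G) ⊥
    exact relStep_mono_left _ hTS
  | succ n ih =>
    obtain ⟨_, ih2⟩ := ih
    have hPn : (relSeq (Cfsg.pCore p G) (2 * n + 1)).Normal := relSeq_normal _ _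
    have hstep1 : relSeq (S : Subgroup G) (2 * n + 1 + 1) ≤
        relSeq (Cfsg.pCore p G) (2 * n + 1 + 1) := by
      rw [relSeq_succ, relSeq_succ]
      exact (relStep_anti ih2).trans (relStep_le_of_stable hS hodd hp hO S _ (relSeq_le _ _)
        (centralizer_relSeq_le _ (pCore_isPGroup p) _ (by omega)))
    have hstep2 : relSeq (Cfsg.pCore p G) (2 * n + 1 + 1 + 1) ≤
        relSeq (S : Subgroup G) (2 * n + 1 + 1 + 1) := by
      rw [relSeq_succ _ (2 * n + 1 + 1), relSeq_succ _ (2 * n + 1 + 1)]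
      exact (relStep_anti hstep1).trans (relStep_mono_left _ hTS)
    exact ⟨hstep1, hstep2⟩

/-- **S1468** in relative form. -/
theorem puig_compare (hS : S1463Stmt) (hodd : Odd (Nat.card G)) {p : ℕ} [Fact p.Prime]
    (hp : p ≠ 2) (hO : Cfsg.pPrimeCore p G = ⊥) (S : Sylow p G) :
    relLstar (S : Subgroup G) ≤ relLstar (Cfsg.pCore p G) ∧
      relLstar (Cfsg.pCore p G) ≤ relL (Cfsg.pCore p G) ∧
      relL (Cfsg.pCore p G) ≤ relL (S : Subgroup G) :=
  ⟨iSup_mono (fun n => (seq_compare hS hodd hp hO S n).1), relLstar_le_relL _,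
    iInf_mono (fun n => (seq_compare hS hodd hp hO S n).2)⟩

/-- if `L(S) ≤ O_p(G)` then `L(S) = L(O_p(G))`. -/
theorem relL_eq_of_le (hS : S1463Stmt) (hodd : Odd (Nat.card G)) {p : ℕ} [Fact p.Prime]
    (hp : p ≠ 2) (hO : Cfsg.pPrimeCore p G = ⊥) (S : Sylow p G)
    (h : relL (S : Subgroup G) ≤ Cfsg.pCore p G) :
    relL (S : Subgroup G) = relL (Cfsg.pCore p G) := by
  have hTS : Cfsg.pCore p G ≤ S := pCore_le_sylow S
  have key : ∀ n : ℕ, relSeq (Cfsg.pCore p G) (2 * n) ≤ relLstar (S : Subgroup G) ∧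
      relL (S : Subgroup G) ≤ relSeq (Cfsg.pCore p G) (2 * n + 1) := by
    intro n
    induction n with
    | zero =>
      refine ⟨by rw [relSeq_zero]; exact bot_le, ?_⟩
      show relL (S : Subgroup G) ≤ relStep (Cfsg.pCore p G) ⊥
      exact h.trans (le_relStep_bot _)
    | succ n ih =>
      obtain ⟨_, ih2⟩ := ih
      have h1 : relSeq (Cfsg.pCore p G) (2 * n + 1 + 1) ≤ relLstar (S : Subgroup G) := by
        rw [relSeq_succ]
        calc relStep (Cfsg.pCore p G) (relSeq (Cfsg.pCore p G) (2 * n + 1))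
            ≤ relStep (Cfsg.pCore p G) (relL (S : Subgroup G)) := relStep_anti ih2
          _ ≤ relStep (S : Subgroup G) (relL (S : Subgroup G)) := relStep_mono_left _ hTS
          _ = relLstar (S : Subgroup G) := relStep_relL _
      have hPn : (relSeq (Cfsg.pCore p G) (2 * n + 1 + 1)).Normal := relSeq_normal _ _
      have h2 : relL (S : Subgroup G) ≤ relSeq (Cfsg.pCore p G) (2 * n + 1 + 1 + 1) := by
        rw [relSeq_succ _ (2 * n + 1 + 1)]
        calc relL (S : Subgroup G) = relStep (S : Subgroup G) (relLstar (S : Subgroup G)) :=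
              (relStep_relLstar _).symm
          _ ≤ relStep (S : Subgroup G) (relSeq (Cfsg.pCore p G) (2 * n + 1 + 1)) :=
              relStep_anti h1
          _ ≤ relStep (Cfsg.pCore p G) (relSeq (Cfsg.pCore p G) (2 * n + 1 + 1)) :=
              relStep_le_of_stable hS hodd hp hO S _ (relSeq_le _ _)
                (centralizer_relSeq_le _ (pCore_isPGroup p) _ (by omega))
      exact ⟨h1, h2⟩
  exact le_antisymm (le_iInf (fun n => (key n).2)) (puig_compare hS hodd hp hO S).2.2

end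

section main

open Cfsg.Agent.Lib.Helper11.ZJ Cfsg.Agent.Lib.Helper11.ZJQuot Cfsg.Agent.Lib.Helper76.SylowTools

/-- **Puig's theorem** (S1469, second part): `Z(L(S))` is normal in `G` when `O_{p'}(G) = 1`. -/
theorem puig_normal (hS : S1463Stmt) {p : ℕ} [Fact p.Prime] (hp : p ≠ 2) :
    ∀ (n : ℕ) (G : Type u) [Group G] [Finite G] [Group.IsSolvable G], Nat.card G = n →
      Odd (Nat.card G) → Cfsg.pPrimeCore p G = ⊥ →
      ∀ S : Sylow p G, (ZL (S : Subgroup G)).Normal := by
  intro n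
  induction n using Nat.strong_induction_on with
  | _ n IH =>
    intro G _ _ _ hn hodd hO S
    have hpr : p.Prime := Fact.out
    have hTS : Cfsg.pCore p G ≤ S := pCore_le_sylow S
    obtain ⟨hc1, hc2, hc3⟩ := puig_compare hS hodd hp hO S
    -- Z(L(S)) ≤ L_*(S)
    have hZ_Ls : ZL (S : Subgroup G) ≤ relLstar (S : Subgroup G) := by
      rw [← relStep_relL]
      apply le_sSup
      refine ⟨ZL_le _, ZL_comm _, ?_⟩
      intro l hl
      have hcomm : ∀ z ∈ ZL (S : Subgroup G), l * z * l⁻¹ = z := by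
        intro z hz
        have h1 := (Subgroup.mem_centralizer_iff.mp (Subgroup.mem_inf.mp hz).2) l hl
        rw [h1]; group
      have hcomm' : ∀ z ∈ ZL (S : Subgroup G), l⁻¹ * z * l = z := by
        intro z hz
        have h1 := (Subgroup.mem_centralizer_iff.mp (Subgroup.mem_inf.mp hz).2) l hl
        rw [mul_assoc, ← h1]; group
      rw [Subgroup.mem_normalizer_iff]
      intro z
      constructor
      · intro hz
        rw [hcomm z hz]; exact hz
      · intro hz
        have h2 := hcomm' _ hz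
        have e : l⁻¹ * (l * z * l⁻¹) * l = z := by group
        rw [e] at h2
        rw [h2]; exact hz
    -- Z(L(S)) ≤ Z(L(T))
    have hZZT : ZL (S : Subgroup G) ≤ ZL (Cfsg.pCore p G) := by
      intro z hz
      exact Subgroup.mem_inf.mpr ⟨hc2 (hc1 (hZ_Ls hz)),
        Subgroup.centralizer_le hc3 (Subgroup.mem_inf.mp hz).2⟩
    have hZTn : (ZL (Cfsg.pCore p G)).Normal := ZL_normal _
    have hZT_Ls : ZL (Cfsg.pCore p G) ≤ relLstar (S : Subgroup G) := by
      refine le_trans ?_ (relSeq_even_le_relLstar (S : Subgroup G) 1)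
      show ZL (Cfsg.pCore p G) ≤ relStep (S : Subgroup G) (relSeq (S : Subgroup G) 1)
      apply le_sSup
      refine ⟨(ZL_le _).trans hTS, ZL_comm _, ?_⟩
      rw [Subgroup.normalizer_eq_top_iff.mpr hZTn]
      exact le_top
    have hZTp : IsPGroup p (ZL (Cfsg.pCore p G)) := (pCore_isPGroup p).to_le (ZL_le _)
    have hkey := (gen_abelian hS hodd p hp (ZL (Cfsg.pCore p G)) hZTp
      (relFam (S : Subgroup G) (relLstar (S : Subgroup G)))
      (by
        intro B hB
        exact ⟨hB.2.1, S.isPGroup'.to_le hB.1, hZT_Ls.trans hB.2.2⟩)).1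
    have hLmap : (relL (S : Subgroup G)).map
        (QuotientGroup.mk' (Subgroup.centralizer (ZL (Cfsg.pCore p G) : Set G))) ≤
        Cfsg.pCore p (G ⧸ Subgroup.centralizer (ZL (Cfsg.pCore p G) : Set G)) := by
      rw [← relStep_relLstar]
      exact hkey
    obtain ⟨H, hH⟩ : ∃ H : Subgroup G,
        H = (Cfsg.pCore p (G ⧸ (Subgroup.centralizer (ZL (Cfsg.pCore p G) : Set G)))).comap
          (QuotientGroup.mk' (Subgroup.centralizer (ZL (Cfsg.pCore p G) : Set G))) := ⟨_, rfl⟩
    have hHn : H.Normal := by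
      rw [hH]
      exact Subgroup.Normal.comap inferInstance _
    have hCH : (Subgroup.centralizer (ZL (Cfsg.pCore p G) : Set G)) ≤ H := by
      intro c hc
      rw [hH, Subgroup.mem_comap]
      have h1 : QuotientGroup.mk' (Subgroup.centralizer (ZL (Cfsg.pCore p G) : Set G)) c = 1 := by
        rw [QuotientGroup.mk'_apply, QuotientGroup.eq_one_iff]; exact hc
      rw [h1]
      exact Subgroup.one_mem _
    have hLH : relL (S : Subgroup G) ≤ H := by
      rw [hH]
      exact Subgroup.map_le_iff_le_comap.mp hLmap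
    have hHC : ∀ x ∈ H, ∃ k : ℕ, x ^ (p ^ k) ∈ (Subgroup.centralizer (ZL (Cfsg.pCore p G) : Set G)) := by
      intro x hx
      rw [hH, Subgroup.mem_comap] at hx
      obtain ⟨k, hk⟩ := pCore_isPGroup p
        (G := G ⧸ (Subgroup.centralizer (ZL (Cfsg.pCore p G) : Set G))) ⟨_, hx⟩
      refine ⟨k, ?_⟩
      have hk' : (QuotientGroup.mk' (Subgroup.centralizer (ZL (Cfsg.pCore p G) : Set G)) x) ^ p ^ k = 1 := by
        have := congrArg Subtype.val hk
        simpa using this
      rw [← map_pow, QuotientGroup.mk'_apply, QuotientGroup.eq_one_iff] at hk'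
      exact hk'
    have hfr := frattini_core S (Subgroup.centralizer (ZL (Cfsg.pCore p G) : Set G)) H hCH hHC
    have hCN : (Subgroup.centralizer (ZL (Cfsg.pCore p G) : Set G)) ≤
        Subgroup.normalizer (ZL (S : Subgroup G) : Set G) :=
      (Subgroup.centralizer_le hZZT).trans (Subgroup.centralizer_le_normalizer _)
    by_cases htop : Subgroup.normalizer ((((S : Subgroup G) ⊓ H : Subgroup G)) : Set G) = ⊤
    · -- `S ∩ H` is normal, so `L(S) ≤ O_p(G)` and `L(S) = L(O_p(G))`
      have hS1n : ((S : Subgroup G) ⊓ H).Normal := Subgroup.normalizer_eq_top_iff.mp htop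
      have hS1T : (S : Subgroup G) ⊓ H ≤ Cfsg.pCore p G :=
        le_pCore hS1n (S.isPGroup'.to_le inf_le_left)
      have hLT : relL (S : Subgroup G) ≤ Cfsg.pCore p G :=
        (le_inf (relL_le _) hLH).trans hS1T
      have hLeq := relL_eq_of_le hS hodd hp hO S hLT
      have hZeq : ZL (S : Subgroup G) = ZL (Cfsg.pCore p G) := by
        unfold ZL
        rw [hLeq]
      rw [hZeq]
      exact hZTn
    · -- induction in `N_G(S ∩ H)`
      obtain ⟨G1, hG1⟩ : ∃ G1 : Subgroup G,
          G1 = Subgroup.normalizer ((((S : Subgroup G) ⊓ H : Subgroup G)) : Set G) := ⟨_, rfl⟩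
      rw [← hG1] at hfr htop
      have hSG1 : (S : Subgroup G) ≤ G1 := by
        rw [hG1]
        intro s hs
        have hs' : s⁻¹ ∈ (S : Subgroup G) := Subgroup.inv_mem _ hs
        rw [Subgroup.mem_normalizer_iff]
        intro x
        constructor
        · intro hx
          obtain ⟨hx1, hx2⟩ := Subgroup.mem_inf.mp hx
          exact Subgroup.mem_inf.mpr ⟨Subgroup.mul_mem _ (Subgroup.mul_mem _ hs hx1) hs',
            hHn.conj_mem x hx2 s⟩
        · intro hx
          obtain ⟨hx1, hx2⟩ := Subgroup.mem_inf.mp hx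
          have e : x = s⁻¹ * (s * x * s⁻¹) * s⁻¹⁻¹ := by group
          rw [e]
          exact Subgroup.mem_inf.mpr ⟨Subgroup.mul_mem _ (Subgroup.mul_mem _ hs' hx1)
            (Subgroup.inv_mem _ hs'), hHn.conj_mem _ hx2 s⁻¹⟩
      have hlt : Nat.card G1 < n := by
        rw [← hn]
        by_contra hcon
        push Not at hcon
        have h1 : Nat.card (⊤ : Subgroup G) ≤ Nat.card G1 := by
          rw [Subgroup.card_top]; exact hcon
        exact htop (Subgroup.eq_of_le_of_card_ge le_top h1)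
      have hodd1 : Odd (Nat.card G1) := hodd.of_dvd_nat (Subgroup.card_subgroup_dvd_card _)
      -- `O_{p'}(G1) = 1`
      have hO1 : Cfsg.pPrimeCore p ↥G1 = ⊥ := by
        obtain ⟨K, hK⟩ : ∃ K : Subgroup G, K = (Cfsg.pPrimeCore p ↥G1).map G1.subtype :=
          ⟨_, rfl⟩
        have hKc : (Nat.card K).Coprime p := by
          rw [hK, Subgroup.card_map_of_injective G1.subtype_injective]
          exact pPrimeCore_coprime p
        have hKT : Cfsg.pCore p G ⊓ K = ⊥ :=
          inf_eq_bot_of_pgroup_coprime _ _ (pCore_isPGroup p) hKc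
        have hKnorm : ∀ t ∈ G1, ∀ k ∈ K, t * k * t⁻¹ ∈ K := by
          intro t ht k hk
          rw [hK] at hk ⊢
          obtain ⟨k0, hk0, rfl⟩ := Subgroup.mem_map.mp hk
          have hn1 : (Cfsg.pPrimeCore p ↥G1).Normal := inferInstance
          exact ⟨⟨t, ht⟩ * k0 * ⟨t, ht⟩⁻¹, hn1.conj_mem k0 hk0 ⟨t, ht⟩, rfl⟩
        have hKcent : K ≤ Subgroup.centralizer (Cfsg.pCore p G : Set G) := by
          intro k hk
          rw [Subgroup.mem_centralizer_iff]
          intro t ht
          have hTn : (Cfsg.pCore p G).Normal := inferInstance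
          have h1 : k * t * k⁻¹ * t⁻¹ ∈ Cfsg.pCore p G :=
            Subgroup.mul_mem _ (hTn.conj_mem t ht k) (Subgroup.inv_mem _ ht)
          have h2 : k * t * k⁻¹ * t⁻¹ ∈ K := by
            have h3 := hKnorm t (hSG1 (hTS ht)) k⁻¹ (Subgroup.inv_mem _ hk)
            have e : k * t * k⁻¹ * t⁻¹ = k * (t * k⁻¹ * t⁻¹) := by group
            rw [e]
            exact Subgroup.mul_mem _ hk h3
          have h4 : k * t * k⁻¹ * t⁻¹ ∈ Cfsg.pCore p G ⊓ K := Subgroup.mem_inf.mpr ⟨h1, h2⟩
          rw [hKT, Subgroup.mem_bot] at h4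
          calc t * k = (k * t * k⁻¹ * t⁻¹)⁻¹ * k * t := by group
            _ = k * t := by rw [h4]; group
        have hKle : K ≤ Cfsg.pCore p G ⊓ K :=
          le_inf (hKcent.trans (Cfsg.Agent.S0017.result p hO)) le_rfl
        rw [hKT, le_bot_iff, hK] at hKle
        exact (Subgroup.map_eq_bot_iff_of_injective _ G1.subtype_injective).mp hKle
      have hN1 := IH (Nat.card G1) hlt ↥G1 rfl hodd1 hO1 (S.subtype hSG1)
      have hmap : (ZL ((S.subtype hSG1 : Sylow p ↥G1) : Subgroup ↥G1)).map G1.subtype =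
          ZL (S : Subgroup G) := by
        rw [ZL_map G1.subtype (subtype_inj_on G1 _), Sylow.coe_subtype,
          Subgroup.subgroupOf_map_subtype, inf_eq_left.mpr hSG1]
      have hZG1 : ZL (S : Subgroup G) ≤ G1 := (ZL_le _).trans hSG1
      have hsub : (ZL (S : Subgroup G)).subgroupOf G1 =
          ZL ((S.subtype hSG1 : Sylow p ↥G1) : Subgroup ↥G1) := by
        rw [← hmap, Subgroup.subgroupOf, Subgroup.comap_map_eq_self_of_injective
          G1.subtype_injective]
      have hnorm1 : ((ZL (S : Subgroup G)).subgroupOf G1).Normal := by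
        rw [hsub]; exact hN1
      have hG1N : G1 ≤ Subgroup.normalizer (ZL (S : Subgroup G) : Set G) :=
        Subgroup.le_normalizer_of_normal_subgroupOf hZG1
      rw [← Subgroup.normalizer_eq_top_iff, eq_top_iff, ← hfr]
      exact sup_le hG1N hCN

/-- **Puig's theorem** (S1469, first part): `G = O_{p'}(G) N_G(Z(L(S)))`. -/
theorem puig_sup (hS : S1463Stmt) {G : Type u} [Group G] [Finite G] [Group.IsSolvable G]
    (hodd : Odd (Nat.card G)) (p : ℕ) [Fact p.Prime] (hp : p ≠ 2) (S : Sylow p G) :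
    Cfsg.pPrimeCore p G ⊔ Subgroup.normalizer (ZL (S : Subgroup G) : Set G) = ⊤ := by
  have hpr : p.Prime := Fact.out
  have hKc : (Nat.card (Cfsg.pPrimeCore p G)).Coprime p := pPrimeCore_coprime p
  have hπ : Function.Surjective (QuotientGroup.mk' (Cfsg.pPrimeCore p G)) :=
    QuotientGroup.mk'_surjective _
  have hoddq : Odd (Nat.card (G ⧸ Cfsg.pPrimeCore p G)) :=
    hodd.of_dvd_nat (Subgroup.card_quotient_dvd_card _)
  have hN := puig_normal hS hp _ (G ⧸ Cfsg.pPrimeCore p G) rfl hoddq (pPrimeCore_quotient p)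
    (S.mapSurjective hπ)
  have hSK : (S : Subgroup G) ⊓ Cfsg.pPrimeCore p G = ⊥ :=
    inf_eq_bot_of_pgroup_coprime _ _ S.isPGroup' hKc
  have hinj : ∀ x ∈ (S : Subgroup G), QuotientGroup.mk' (Cfsg.pPrimeCore p G) x = 1 → x = 1 := by
    intro x hx h1
    rw [QuotientGroup.mk'_apply, QuotientGroup.eq_one_iff] at h1
    have h2 : x ∈ (S : Subgroup G) ⊓ Cfsg.pPrimeCore p G := Subgroup.mem_inf.mpr ⟨hx, h1⟩
    rwa [hSK, Subgroup.mem_bot] at h2
  have hmap : (ZL (S : Subgroup G)).map (QuotientGroup.mk' (Cfsg.pPrimeCore p G)) =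
      ZL ((S.mapSurjective hπ : Sylow p (G ⧸ Cfsg.pPrimeCore p G)) :
        Subgroup (G ⧸ Cfsg.pPrimeCore p G)) := by
    rw [ZL_map _ hinj, Sylow.coe_mapSurjective]
  have hZbn : ((ZL (S : Subgroup G)).map (QuotientGroup.mk' (Cfsg.pPrimeCore p G))).Normal := by
    rw [hmap]; exact hN
  have hZp : IsPGroup p (ZL (S : Subgroup G)) := S.isPGroup'.to_le (ZL_le _)
  have hZKn : (ZL (S : Subgroup G) ⊔ Cfsg.pPrimeCore p G).Normal := by
    have h1 := Subgroup.comap_map_eq (QuotientGroup.mk' (Cfsg.pPrimeCore p G))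
      (ZL (S : Subgroup G))
    rw [QuotientGroup.ker_mk'] at h1
    rw [← h1]
    exact hZbn.comap _
  have hsyl : IsSylowIn p (ZL (S : Subgroup G)) (ZL (S : Subgroup G) ⊔ Cfsg.pPrimeCore p G) := by
    refine ⟨le_sup_left, hZp, ?_⟩
    rw [relIndex_sup_of_normal]
    intro hdvd
    have h2 : p ∣ Nat.card (Cfsg.pPrimeCore p G) := hdvd.trans (Subgroup.relIndex_dvd_card _ _)
    exact (Nat.Prime.coprime_iff_not_dvd hpr).mp hKc.symm h2
  have hfr := frattini_isSylowIn hsyl
  rw [eq_top_iff] at hfr ⊢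
  refine hfr.trans ?_
  rw [sup_comm (Cfsg.pPrimeCore p G)]
  exact sup_le le_sup_left (sup_le (Subgroup.le_normalizer.trans le_sup_left) le_sup_right)

end main

end Cfsg.Agent.Lib.Helper9.Puig2
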