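import Mathlib
import Cfsg.Agent.Lib.Helper62.Wielandt

set_option autoImplicit false

namespace Cfsg.Agent.Lib.Helper9.Zip

open Subgroup
open scoped Pointwise
open Cfsg.Agent.Lib.Helper62

universe u

variable {G : Type u} [Group G]

/-- The join of a family of subgroups of `K`, each subnormal in `K`, is subnormal in `K`. -/
theorem subgroupOf_sSup_isSubnormal [Finite G] (K : Subgroup G) (S₀ : Set (Subgroup G))
    (hle : ∀ B ∈ S₀, B ≤ K) (hsn : ∀ B ∈ S₀, (B.subgroupOf K).IsSubnormal) :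
    ((sSup S₀ : Subgroup G).subgroupOf K).IsSubnormal := by
  have e : (sSup S₀ : Subgroup G).subgroupOf K
      = sSup ((fun B : Subgroup G => B.subgroupOf K) '' S₀) := by
    apply le_antisymm
    · intro x hx
      rw [mem_subgroupOf] at hx
      have h1 : sSup S₀ ≤ (sSup ((fun B : Subgroup G => B.subgroupOf K) '' S₀)).map K.subtype := by
        apply sSup_le
        intro B hB
        have h2 : B = (B.subgroupOf K).map K.subtype := by
          rw [subgroupOf_map_subtype, inf_eq_left.2 (hle B hB)]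
        rw [h2]
        exact Subgroup.map_mono (le_sSup (Set.mem_image_of_mem _ hB))
      obtain ⟨y, hy, hyx⟩ := h1 hx
      have h3 : y = x := Subtype.ext hyx
      exact h3 ▸ hy
    · apply sSup_le
      rintro _ ⟨B, hB, rfl⟩
      exact Subgroup.comap_mono (le_sSup hB)
  rw [e]
  apply Wielandt.sSup_isSubnormal
  rintro _ ⟨B, hB, rfl⟩
  exact hsn B hB

/-- Relative form of S0539: a family `S` of subnormal subgroups of `K`, closed under
`K`-conjugation, and a proper subfamily `S₀`: some member of `S \ S₀` normalizes `⟨S₀⟩`. -/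
theorem exists_mem_normalizing [Finite G] (K : Subgroup G) (S S₀ : Set (Subgroup G))
    (hSK : ∀ U ∈ S, U ≤ K) (hsn : ∀ U ∈ S, (U.subgroupOf K).IsSubnormal)
    (hconj : ∀ U ∈ S, ∀ g ∈ K, MulAut.conj g • U ∈ S) (h₀ : S₀ ⊂ S) :
    ∃ X ∈ S, X ∉ S₀ ∧ X ≤ normalizer ((sSup S₀ : Subgroup G) : Set G) := by
  have hJK : sSup S₀ ≤ K := sSup_le (fun U hU => hSK U (h₀.subset hU))
  by_cases hn : K ≤ normalizer ((sSup S₀ : Subgroup G) : Set G)
  · obtain ⟨X, hXS, hXS₀⟩ := Set.exists_of_ssubset h₀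
    exact ⟨X, hXS, hXS₀, (hSK X hXS).trans hn⟩
  · have hsn' : ((sSup S₀ : Subgroup G).subgroupOf K).IsSubnormal :=
      subgroupOf_sSup_isSubnormal K S₀ (fun B hB => hSK B (h₀.subset hB))
        (fun B hB => hsn B (h₀.subset hB))
    obtain ⟨x, hxK, hx1, hx2⟩ := Wielandt.exists_conj_ne_le_normalizer_of_subgroupOf hJK hsn' hn
    have hex : ∃ U ∈ S₀, MulAut.conj x • U ∉ S₀ := by
      by_contra hall
      push Not at hall
      apply hx1
      apply Wielandt.smul_eq_of_le
      rw [Subgroup.pointwise_smul_subset_iff]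
      apply sSup_le
      intro U hU
      rw [← Subgroup.pointwise_smul_subset_iff]
      exact le_sSup (hall U hU)
    obtain ⟨U, hU, hU'⟩ := hex
    refine ⟨MulAut.conj x • U, hconj U (h₀.subset hU) x hxK, hU', ?_⟩
    exact (Subgroup.pointwise_smul_le_pointwise_smul_iff.mpr (le_sSup hU)).trans hx2

/-- If conjugation by `x` maps the family `T` into itself, `x` normalizes `⟨T⟩`. -/
theorem mem_normalizer_sSup [Finite G] (T : Set (Subgroup G)) (x : G)
    (h : ∀ B ∈ T, MulAut.conj x • B ∈ T) :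
    x ∈ normalizer ((sSup T : Subgroup G) : Set G) := by
  rw [← Wielandt.conj_smul_eq_iff]
  apply Wielandt.smul_eq_of_le
  rw [Subgroup.pointwise_smul_subset_iff]
  apply sSup_le
  intro U hU
  rw [← Subgroup.pointwise_smul_subset_iff]
  exact le_sSup (h U hU)

/-- S0541 (Matsuyama). -/
theorem matsuyama [Finite G] (p : ℕ) [Fact p.Prime] (Z Y : Subgroup G)
    (h : ∀ g : G, IsPGroup p ↥(⨆ y ∈ Y, MulAut.conj (y * g) • Z)) :
    ∃ P : Sylow p G, Y ≤ normalizer ((⨆ g ∈ {g : G | MulAut.conj g • Z ≤ (P : Subgroup G)},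
      MulAut.conj g • Z : Subgroup G) : Set G) := by
  let F : Set (Subgroup G) → Prop := fun T => (∀ B ∈ T, ∃ g : G, B = MulAut.conj g • Z) ∧
    (∀ B ∈ T, ∀ y ∈ Y, MulAut.conj y • B ∈ T) ∧ IsPGroup p ↥(sSup T : Subgroup G)
  have hF0 : F ∅ := ⟨by simp, by simp, by rw [sSup_empty]; exact IsPGroup.of_bot⟩
  obtain ⟨T₀, -, hT₀⟩ := Finite.exists_le_maximal (p := F) hF0
  obtain ⟨hTc, hTY, hTp⟩ := hT₀.prop
  obtain ⟨P, hP⟩ := hTp.exists_le_sylow
  refine ⟨P, ?_⟩
  let SP : Set (Subgroup G) := {B | (∃ g : G, B = MulAut.conj g • Z) ∧ B ≤ (P : Subgroup G)}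
  have hsub : T₀ ⊆ SP := fun B hB => ⟨hTc B hB, (le_sSup hB).trans hP⟩
  have heq : T₀ = SP := by
    by_contra hne
    have hss : T₀ ⊂ SP := ⟨hsub, fun h' => hne (Set.Subset.antisymm hsub h')⟩
    have hnilP : Group.IsNilpotent (P : Subgroup G) := P.isPGroup'.isNilpotent
    obtain ⟨X, hXS, hXT, hXN⟩ := exists_mem_normalizing (P : Subgroup G) SP T₀ (fun U hU => hU.2)
      (fun U _ => Wielandt.isSubnormal_of_isNilpotent _)
      (by
        rintro U ⟨⟨g, rfl⟩, hUP⟩ x hx
        refine ⟨⟨x * g, by rw [map_mul, mul_smul]⟩, ?_⟩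
        have h1 : MulAut.conj x • (MulAut.conj g • Z) ≤ MulAut.conj x • (P : Subgroup G) :=
          Subgroup.pointwise_smul_le_pointwise_smul_iff.mpr hUP
        rwa [(Wielandt.conj_smul_eq_iff x _).2 (le_normalizer hx)] at h1) hss
    obtain ⟨g₀, rfl⟩ := hXS.1
    let T' : Set (Subgroup G) := {B | ∃ y ∈ Y, B = MulAut.conj (y * g₀) • Z}
    have hF1 : F (T₀ ∪ T') := by
      refine ⟨?_, ?_, ?_⟩
      · rintro B (hB | ⟨y, -, rfl⟩)
        · exact hTc B hB
        · exact ⟨_, rfl⟩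
      · rintro B (hB | ⟨y, hy, rfl⟩) y' hy'
        · exact Or.inl (hTY B hB y' hy')
        · exact Or.inr ⟨y' * y, Y.mul_mem hy' hy, by rw [← mul_smul, ← map_mul, mul_assoc]⟩
      · have hE := h g₀
        have hEN : (⨆ y ∈ Y, MulAut.conj (y * g₀) • Z) ≤
            normalizer ((sSup T₀ : Subgroup G) : Set G) := by
          apply iSup₂_le
          intro y hy
          rw [map_mul, mul_smul]
          intro z hz
          rw [Subgroup.mem_pointwise_smul_iff_inv_smul_mem] at hz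
          have h1 := hXN hz
          have hyN : y ∈ normalizer ((sSup T₀ : Subgroup G) : Set G) :=
            mem_normalizer_sSup T₀ y (fun B hB => hTY B hB y hy)
          have h2 : z = y * ((MulAut.conj y)⁻¹ • z) * y⁻¹ := by
            have : MulAut.conj y • ((MulAut.conj y)⁻¹ • z) = z := smul_inv_smul _ _
            exact this.symm
          rw [h2]
          exact mul_mem (mul_mem hyN h1) (inv_mem hyN)
        have hsup : IsPGroup p ↥((sSup T₀ : Subgroup G) ⊔
            ⨆ y ∈ Y, MulAut.conj (y * g₀) • Z : Subgroup G) :=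
          IsPGroup.to_sup_of_normal_left' hTp hE hEN
        refine hsup.to_le ?_
        rw [sSup_union]
        apply sup_le_sup_left
        apply sSup_le
        rintro B ⟨y, hy, rfl⟩
        exact le_iSup₂ (f := fun y (_ : y ∈ Y) => MulAut.conj (y * g₀) • Z) y hy
    have hle : T₀ ∪ T' ≤ T₀ := hT₀.le_of_ge hF1 Set.subset_union_left
    exact hXT (hle (Or.inr ⟨1, Y.one_mem, by rw [one_mul]⟩))
  have hW : (⨆ g ∈ {g : G | MulAut.conj g • Z ≤ (P : Subgroup G)},
      MulAut.conj g • Z : Subgroup G) = sSup T₀ := by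
    rw [heq]
    apply le_antisymm
    · apply iSup₂_le
      intro g hg
      exact le_sSup ⟨⟨g, rfl⟩, hg⟩
    · apply sSup_le
      rintro B ⟨⟨g, rfl⟩, hB⟩
      exact le_iSup₂ (f := fun g (_ : g ∈ {g : G | MulAut.conj g • Z ≤ (P : Subgroup G)}) =>
        MulAut.conj g • Z) g hB
  rw [hW]
  intro y hy
  exact mem_normalizer_sSup T₀ y (fun B hB => hTY B hB y hy)

/-- S0540 (uniqueness lemma of zipper type). -/
theorem zipper_unique [Finite G] (A : Subgroup G) (U : Set (Subgroup G)) (hU : U.Nonempty)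
    (S : Subgroup G → Set (Subgroup G))
    (hS : ∀ V B : Subgroup G, B ∈ S V ↔
      (∃ g : G, B = MulAut.conj g • A) ∧ B ≤ V ∧ (B.subgroupOf V).IsSubnormal)
    (h2 : ∀ V ∈ U, ∀ W ∈ U, ∀ B ∈ S W, B ≤ V → B ∈ S V)
    (h3 : ∀ V ∈ U, ∀ W ∈ U, ∃ X ∈ U,
      normalizer ((sSup (S V ∩ S W) : Subgroup G) : Set G) ≤ X) :
    ∃ M ∈ U, ∀ V ∈ U, V ≤ M := by
  classical
  have hconj : ∀ V : Subgroup G, ∀ B ∈ S V, ∀ v ∈ V, MulAut.conj v • B ∈ S V := by
    intro V B hB v hv
    rw [hS] at hB ⊢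
    obtain ⟨⟨g, rfl⟩, hBV, hsn⟩ := hB
    have hvV : MulAut.conj v • V = V := (Wielandt.conj_smul_eq_iff v V).2 (le_normalizer hv)
    refine ⟨⟨v * g, by rw [map_mul, mul_smul]⟩, ?_, ?_⟩
    · have h4 := (Subgroup.pointwise_smul_le_pointwise_smul_iff (a := MulAut.conj v)).mpr hBV
      rwa [hvV] at h4
    · have h4 := Wielandt.subgroupOf_smul_isSubnormal (MulAut.conj v) hsn
      rwa [hvV] at h4
  by_cases huniq : ∀ M₁ M₂ : Subgroup G, Maximal (· ∈ U) M₁ → Maximal (· ∈ U) M₂ → M₁ = M₂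
  · obtain ⟨V₀, hV₀⟩ := hU
    obtain ⟨M, -, hM⟩ := Finite.exists_le_maximal (p := (· ∈ U)) hV₀
    refine ⟨M, hM.prop, fun V hV => ?_⟩
    obtain ⟨M', hVM', hM'⟩ := Finite.exists_le_maximal (p := (· ∈ U)) hV
    rw [huniq M M' hM hM']; exact hVM'
  · exfalso
    push Not at huniq
    obtain ⟨M₁, M₂, hM₁, hM₂, hne⟩ := huniq
    have hne' : Nonempty {VW : Subgroup G × Subgroup G //
        Maximal (· ∈ U) VW.1 ∧ Maximal (· ∈ U) VW.2 ∧ VW.1 ≠ VW.2} :=
      ⟨⟨(M₁, M₂), hM₁, hM₂, hne⟩⟩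
    obtain ⟨⟨⟨V, W⟩, hV, hW, hVW⟩, hmax⟩ := Finite.exists_max
      (fun VW : {VW : Subgroup G × Subgroup G //
        Maximal (· ∈ U) VW.1 ∧ Maximal (· ∈ U) VW.2 ∧ VW.1 ≠ VW.2} => (S VW.1.1 ∩ S VW.1.2).ncard)
    have key : ∀ V W M : Subgroup G, Maximal (· ∈ U) V → Maximal (· ∈ U) W →
        Maximal (· ∈ U) M →
        (∀ M' : Subgroup G, Maximal (· ∈ U) M' → M' ≠ V →
          (S V ∩ S M').ncard ≤ (S V ∩ S W).ncard) →
        normalizer ((sSup (S V ∩ S W) : Subgroup G) : Set G) ≤ M → M = V := by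
      intro V W M hV hW hM hmax hN
      have hD : sSup (S V ∩ S W) ≤ M := le_trans le_normalizer hN
      by_cases hcase : S V ∩ S W = S V
      · have hVN : V ≤ normalizer ((sSup (S V ∩ S W) : Subgroup G) : Set G) := by
          intro v hv
          rw [hcase]
          exact mem_normalizer_sSup (S V) v (fun B hB => hconj V B hB v hv)
        exact (hV.eq_of_le hM.prop (hVN.trans hN)).symm
      · have hss : S V ∩ S W ⊂ S V :=
          ⟨Set.inter_subset_left, fun h' => hcase (Set.Subset.antisymm Set.inter_subset_left h')⟩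
        obtain ⟨B, hBV, hBn, hBN⟩ := exists_mem_normalizing V (S V) (S V ∩ S W)
          (fun B hB => ((hS V B).1 hB).2.1) (fun B hB => ((hS V B).1 hB).2.2) (hconj V) hss
        by_contra hMV
        have hBM : B ∈ S M := h2 M hM.prop V hV.prop B hBV (hBN.trans hN)
        have hsub : S V ∩ S W ⊂ S V ∩ S M := by
          refine ⟨?_, ?_⟩
          · intro C hC
            exact ⟨hC.1, h2 M hM.prop V hV.prop C hC.1 ((le_sSup hC).trans hD)⟩
          · intro h'
            exact hBn (h' ⟨hBV, hBM⟩)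
        have hlt := Set.ncard_lt_ncard hsub (Set.toFinite _)
        have hle := hmax M hM hMV
        omega
    obtain ⟨X, hXU, hXN⟩ := h3 V hV.prop W hW.prop
    obtain ⟨M, hXM, hM⟩ := Finite.exists_le_maximal (p := (· ∈ U)) hXU
    have e1 : M = V := key V W M hV hW hM
      (fun M' hM' hne' => hmax ⟨(V, M'), hV, hM', Ne.symm hne'⟩) (hXN.trans hXM)
    have e2 : M = W := key W V M hW hV hM
      (fun M' hM' hne' => by
        have h5 := hmax ⟨(W, M'), hW, hM', Ne.symm hne'⟩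
        rw [Set.inter_comm (S W) (S V)]
        exact h5)
      (by rw [Set.inter_comm]; exact hXN.trans hXM)
    exact hVW (e1.symm.trans e2)

end Cfsg.Agent.Lib.Helper9.Zip
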